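import Cfsg.Agent.OrthCubic.SmallGroup
import Cfsg.Agent.Coprime.Action
import Cfsg.Agent.LocalEven50.Isolated
import Mathlib.NumberTheory.Multiplicity

/-!
# A large prime order element with abelian, self-normalising centraliser

* `commute_of_normalises`: it centralises every group of coprime order it normalises.
* `exists_common_pGroup`: two invariant `p`-subgroups are, up to a centralising conjugation, in a third.
* `commute_all`: if it centralises the invariant `p`-subgroups, it is central.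
* `exists_prime_root`, `exists_prime_minus`: primes of `q ^ r - 1` and `q ^ r + 1` above `2 r`.
-/

set_option autoImplicit false
set_option maxHeartbeats 400000

namespace CfsgLib.OrthExtGen

open Module

section

variable {F V : Type*} [Field F] [Fintype F] [AddCommGroup V] [Module F V] [FiniteDimensional F V]

/-- An element of prime order above the dimension, the dimension not a power of two, centralises every
group of coprime order it normalises. -/
theorem commute_of_normalises {s ℓ : ℕ} [Fact s.Prime] [Fact ℓ.Prime] (hn : finrank F V < s)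
    (hpow : ∀ k, finrank F V ≠ 2 ^ k) (hℓs : ℓ ≠ s) (hℓF : (ℓ : F) ≠ 0) {t : (Module.End F V)ˣ}
    (ht : t ^ s = 1) {R : Subgroup (Module.End F V)ˣ} (hR : IsPGroup ℓ R)
    (hnorm : ∀ r ∈ R, t * r * t⁻¹ ∈ R) : ∀ r ∈ R, t * r = r * t :=
  OrthCubic.commute_of_normalises_lt hn (fun k h => absurd h (hpow k)) hℓs hℓF ht hR hnorm

end

section

variable {X : Type*} [Group X] [Finite X] {s : ℕ} [hs : Fact s.Prime] {τ : X}

/-- A normal complement of a Sylow subgroup containing `τ`, the latter centralised by `τ`. -/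
theorem exists_complement (hτ : orderOf τ = s) (hconj : ∀ g, Commute τ (g * τ * g⁻¹) → Commute τ g)
    (habel : ∀ a b, Commute τ a → Commute τ b → Commute a b) :
    ∃ (N : Subgroup X) (P : Sylow s X), N.Normal ∧ (Nat.card N).Coprime s ∧
      (∀ g ∈ (P : Subgroup X), Commute τ g) ∧ Subgroup.IsComplement' N (P : Subgroup X) := by
  obtain ⟨P, hP⟩ := (IsPGroup.of_card (n := 1) (by rw [Nat.card_zpowers, hτ, pow_one]) :
    IsPGroup s (Subgroup.zpowers τ)).exists_le_sylow
  have hτP : τ ∈ (P : Subgroup X) := hP (Subgroup.mem_zpowers τ)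
  have hPC : ∀ g ∈ (P : Subgroup X), Commute τ g := by
    intro g hg
    have hnil : Group.IsNilpotent (P : Subgroup X) := P.2.isNilpotent
    set D := (Subgroup.centralizer ({τ} : Set X)).subgroupOf (P : Subgroup X) with hD
    by_contra hgC
    have hlt : D < ⊤ := lt_of_le_of_ne le_top fun e => hgC (Subgroup.mem_centralizer_singleton_iff.1
      (show (⟨g, hg⟩ : (P : Subgroup X)) ∈ D by rw [e]; exact Subgroup.mem_top _)).symm
    obtain ⟨n, hn, hnD⟩ := SetLike.exists_of_lt (Group.normalizerCondition_of_isNilpotent D hlt)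
    refine hnD (Subgroup.mem_centralizer_singleton_iff.2 (hconj _ ?_).symm)
    exact (Subgroup.mem_centralizer_singleton_iff.1 ((Subgroup.mem_normalizer_iff.1 hn ⟨τ, hτP⟩).1
      (Subgroup.mem_centralizer_singleton_iff.2 rfl))).symm
  have hnorm : Subgroup.normalizer ((P : Subgroup X) : Set X)
      ≤ Subgroup.centralizer ((P : Subgroup X) : Set X) := fun g hg =>
    Subgroup.mem_centralizer_iff.2 fun y hy =>
      habel y g (hPC y hy) (hconj g (hPC _ ((Subgroup.mem_normalizer_iff.1 hg τ).1 hτP)))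
  exact ⟨_, P, inferInstance,
    (hs.out.coprime_iff_not_dvd.2 (MonoidHom.not_dvd_card_ker_transferSylow P hnorm)).symm, hPC,
    MonoidHom.ker_transferSylow_isComplement' P hnorm⟩

private theorem le_normalizer_zpowers {R : Subgroup X} (hR : ∀ r ∈ R, τ * r * τ⁻¹ ∈ R) :
    Subgroup.zpowers τ ≤ Subgroup.normalizer (R : Set X) :=
  Subgroup.zpowers_le.2 <| Subgroup.mem_normalizer_fintype hR

/-- Two invariant `p`-subgroups lie, after conjugating one by a centralising element, in one invariant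
`p`-subgroup. -/
theorem exists_common_pGroup {p : ℕ} [hp : Fact p.Prime] (hps : p ≠ s) (hτ : orderOf τ = s)
    (hconj : ∀ g, Commute τ (g * τ * g⁻¹) → Commute τ g)
    (habel : ∀ a b, Commute τ a → Commute τ b → Commute a b) {R1 R2 : Subgroup X} (h1 : IsPGroup p R1)
    (h2 : IsPGroup p R2) (ht1 : ∀ r ∈ R1, τ * r * τ⁻¹ ∈ R1) (ht2 : ∀ r ∈ R2, τ * r * τ⁻¹ ∈ R2) :
    ∃ c, Commute τ c ∧ ∃ R : Subgroup X, IsPGroup p R ∧ (∀ r ∈ R, τ * r * τ⁻¹ ∈ R) ∧ R1 ≤ R ∧
      ∀ r ∈ R2, c * r * c⁻¹ ∈ R := by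
  classical
  obtain ⟨N, P, hN, hcop, -, hcompl⟩ := exists_complement hτ hconj habel
  have hle : ∀ R : Subgroup X, IsPGroup p R → R ≤ N := by
    intro R hR r hr
    obtain ⟨i, hi⟩ := hR ⟨r, hr⟩
    have hi' : r ^ p ^ i = 1 := by simpa using congrArg Subtype.val hi
    obtain ⟨j, hj⟩ := IsPGroup.iff_card.1 P.2
    have hidx : N.index = s ^ j := by rw [hcompl.symm.index_eq_card, hj]
    rw [← QuotientGroup.eq_one_iff (N := N), ← orderOf_eq_one_iff]
    refine Nat.eq_one_of_dvd_coprimes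
      (Nat.Coprime.pow i j ((Nat.coprime_primes hp.out hs.out).2 hps)) ?_ ?_
    · exact orderOf_dvd_of_pow_eq_one (by rw [← QuotientGroup.mk_pow, hi', QuotientGroup.mk_one])
    · exact hidx ▸ orderOf_dvd_natCard _
  set A := Subgroup.zpowers τ
  have hAN : A ≤ Subgroup.normalizer (N : Set X) := Subgroup.le_normalizer_of_normal
  have hcop' : (Nat.card A).Coprime (Nat.card N) := by rw [Nat.card_zpowers, hτ]; exact hcop.symm
  have hsolv : Group.IsSolvable A ∨ Group.IsSolvable N :=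
    Or.inl inferInstance
  obtain ⟨S1, hR1, hS1⟩ := Coprime.exists_invariant_sylow_ge hAN hcop' hsolv (hle _ h1) h1
    (le_normalizer_zpowers ht1)
  obtain ⟨S2, hR2, hS2⟩ := Coprime.exists_invariant_sylow_ge hAN hcop' hsolv (hle _ h2) h2
    (le_normalizer_zpowers ht2)
  obtain ⟨g, hg, hgS⟩ := Coprime.exists_conj_map_sylow S2 S1
  obtain ⟨c, hc, hcS⟩ := Coprime.exists_conj_eq_of_invariant hAN hcop' hsolv hS2 hS1 hg hgS
  refine ⟨c, Subgroup.mem_centralizer_iff.1 (Subgroup.mem_inf.1 hc).2 τ (Subgroup.mem_zpowers τ),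
    _, S1.2.map _, fun r hr => (Subgroup.mem_normalizer_iff.1 (hS1 (Subgroup.mem_zpowers τ)) r).1 hr,
    hR1, fun r hr => ?_⟩
  rw [← hcS]
  exact Subgroup.smul_mem_pointwise_smul _ (MulAut.conj c) _ (hR2 hr)

variable {F V : Type*} [Field F] [Fintype F] [AddCommGroup V] [Module F V] [FiniteDimensional F V]
  {p : ℕ} [hp : Fact p.Prime] [CharP F p]

/-- An element of large prime order centralising the invariant subgroups of defining characteristic is
central. -/
theorem commute_all (ρ : X →* (Module.End F V)ˣ) (hρ : Function.Injective ρ) (hτ : orderOf τ = s)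
    (hn : finrank F V < s) (hpow : ∀ k, finrank F V ≠ 2 ^ k)
    (hconj : ∀ g, Commute τ (g * τ * g⁻¹) → Commute τ g)
    (habel : ∀ a b, Commute τ a → Commute τ b → Commute a b)
    (hpgrp : ∀ R : Subgroup X, IsPGroup p R → (∀ r ∈ R, τ * r * τ⁻¹ ∈ R) → ∀ r ∈ R, Commute τ r) :
    ∀ g, Commute τ g := by
  classical
  obtain ⟨N, P, hN, hcop, hPC, hcompl⟩ := exists_complement hτ hconj habel
  set C := Subgroup.centralizer ({τ} : Set X)
  suffices hNC : N ≤ C by
    intro g
    obtain ⟨⟨a, b⟩, hab⟩ := hcompl.2 g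
    rw [← hab]
    exact Commute.mul_right (Subgroup.mem_centralizer_singleton_iff.1 (hNC a.2)).symm (hPC b b.2)
  have hidx : (C.subgroupOf N).index = 1 := by
    refine Nat.eq_one_iff_not_exists_prime_dvd.2 fun ℓ hℓ hdvd => ?_
    have : Fact ℓ.Prime := ⟨hℓ⟩
    have hℓs : ℓ ≠ s := fun e => hs.out.coprime_iff_not_dvd.1 hcop.symm
      (e ▸ hdvd.trans (Subgroup.index_dvd_card _))
    obtain ⟨S, hS⟩ := LocalEven50.exists_invariant_sylow (p := s) (x := τ)
      (IsPGroup.of_card (n := 1) (by rw [Nat.card_zpowers, hτ, pow_one])) N hcop ℓ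
    have hSp : IsPGroup ℓ ((S : Subgroup N).map N.subtype) := S.2.map _
    have hSt : ∀ r ∈ (S : Subgroup N).map N.subtype, τ * r * τ⁻¹ ∈ (S : Subgroup N).map N.subtype :=
      fun r hr => (Subgroup.mem_normalizer_iff.1 hS r).1 hr
    have hSC : ∀ r ∈ (S : Subgroup N).map N.subtype, Commute τ r := by
      intro r hr
      by_cases hℓF : (ℓ : F) = 0
      · obtain rfl : p = ℓ := (Nat.prime_dvd_prime_iff_eq hp.out hℓ).1 ((CharP.cast_eq_zero_iff F p ℓ).1 hℓF)
        exact hpgrp _ hSp hSt r hr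
      · have h := commute_of_normalises hn hpow hℓs hℓF (t := ρ τ)
          (by rw [← map_pow, ← hτ, pow_orderOf_eq_one, map_one]) (hSp.map ρ)
          (by
            rintro _ ⟨x, hx, rfl⟩
            exact ⟨_, hSt x hx, by simp⟩) (ρ r) (Subgroup.mem_map_of_mem ρ hr)
        exact hρ (by rw [map_mul, map_mul, h])
    exact S.not_dvd_index (hdvd.trans (Subgroup.index_dvd_of_le fun g hg =>
      Subgroup.mem_subgroupOf.2 (Subgroup.mem_centralizer_singleton_iff.2
        (hSC g (Subgroup.mem_map_of_mem N.subtype hg)).symm)))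
  intro g hg
  exact (show (⟨g, hg⟩ : N) ∈ C.subgroupOf N by rw [Subgroup.index_eq_one.1 hidx]; exact Subgroup.mem_top _)

end

/-- A sum of powers exceeding `r` in absolute value has a prime other than `r`. -/
private theorem exists_prime_geom {r : ℕ} (hr : r.Prime) (hr2 : r ≠ 2) {a : ℤ}
    (hbig : r < (∑ i ∈ Finset.range r, a ^ i).natAbs) :
    ∃ s : ℕ, s.Prime ∧ 2 * r < s ∧ ((a : ZMod s) ^ r = 1 ∧ (a : ZMod s) ≠ 1) := by
  set A := ∑ i ∈ Finset.range r, a ^ i with hA
  have hgeom : A * (a - 1) = a ^ r - 1 := geom_sum_mul a r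
  have : Fact r.Prime := ⟨hr⟩
  obtain ⟨s, hs, hsA, hsr⟩ : ∃ s : ℕ, s.Prime ∧ (s : ℤ) ∣ A ∧ s ≠ r := by
    by_contra! hall
    obtain ⟨j, hj⟩ : ∃ j, A.natAbs = r ^ j :=
      ⟨_, Nat.eq_prime_pow_of_unique_prime_dvd (by omega)
        (fun {d} hd hd' => hall d hd (Int.natCast_dvd.2 hd'))⟩
    have hj2 : 2 ≤ j := by
      by_contra hlt
      have : r ^ j ≤ r ^ 1 := Nat.pow_le_pow_right hr.pos (by omega)
      simp at this; omega
    have hr2A : (r : ℤ) ^ 2 ∣ A := by
      rw [← Nat.cast_pow]; exact Int.natCast_dvd.2 (hj ▸ pow_dvd_pow r hj2)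
    obtain ⟨b, hb⟩ : ∃ b : ℤ, a = 1 + r * b := by
      have h := ((dvd_pow_self (r : ℤ) two_ne_zero).trans hr2A).trans (Dvd.intro _ hgeom)
      rw [← ZMod.intCast_zmod_eq_zero_iff_dvd, Int.cast_sub, Int.cast_pow, Int.cast_one, ZMod.pow_card,
        sub_eq_zero] at h
      obtain ⟨b, hb⟩ := (ZMod.intCast_zmod_eq_zero_iff_dvd (a - 1) r).1 (by simp [h])
      exact ⟨b, by linarith⟩
    have h := odd_sq_dvd_geom_sum₂_sub (R := ℤ) (a := 1) b (hr.odd_of_ne_two hr2)
    simp only [one_pow, mul_one, ← hb] at h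
    have h3 : (r : ℤ) ^ 2 ∣ r := (dvd_sub_right hr2A).1 h
    rw [← Nat.cast_pow, Int.natCast_dvd_natCast] at h3
    have := Nat.le_of_dvd hr.pos h3
    nlinarith [hr.two_le]
  have : Fact s.Prime := ⟨hs⟩
  have hA0 : (A : ZMod s) = 0 := (ZMod.intCast_zmod_eq_zero_iff_dvd A s).2 hsA
  have h1 : (a : ZMod s) ^ r = 1 := by
    have := congrArg (Int.cast : ℤ → ZMod s) hgeom
    simp [hA0] at this
    exact (sub_eq_zero.1 this.symm)
  have hne : (a : ZMod s) ≠ 1 := by
    intro h
    simp only [hA, Int.cast_sum, Int.cast_pow, h, one_pow, Finset.sum_const, Finset.card_range,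
      nsmul_eq_mul, mul_one] at hA0
    exact hsr ((Nat.prime_dvd_prime_iff_eq hs hr).1 ((ZMod.natCast_eq_zero_iff r s).1 hA0))
  refine ⟨s, hs, ?_, h1, hne⟩
  have hord := orderOf_eq_prime h1 hne
  have hne0 : (a : ZMod s) ≠ 0 := fun h => by rw [h, zero_pow hr.ne_zero] at h1; exact zero_ne_one h1
  have hdvd : r ∣ s - 1 := hord ▸ orderOf_dvd_of_pow_eq_one (ZMod.pow_card_sub_one_eq_one hne0)
  have hs2 := hs.two_le
  obtain ⟨t, ht⟩ := hdvd
  rcases (show t = 0 ∨ t = 1 ∨ 2 ≤ t by omega) with rfl | rfl | h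
  · omega
  · have hso : Even s := by
      rw [show s = r + 1 by omega]
      exact (hr.odd_of_ne_two hr2).add_one
    have := hs.even_iff.1 hso
    have := hr.two_le
    omega
  · have : r * 2 ≤ r * t := Nat.mul_le_mul_left r h
    omega

private theorem not_char_dvd {F : Type*} [Field F] [Fintype F] {r s : ℕ} [Fact s.Prime] (hr : r ≠ 0)
    {a : ZMod s} (ha : a = (Fintype.card F : ℕ) ∨ a = -((Fintype.card F : ℕ) : ZMod s)) (h : a ^ r = 1) :
    (s : F) ≠ 0 := by
  intro hs
  obtain ⟨p, hp⟩ := CharP.exists F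
  obtain ⟨m, hpp, hm⟩ := FiniteField.card F p
  have hps : p = s := (Nat.prime_dvd_prime_iff_eq hpp Fact.out).1 ((CharP.cast_eq_zero_iff F p s).1 hs)
  subst hps
  have h0 : ((Fintype.card F : ℕ) : ZMod p) = 0 :=
    (ZMod.natCast_eq_zero_iff _ _).2 (hm ▸ dvd_pow_self p m.pos.ne')
  rw [h0, neg_zero, or_self] at ha
  rw [ha, zero_pow hr] at h
  exact zero_ne_one h

/-- An element of prime order above `2 r` of an extension of degree `r` outside the ground field. -/
theorem exists_prime_root {F K : Type*} [Field F] [Fintype F] [Field K] [Algebra F K] {r : ℕ}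
    (hr : r.Prime) (hr2 : r ≠ 2) (hdeg : finrank F K = r) :
    ∃ (s : ℕ) (k : K), s.Prime ∧ 2 * r < s ∧ orderOf k = s ∧ (s : F) ≠ 0 ∧
      k ∉ Set.range (algebraMap F K) := by
  have : FiniteDimensional F K := Module.finite_of_finrank_pos (hdeg ▸ hr.pos)
  have : Finite K := Module.finite_of_finite F
  have hq : 2 ≤ Fintype.card F := Fintype.one_lt_card
  set q := Fintype.card F with hqdef
  obtain ⟨s, hs, hrs, hpow, hne⟩ := exists_prime_geom hr hr2 (a := (q : ℤ)) (by
    have h : r < ∑ i ∈ Finset.range r, q ^ i := by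
      calc r = ∑ i ∈ Finset.range r, 1 := by simp
        _ < _ := Finset.sum_lt_sum (fun i _ => Nat.one_le_pow _ _ (by omega))
          ⟨1, Finset.mem_range.2 hr.one_lt, by rw [pow_one]; omega⟩
    rw [show (∑ i ∈ Finset.range r, (q : ℤ) ^ i) = ((∑ i ∈ Finset.range r, q ^ i : ℕ) : ℤ) by
      push_cast; rfl, Int.natAbs_natCast]
    exact h)
  have : Fact s.Prime := ⟨hs⟩
  rw [Int.cast_natCast] at hpow hne
  have hdvd : s ∣ Nat.card Kˣ := by
    rw [Nat.card_units, Module.natCard_eq_pow_finrank (K := F), hdeg, Nat.card_eq_fintype_card, ← hqdef,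
      ← ZMod.natCast_eq_zero_iff, Nat.cast_sub (Nat.one_le_pow _ _ (by omega))]
    simp [hpow]
  obtain ⟨k, hk⟩ := exists_prime_orderOf_dvd_card' s hdvd
  have hk0 : orderOf (k : K) = s := by rw [orderOf_units, hk]
  refine ⟨s, k, hs, hrs, hk0, not_char_dvd hr.ne_zero (Or.inl rfl) hpow, ?_⟩
  rintro ⟨t, ht⟩
  have hto : orderOf t = s := by
    rw [← orderOf_injective (algebraMap F K).toMonoidHom (algebraMap F K).injective t, ← hk0]
    exact congrArg orderOf ht
  have h1 : s ∣ q - 1 := hto ▸ orderOf_dvd_of_pow_eq_one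
    (FiniteField.pow_card_sub_one_eq_one t fun e => k.ne_zero (by rw [← ht, e, map_zero]))
  rw [← ZMod.natCast_eq_zero_iff, Nat.cast_sub (by omega), sub_eq_zero, Nat.cast_one] at h1
  exact hne h1

/-- A prime above `2 r` dividing `q ^ r + 1` with `q` of order `2 r` modulo it. -/
theorem exists_prime_minus (F : Type*) [Field F] [Fintype F] (h2 : (2 : F) ≠ 0) {r : ℕ}
    (hr : r.Prime) (hr2 : r ≠ 2) :
    ∃ s : ℕ, s.Prime ∧ 2 * r < s ∧ (s : F) ≠ 0 ∧ s ∣ Fintype.card F ^ r + 1 ∧
      ∀ j, 0 < j → j < 2 * r → ¬ s ∣ Fintype.card F ^ j - 1 := by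
  have hq : 3 ≤ Fintype.card F := by
    have hq2 : 2 ≤ Fintype.card F := Fintype.one_lt_card
    by_contra h
    have h' : Fintype.card F = 2 := by omega
    exact h2 (by simpa [h'] using Nat.cast_card_eq_zero F)
  set q := Fintype.card F with hqdef
  obtain ⟨s, hs, hrs, hpow, hne⟩ := exists_prime_geom hr hr2 (a := -(q : ℤ)) (by
    set A := ∑ i ∈ Finset.range r, (-(q : ℤ)) ^ i
    have hgeom : A * (-(q : ℤ) - 1) = (-(q : ℤ)) ^ r - 1 := geom_sum_mul _ r
    rw [(hr.odd_of_ne_two hr2).neg_pow] at hgeom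
    have hA : A * (q + 1) = ((q ^ r + 1 : ℕ) : ℤ) := by push_cast; linarith
    have hA' : A.natAbs * (q + 1) = q ^ r + 1 := by
      have := congrArg Int.natAbs hA
      rwa [Int.natAbs_mul, Int.natAbs_natCast, show ((q : ℤ) + 1).natAbs = q + 1 by omega] at this
    have hbase : ∀ i, 2 * (i + 1) + 3 ≤ 3 ^ (i + 2) := fun i => by
      induction i with
      | zero => norm_num
      | succ i ih => rw [pow_succ]; omega
    obtain ⟨i, hi⟩ : ∃ i, r = i + 3 := ⟨r - 3, by have := hr.two_le; omega⟩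
    have hlt : r * (q + 1) < q ^ r + 1 := by
      have h3 : 3 ^ (i + 2) ≤ q ^ (i + 2) := Nat.pow_le_pow_left hq _
      rw [hi, pow_succ]
      nlinarith [hbase i]
    by_contra hle
    have := Nat.mul_le_mul_right (q + 1) (not_lt.1 hle)
    omega)
  have : Fact s.Prime := ⟨hs⟩
  rw [Int.cast_neg, Int.cast_natCast] at hpow hne
  have hqr : (q : ZMod s) ^ r = -1 := by
    rw [(hr.odd_of_ne_two hr2).neg_pow] at hpow
    exact neg_eq_iff_eq_neg.1 hpow
  refine ⟨s, hs, hrs, not_char_dvd hr.ne_zero (Or.inr rfl) hpow, ?_, ?_⟩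
  · rw [← ZMod.natCast_eq_zero_iff]
    simp [hqr]
  intro j hj0 hjr hdvd
  rw [← ZMod.natCast_eq_zero_iff, Nat.cast_sub (Nat.one_le_pow _ _ (by omega)), sub_eq_zero, Nat.cast_pow,
    Nat.cast_one] at hdvd
  have hneg : (-(q : ZMod s)) ^ (2 * j) = 1 := by
    rw [pow_mul, neg_sq, ← pow_mul, mul_comm, pow_mul, hdvd, one_pow]
  have h2j : r ∣ 2 * j := by
    have : Fact r.Prime := ⟨hr⟩
    rw [← orderOf_eq_prime hpow hne]; exact orderOf_dvd_of_pow_eq_one hneg
  have hjr' : j = r := by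
    obtain ⟨t, ht⟩ := (Nat.Coprime.dvd_mul_left ((Nat.coprime_primes hr Nat.prime_two).2 hr2)).1 h2j
    have : t = 1 := by nlinarith
    rw [ht, this, mul_one]
  rw [hjr', hqr] at hdvd
  have : Fact (2 < s) := ⟨by have := hr.two_le; omega⟩
  exact ZMod.neg_one_ne_one hdvd

end CfsgLib.OrthExtGen
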