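import Cfsg.Agent.OrthExtGen.Setup

/-!
# Counting for the extension field

* `exists_large_inter`: involutions fixing a single coset make a large meet of two conjugates.
* `Ext.pairs_le`, `Ext.orbit_le`, `arith`: the counts which a large meet contradicts.
-/

set_option autoImplicit false
set_option linter.unusedSectionVars false
set_option maxHeartbeats 400000

namespace CfsgLib.OrthExtGen

open Matrix Module CfsgLib.OrthMax

/-- A set of involutions, each fixing one coset, gives two conjugates meeting in as many elements. -/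
theorem exists_large_inter {G : Type*} [Group G] [Finite G] (H : Subgroup G) (hH : H ≠ ⊤) (Z : Set G)
    (hZH : Z ⊆ H) (hinv : ∀ z ∈ Z, z * z = 1) (hself : ∀ z ∈ Z, ∀ g, g * z * g⁻¹ ∈ H → g ∈ H) :
    ∃ g ∉ H, Nat.card Z ≤ Nat.card {h : G // h ∈ H ∧ g⁻¹ * h * g ∈ H} := by
  classical
  let _ := Fintype.ofFinite G
  let _ := Fintype.ofFinite (G ⧸ H)
  let t : (G ⧸ H) × Z → G := fun i => i.1.out * i.2 * i.1.out⁻¹
  have hfix : ∀ i x, t i • x = x ↔ x = i.1 := by
    rintro ⟨d, z, hz⟩ x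
    obtain ⟨a, rfl⟩ := QuotientGroup.mk_surjective x
    show (d.out * z * d.out⁻¹) • (QuotientGroup.mk a : G ⧸ H) = QuotientGroup.mk a ↔ _
    rw [MulAction.Quotient.smul_mk, smul_eq_mul, QuotientGroup.eq, ← d.out_eq', QuotientGroup.eq, d.out_eq']
    constructor
    · intro h
      refine hself z hz _ ?_
      have := H.inv_mem h
      rwa [show ((d.out * z * d.out⁻¹ * a)⁻¹ * a)⁻¹ = (a⁻¹ * d.out) * z * (a⁻¹ * d.out)⁻¹ by group] at this
    · intro h
      rw [show (d.out * z * d.out⁻¹ * a)⁻¹ * a = (a⁻¹ * d.out) * z⁻¹ * (a⁻¹ * d.out)⁻¹ by group]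
      exact H.mul_mem (H.mul_mem h (H.inv_mem (hZH hz))) (H.inv_mem h)
  have htinj : Function.Injective t := by
    rintro ⟨d, z⟩ ⟨d', z'⟩ h
    have hd : d = d' := (hfix (d', z') d).1 (by rw [← h]; exact (hfix (d, z) d).2 rfl)
    subst hd
    refine Prod.ext rfl (Subtype.ext ?_)
    exact mul_left_cancel (mul_right_cancel h)
  have htt : ∀ i, t i * t i = 1 := fun i => by
    rw [show t i * t i = i.1.out * ((i.2 : G) * i.2) * i.1.out⁻¹ by simp only [t]; group, hinv _ i.2.2]
    group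
  -- the pairs swapped
  let f : {i : ((G ⧸ H) × Z) × (G ⧸ H) // i.2 ≠ i.1.1} → {p : (G ⧸ H) × (G ⧸ H) // p.2 ≠ p.1} := fun i =>
    ⟨(i.1.2, t i.1.1 • i.1.2), fun h => i.2 ((hfix _ _).1 h)⟩
  have hn : 1 < Fintype.card (G ⧸ H) := by
    rw [← Nat.card_eq_fintype_card]
    exact Subgroup.one_lt_index_of_ne_top hH
  have hdom : Fintype.card {i : ((G ⧸ H) × Z) × (G ⧸ H) // i.2 ≠ i.1.1}
      = Fintype.card (G ⧸ H) * Fintype.card Z * (Fintype.card (G ⧸ H) - 1) := by
    rw [Fintype.card_congr (Equiv.subtypeProdEquivSigmaSubtype fun (a : (G ⧸ H) × Z) (b : G ⧸ H) => b ≠ a.1),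
      Fintype.card_sigma]
    simp
  have hcod : Fintype.card {p : (G ⧸ H) × (G ⧸ H) // p.2 ≠ p.1}
      = Fintype.card (G ⧸ H) * (Fintype.card (G ⧸ H) - 1) := by
    rw [Fintype.card_congr (Equiv.subtypeProdEquivSigmaSubtype fun (a : G ⧸ H) (b : G ⧸ H) => b ≠ a),
      Fintype.card_sigma]
    simp
  have hne : Nonempty {p : (G ⧸ H) × (G ⧸ H) // p.2 ≠ p.1} := by
    rw [← Fintype.card_pos_iff, hcod]
    exact Nat.mul_pos (by omega) (by omega)
  obtain ⟨⟨⟨x, y⟩, hxy⟩, hfib⟩ := Fintype.exists_le_card_fiber_of_mul_le_card f (n := Fintype.card Z)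
    (by rw [hdom, hcod]; exact le_of_eq (by ring))
  set T := Finset.univ.filter fun i => f i = ⟨(x, y), hxy⟩ with hT
  rw [Nat.card_eq_fintype_card]
  rcases T.eq_empty_or_nonempty with he | ⟨i₀, hi₀⟩
  · obtain ⟨g, hg⟩ : ∃ g, g ∉ H := by
      by_contra! h
      exact hH ((Subgroup.eq_top_iff' H).2 h)
    refine ⟨g, hg, ?_⟩
    rw [he, Finset.card_empty] at hfib
    omega
  obtain ⟨a, ha⟩ := QuotientGroup.mk_surjective x
  obtain ⟨b, hb⟩ := QuotientGroup.mk_surjective y
  refine ⟨a⁻¹ * b, fun h => hxy ?_, hfib.trans ?_⟩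
  · show y = x
    rw [← ha, ← hb]
    exact (QuotientGroup.eq.2 h).symm
  have hxy' : ∀ i ∈ T, t i.1.1 • x = y ∧ t i.1.1 • y = x ∧ i.1.2 = x := by
    intro i hi
    have h := congrArg Subtype.val (Finset.mem_filter.1 hi).2
    have h1 : i.1.2 = x := congrArg Prod.fst h
    have h2 : t i.1.1 • i.1.2 = y := congrArg Prod.snd h
    rw [h1] at h2
    exact ⟨h2, by rw [← h2, ← mul_smul, htt, one_smul], h1⟩
  have hmem : ∀ i ∈ T, a⁻¹ * (t i₀.1.1 * t i.1.1) * a ∈ H ∧ b⁻¹ * (t i₀.1.1 * t i.1.1) * b ∈ H := by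
    intro i hi
    constructor
    · have h : (t i₀.1.1 * t i.1.1) • x = x := by rw [mul_smul, (hxy' i hi).1, (hxy' i₀ hi₀).2.1]
      rw [← ha, MulAction.Quotient.smul_mk, eq_comm, QuotientGroup.eq, smul_eq_mul, ← mul_assoc] at h
      exact h
    · have h : (t i₀.1.1 * t i.1.1) • y = y := by rw [mul_smul, (hxy' i hi).2.1, (hxy' i₀ hi₀).1]
      rw [← hb, MulAction.Quotient.smul_mk, eq_comm, QuotientGroup.eq, smul_eq_mul, ← mul_assoc] at h
      exact h
  let e : T → {h : G // h ∈ H ∧ (a⁻¹ * b)⁻¹ * h * (a⁻¹ * b) ∈ H} := fun i =>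
    ⟨a⁻¹ * (t i₀.1.1 * t i.1.1.1) * a, (hmem i i.2).1, by
      have := (hmem i i.2).2
      convert this using 1
      group⟩
  rw [← Fintype.card_coe, ← Nat.card_eq_fintype_card]
  refine Nat.card_le_card_of_injective e fun i j h => ?_
  have h1 := mul_left_cancel (mul_left_cancel (mul_right_cancel (congrArg Subtype.val h)))
  exact Subtype.ext (Subtype.ext (Prod.ext (htinj h1) ((hxy' i i.2).2.2.trans (hxy' j j.2).2.2.symm)))

/-- A map with fibres of at most two points. -/
theorem card_le_two_mul {α β : Type*} [Finite α] [Finite β] (f : α → β)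
    (h : ∀ a b c, f b = f a → f c = f a → b = a ∨ c = a ∨ c = b) : Nat.card α ≤ 2 * Nat.card β := by
  classical
  let _ := Fintype.ofFinite α
  let _ := Fintype.ofFinite β
  rw [Nat.card_eq_fintype_card, Nat.card_eq_fintype_card]
  refine (Finset.card_le_mul_card_image (f := f) Finset.univ 2 fun y _ => ?_).trans
    (Nat.mul_le_mul_left 2 (Finset.card_le_univ _))
  by_contra! h2
  obtain ⟨a, b, d, ha, hb, hd, hab, had, hbd⟩ := Finset.two_lt_card_iff.1 h2
  simp only [Finset.mem_filter, Finset.mem_univ, true_and] at ha hb hd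
  rcases h a b d (by rw [ha, hb]) (by rw [ha, hd]) with e | e | e
  exacts [hab e.symm, had e.symm, hbd e.symm]

variable {F : Type*} [Field F] [Fintype F] {ι : Type} [Fintype ι] [DecidableEq ι]
  {Q : QuadraticForm F (ι → F)}
variable {K : Type*} [Field K] [Algebra F K] [Module K (ι → F)] [IsScalarTower F K (ι → F)]

namespace Ext

variable (c : Ext Q K)
include c

theorem card_K : Nat.card K = Fintype.card F ^ c.r := by
  have := c.fdF
  rw [Module.natCard_eq_pow_finrank (K := F), c.deg, Nat.card_eq_fintype_card]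

theorem card_K_ge : 27 ≤ Nat.card K := by
  rw [c.card_K]
  have hq : 3 ≤ Fintype.card F := by
    have hq2 : 2 ≤ Fintype.card F := Fintype.one_lt_card
    by_contra h
    have h' : Fintype.card F = 2 := by omega
    exact c.two (by simpa [h'] using Nat.cast_card_eq_zero F)
  exact le_trans (Nat.pow_le_pow_left hq 3) (Nat.pow_le_pow_right (by omega) c.three_le_r)

/-- Each line in one anisotropic direction has at most two isotropic vectors. -/
theorem card_isotropic_le (R : Submodule K (ι → F)) {c₀ : ι → F} (hc₀R : c₀ ∈ R) (hc₀ : c.h c₀ c₀ ≠ 0) :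
    Nat.card {w : R // c.h (w : ι → F) w = 0} ≤ 2 * Nat.card K ^ (finrank K R - 1) := by
  have := c.finite
  have := c.fdK
  set e : R := ⟨c₀, hc₀R⟩
  have he : e ≠ 0 := fun h => hc₀ (by rw [show c₀ = 0 from congrArg Subtype.val h]; simp)
  set L := Submodule.span K ({e} : Set R)
  have hL : finrank K (R ⧸ L) = finrank K R - 1 := by
    have := Submodule.finrank_quotient_add_finrank L
    rw [finrank_span_singleton he] at this
    omega
  rw [← hL, ← Module.natCard_eq_pow_finrank (K := K)]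
  have : Finite (R ⧸ L) := Quotient.finite _
  refine card_le_two_mul (fun w => (Submodule.Quotient.mk w.1 : R ⧸ L)) fun a b d hab had => ?_
  have hk : ∀ w : {w : R // c.h (w : ι → F) w = 0}, (Submodule.Quotient.mk w.1 : R ⧸ L) = Submodule.Quotient.mk a.1 →
      w = a ∨ (w.1 : ι → F) = a.1 + (-(2 * c.h (a.1 : ι → F) c₀) / c.h c₀ c₀) • c₀ := by
    intro w hw
    obtain ⟨k, hk⟩ := Submodule.mem_span_singleton.1 ((Submodule.Quotient.eq L).1 hw)
    have hk' : (w.1 : ι → F) = a.1 + k • c₀ := by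
      have := congrArg Subtype.val hk
      simp only [Submodule.coe_smul, AddSubgroupClass.coe_sub, e] at this
      rw [this]; abel
    have h0 := w.2
    simp only [hk', map_add, LinearMap.add_apply, map_smul, LinearMap.smul_apply, smul_eq_mul, a.2,
      c.symm c₀ (a.1 : ι → F), zero_add] at h0
    have h1 : k * (2 * c.h (a.1 : ι → F) c₀ + k * c.h c₀ c₀) = 0 := by linear_combination h0
    rcases mul_eq_zero.1 h1 with rfl | h2
    · exact Or.inl (Subtype.ext (Subtype.ext (by rw [hk', zero_smul, add_zero])))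
    · refine Or.inr ?_
      rw [hk', show k = -(2 * c.h (a.1 : ι → F) c₀) / c.h c₀ c₀ by
        rw [eq_div_iff hc₀]; linear_combination h2]
  rcases hk b hab with rfl | hb
  · exact Or.inl rfl
  rcases hk d had with rfl | hd
  · exact Or.inr (Or.inl rfl)
  exact Or.inr (Or.inr (Subtype.ext (Subtype.ext (hd.trans hb.symm))))

/-- Pairs of members of the rest, the second anisotropic, mapped two to one. -/
theorem pairs_le (R : Submodule K (ι → F)) {c₀ : ι → F} (hc₀R : c₀ ∈ R) (hc₀ : c.h c₀ c₀ ≠ 0)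
    {α : Type*} [Finite α] (f : {x : (ι → F) × (ι → F) // x.1 ∈ R ∧ x.2 ∈ R ∧ c.h x.2 x.2 ≠ 0} → α)
    (hf : ∀ i j, f i = f j → i.1.1 = j.1.1 ∧ (i.1.2 = j.1.2 ∨ i.1.2 = -j.1.2)) :
    (Nat.card K - 2) * Nat.card K ^ (2 * finrank K R - 1) ≤ 2 * Nat.card α := by
  classical
  have := c.finite
  have := c.fdK
  have hd : 1 ≤ finrank K R := Module.finrank_pos_iff_exists_ne_zero.2
    ⟨⟨c₀, hc₀R⟩, fun h => hc₀ (by rw [show c₀ = 0 from congrArg Subtype.val h]; simp)⟩
  have hR : Nat.card R = Nat.card K ^ finrank K R := Module.natCard_eq_pow_finrank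
  obtain ⟨d, hd'⟩ : ∃ d, finrank K R = d + 1 := ⟨_, (Nat.sub_add_cancel hd).symm⟩
  have hn : (Nat.card K - 2) * Nat.card K ^ d ≤ Nat.card {w : R // c.h (w : ι → F) w ≠ 0} := by
    let _ := Fintype.ofFinite R
    have h1 := c.card_isotropic_le R hc₀R hc₀
    rw [hd', Nat.add_sub_cancel] at h1
    rw [Nat.card_eq_fintype_card (α := {w : R // _ = 0})] at h1
    rw [Nat.card_eq_fintype_card (α := {w : R // _ ≠ 0}), Fintype.card_subtype_compl,
      ← Nat.card_eq_fintype_card (α := R), hR, hd', pow_succ', Nat.sub_mul]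
    exact Nat.sub_le_sub_left h1 _
  refine le_trans ?_ (card_le_two_mul f fun i j k hj hk => ?_)
  · calc (Nat.card K - 2) * Nat.card K ^ (2 * finrank K R - 1)
        = Nat.card K ^ finrank K R * ((Nat.card K - 2) * Nat.card K ^ d) := by
          rw [hd', show 2 * (d + 1) - 1 = (d + 1) + d by omega, pow_add]; ring
      _ ≤ Nat.card (R × {w : R // c.h (w : ι → F) w ≠ 0}) := by
          rw [Nat.card_prod, hR]; exact Nat.mul_le_mul_left _ hn
      _ ≤ _ := Nat.card_le_card_of_injective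
          (fun p => (⟨((p.1 : ι → F), (p.2.1 : ι → F)), p.1.2, p.2.1.2, p.2.2⟩ :
            {x : (ι → F) × (ι → F) // x.1 ∈ R ∧ x.2 ∈ R ∧ c.h x.2 x.2 ≠ 0}))
          fun p p' h => by
            have h' := congrArg Subtype.val h
            exact Prod.ext (Subtype.ext (congrArg Prod.fst h'))
              (Subtype.ext (Subtype.ext (congrArg Prod.snd h' :)))
  · obtain ⟨hj1, hj2⟩ := hf j i hj
    obtain ⟨hk1, hk2⟩ := hf k i hk
    rcases hj2 with hj2 | hj2
    · exact Or.inl (Subtype.ext (Prod.ext hj1 hj2))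
    rcases hk2 with hk2 | hk2
    · exact Or.inr (Or.inl (Subtype.ext (Prod.ext hk1 hk2)))
    exact Or.inr (Or.inr (Subtype.ext (Prod.ext (hk1.trans hj1.symm) (hk2.trans hj2.symm))))

/-- At most two representatives on each singular line met. -/
theorem orbit_le {u v : ι → F} (hp : c.Pair u v) (R : Submodule K (ι → F)) (hR : ∀ w ∈ R, c.Rest u v w)
    {c₀ : ι → F} (hc₀R : c₀ ∈ R) (hc₀ : c.h c₀ c₀ ≠ 0) (S : Set (ι → F))
    (hS : ∀ x ∈ S, c.h x x = 0 ∧ x ≠ 0 ∧ ∃ a b : K, ∃ w ∈ R, x = a • u + b • v + w)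
    (hrep : ∀ x ∈ S, ∀ y ∈ S, ∀ k : K, y = k • x → y = x ∨ y = -x) :
    Nat.card S ≤ 3 * Nat.card K ^ finrank K R := by
  classical
  have := c.finite
  have := c.fdK
  have hco : ∀ x : S, c.rest u v x ∈ R ∧
      2 * (c.h v (x : ι → F) * c.h u (x : ι → F)) + c.h (c.rest u v x) (c.rest u v x) = 0 := by
    intro x
    obtain ⟨hx, -, a, b, w, hw, e⟩ := hS x x.2
    have h1 : c.h v (x : ι → F) = a := by simp [e, hp.vu, hp.2.1, (hR w hw).2]
    have h2 : c.h u (x : ι → F) = b := by simp [e, hp.1, hp.2.2, (hR w hw).1]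
    have hr : c.rest u v x = w := by rw [rest, h1, h2, e]; abel
    rw [h1, h2, hr]
    refine ⟨hw, ?_⟩
    rw [e] at hx
    simp only [map_add, map_smul, LinearMap.add_apply, LinearMap.smul_apply, smul_eq_mul, hp.1, hp.2.1,
      hp.2.2, hp.vu, (hR w hw).1, (hR w hw).2, c.symm w u, c.symm w v] at hx
    linear_combination hx
  -- off the first line
  have h1 : Nat.card {x : S // c.h u (x : ι → F) ≠ 0} ≤ 2 * Nat.card K ^ finrank K R := by
    rw [← Module.natCard_eq_pow_finrank]
    refine card_le_two_mul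
      (fun x => (⟨(c.h u (x.1 : ι → F))⁻¹ • c.rest u v x.1, R.smul_mem _ (hco x.1).1⟩ : R))
      fun x y z hy hz => ?_
    have hline : ∀ y : {x : S // c.h u (x : ι → F) ≠ 0},
        (c.h u (y.1 : ι → F))⁻¹ • c.rest u v y.1 = (c.h u (x.1 : ι → F))⁻¹ • c.rest u v x.1 →
        (y.1 : ι → F) = x.1 ∨ (y.1 : ι → F) = -x.1 := by
      intro y e
      set bx := c.h u (x.1 : ι → F) with hbx
      set by' := c.h u (y.1 : ι → F) with hby
      have hbx0 : bx ≠ 0 := x.2
      have hby0 : by' ≠ 0 := y.2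
      have hw : c.rest u v (y.1 : ι → F) = (by' / bx) • c.rest u v x.1 := by
        have := congrArg (by' • ·) e
        rwa [smul_inv_smul₀ hby0, smul_smul, ← div_eq_mul_inv] at this
      have ey := (hco y.1).2
      have ex := (hco x.1).2
      rw [← hby, hw, LinearMap.map_smul₂, map_smul, smul_eq_mul, smul_eq_mul] at ey
      rw [← hbx] at ex
      have ha : c.h v (y.1 : ι → F) = by' / bx * c.h v x.1 := by
        have h := c.two'
        have : (2 : K) * by' * (c.h v (y.1 : ι → F) - by' / bx * c.h v x.1) = 0 := by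
          linear_combination ey - (by' / bx) ^ 2 * ex
            + 2 * c.h v (x.1 : ι → F) * (by' / bx) * div_mul_cancel₀ by' hbx0
        exact sub_eq_zero.1 ((mul_eq_zero.1 this).resolve_left (mul_ne_zero h hby0))
      refine hrep _ x.1.2 _ y.1.2 (by' / bx) ?_
      conv_lhs => rw [c.decomp u v (y.1 : ι → F), ← hby, ha, hw]
      conv_rhs => rw [c.decomp u v (x.1 : ι → F), ← hbx, smul_add, smul_add, smul_smul, smul_smul,
        div_mul_cancel₀ _ hbx0]
    rcases hline y (congrArg Subtype.val hy) with ey | ey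
    · exact Or.inl (Subtype.ext (Subtype.ext ey))
    rcases hline z (congrArg Subtype.val hz) with ez | ez
    · exact Or.inr (Or.inl (Subtype.ext (Subtype.ext ez)))
    exact Or.inr (Or.inr (Subtype.ext (Subtype.ext (ez.trans ey.symm))))
  -- on the hyperplane of the first line
  have h2 : Nat.card {x : S // c.h u (x : ι → F) = 0} ≤ Nat.card K ^ finrank K R := by
    have hiso := c.card_isotropic_le R hc₀R hc₀
    have hle : Nat.card (Kˣ × {x : S // c.h u (x : ι → F) = 0})
        ≤ 2 * Nat.card (K × {w : R // c.h (w : ι → F) w = 0}) := by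
      refine card_le_two_mul (fun i => ((i.1 : K) * c.h v (i.2.1 : ι → F),
        (⟨⟨(i.1 : K) • c.rest u v i.2.1, R.smul_mem _ (hco i.2.1).1⟩, ?_⟩ :
          {w : R // c.h (w : ι → F) w = 0}))) ?_
      · have := (hco i.2.1).2
        rw [i.2.2, mul_zero, mul_zero, zero_add] at this
        simp [this]
      intro i j k hj hk
      have hvec : ∀ j : Kˣ × {x : S // c.h u (x : ι → F) = 0},
          (j.1 : K) * c.h v (j.2.1 : ι → F) = (i.1 : K) * c.h v (i.2.1 : ι → F) →
          (j.1 : K) • c.rest u v j.2.1 = (i.1 : K) • c.rest u v i.2.1 →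
          (j.2.1 : ι → F) = i.2.1 ∧ j = i ∨ (j.2.1 : ι → F) = -i.2.1 ∧ (j.1 : K) = -i.1 := by
        intro j e1 e2
        have e : (j.1 : K) • (j.2.1 : ι → F) = (i.1 : K) • (i.2.1 : ι → F) := by
          rw [c.decomp u v (j.2.1 : ι → F), c.decomp u v (i.2.1 : ι → F), j.2.2, i.2.2]
          simp only [zero_smul, add_zero, smul_add, smul_smul, e1, e2]
        have hy : (j.2.1 : ι → F) = ((j.1 : K)⁻¹ * i.1) • (i.2.1 : ι → F) := by
          rw [mul_smul, ← e, inv_smul_smul₀ j.1.ne_zero]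
        have hx0 := (hS _ i.2.1.2).2.1
        rcases hrep _ i.2.1.2 _ j.2.1.2 _ hy with h | h
        · refine Or.inl ⟨h, Prod.ext (Units.ext ?_) (Subtype.ext (Subtype.ext h))⟩
          rw [h] at e
          exact smul_left_injective K hx0 e
        · refine Or.inr ⟨h, ?_⟩
          rw [h, smul_neg, ← neg_smul] at e
          rw [← smul_left_injective K hx0 e, neg_neg]
      have ej1 := congrArg Prod.fst hj
      have ej2 : (j.1 : K) • c.rest u v j.2.1 = (i.1 : K) • c.rest u v i.2.1 :=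
        congrArg Subtype.val (congrArg Subtype.val (congrArg Prod.snd hj))
      have ek1 := congrArg Prod.fst hk
      have ek2 : (k.1 : K) • c.rest u v k.2.1 = (i.1 : K) • c.rest u v i.2.1 :=
        congrArg Subtype.val (congrArg Subtype.val (congrArg Prod.snd hk))
      rcases hvec j ej1 ej2 with ⟨-, rfl⟩ | ⟨hj1, hj2⟩
      · exact Or.inl rfl
      rcases hvec k ek1 ek2 with ⟨-, rfl⟩ | ⟨hk1, hk2⟩
      · exact Or.inr (Or.inl rfl)
      exact Or.inr (Or.inr (Prod.ext (Units.ext (hk2.trans hj2.symm))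
        (Subtype.ext (Subtype.ext (hk1.trans hj1.symm)))))
    rw [Nat.card_prod, Nat.card_prod, Nat.card_units] at hle
    have h27 := c.card_K_ge
    have hd : 1 ≤ finrank K R := Module.finrank_pos_iff_exists_ne_zero.2
      ⟨⟨c₀, hc₀R⟩, fun h => hc₀ (by rw [show c₀ = 0 from congrArg Subtype.val h]; simp)⟩
    have hmul : Nat.card K * (2 * Nat.card K ^ (finrank K R - 1)) = 2 * Nat.card K ^ finrank K R := by
      rw [mul_left_comm, ← pow_succ', Nat.sub_add_cancel hd]
    have := hle.trans (Nat.mul_le_mul_left 2 ((Nat.mul_le_mul_left (Nat.card K) hiso).trans hmul.le))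
    have := (Nat.mul_le_mul_right (Nat.card {x : S // c.h u (x : ι → F) = 0})
      (show 4 ≤ Nat.card K - 1 by omega)).trans this
    omega
  let _ := Fintype.ofFinite S
  have hs : Nat.card S = Nat.card {x : S // c.h u (x : ι → F) ≠ 0}
      + Nat.card {x : S // c.h u (x : ι → F) = 0} := by
    rw [← Nat.card_sum]
    exact Nat.card_congr ((Equiv.sumComm _ _).trans (Equiv.sumCompl fun x : S => c.h u (x : ι → F) = 0)).symm
  omega

end Ext

/-- The bound on the orbit is below the number of pairs. -/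
theorem arith {q r d : ℕ} (hq : 3 ≤ q) (hr : 3 ≤ r) (hd : 1 ≤ d) (hr4 : r ≠ 4) (h : r = 3 → 2 ≤ d) :
    2 * (r ^ 2 * (3 * (q ^ r) ^ d)) < (q ^ r - 2) * (q ^ r) ^ (2 * d - 1) := by
  set N := q ^ r with hN
  have h3 : 3 ^ r ≤ N := Nat.pow_le_pow_left hq r
  have key : 6 * r ^ 2 < (N - 2) * N ^ (d - 1) := by
    by_cases hr3 : r = 3
    · subst hr3
      have h27 : 27 ≤ N := by simpa using h3
      calc 6 * 3 ^ 2 < 25 * 27 := by norm_num
        _ ≤ (N - 2) * N ^ (d - 1) := Nat.mul_le_mul (by omega)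
          (h27.trans (Nat.le_self_pow (by have := h rfl; omega) _))
    · have hgrow : ∀ i, 6 * (i + 5) ^ 2 + 2 < 3 ^ (i + 5) := fun i => by
        induction i with
        | zero => norm_num
        | succ i ih => rw [show i + 1 + 5 = i + 5 + 1 by omega, pow_succ 3]; nlinarith [Nat.zero_le (i * i)]
      obtain ⟨i, rfl⟩ : ∃ i, r = i + 5 := ⟨r - 5, by omega⟩
      have := hgrow i
      exact lt_of_lt_of_le (show 6 * (i + 5) ^ 2 < N - 2 by omega)
        (Nat.le_mul_of_pos_right _ (Nat.pow_pos (Nat.pow_pos (by omega))))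
  calc 2 * (r ^ 2 * (3 * N ^ d)) = 6 * r ^ 2 * N ^ d := by ring
    _ < (N - 2) * N ^ (d - 1) * N ^ d :=
      Nat.mul_lt_mul_of_pos_right key (Nat.pow_pos (Nat.pow_pos (by omega)))
    _ = _ := by rw [mul_assoc, ← pow_add, show d - 1 + d = 2 * d - 1 by omega]

end CfsgLib.OrthExtGen
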