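import Cfsg.Agent.OrthExtGen.Planes
import Cfsg.Agent.OrthExtGen.Count

/-!
# One level of the count

`A` is fixed pointwise (`⊥`, or an anisotropic line). The plane involutions orthogonal to `A` each fix one
coset of the normaliser in the fixers of `A`, so two conjugates of the normaliser meet in at least as many
elements; but their linear members act almost freely on the singular lines orthogonal to `A`.
-/

set_option autoImplicit false
set_option linter.unusedSectionVars false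
set_option maxHeartbeats 1000000

namespace CfsgLib.OrthExtGen

open Matrix Module CfsgLib.Spinor CfsgLib.OrthMax

variable {F : Type*} [Field F] [Fintype F] {ι : Type} [Fintype ι] [DecidableEq ι]
  {Q : QuadraticForm F (ι → F)}
variable {K : Type*} [Field K] [Algebra F K] [Module K (ι → F)] [IsScalarTower F K (ι → F)]

namespace Ext

variable (c : Ext Q K)
include c

/-- The members normalising the field. -/
def normSubgroup : Subgroup (Isom Q) where
  carrier := {g | Norm K g}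
  one_mem' := fun k => ⟨k, fun x => by rw [mat_one, one_mulVec, one_mulVec]⟩
  mul_mem' := fun ha hb => Norm.mul ha hb
  inv_mem' := fun {g} hg => by
    have := c.finite
    have := c.nontrivial'
    exact Norm.inv hg

theorem mem_normSubgroup {g : Isom Q} : g ∈ c.normSubgroup ↔ Norm K g := Iff.rfl

theorem exists_rot {e f : ι → F} (ho : c.Orth e f) {a b : K}
    (hab : a * a + c.h f f / c.h e e * (b * b) = 1) : ∃ g : Isom Q, c.IsRot e f a b g :=
  c.exists_isom
    { toFun := c.rotMap e f a b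
      map_add' := fun x y => by simp only [rotMap, perp, map_add]; module
      map_smul' := fun k x => by simp only [rotMap, perp, map_smul, smul_eq_mul, RingHom.id_apply]; module }
    (c.h_rotMap ho hab)

/-- A half turn of a plane with square discriminant is a square. -/
theorem exists_half_turn {M : Subgroup (Isom Q)} (hM : Below K M) {e f : ι → F} (ho : c.Orth e f)
    (heq : c.h f f = c.h e e) : ∃ z ∈ M, z * z = 1 ∧ Lin K z ∧ c.IsRot e f (-1) 0 z := by
  have hk : c.h f f / c.h e e = 1 := by rw [heq, div_self ho.2.1]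
  obtain ⟨g, hg⟩ := c.exists_rot ho (a := 0) (b := 1) (by rw [hk]; ring)
  have h2 : c.IsRot e f (-1) 0 (g * g) := by
    have := hg.mul c ho hg
    simpa [hk] using this
  refine ⟨g * g, c.sq_mem hM (hg.lin c), ?_, h2.lin c, h2⟩
  refine IsRot.eq_one c (e := e) (f := f) ?_
  have := h2.mul c ho h2
  simpa using this

variable [FiniteDimensional F K] {M : Subgroup (Isom Q)}

/-- **One level.** -/
theorem norm_of_level (hM : Below K M) (hMΩ : M ≤ Cfsg.Omega F ⇑Q) (hle : ¬ Cfsg.Omega F ⇑Q ≤ M)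
    (A : Submodule K (ι → F)) {u v : ι → F} (hp : c.Pair u v) (huA : ∀ a ∈ A, c.h a u = 0)
    (hvA : ∀ a ∈ A, c.h a v = 0) (R : Submodule K (ι → F))
    (hR : ∀ w, w ∈ R ↔ c.Rest u v w ∧ ∀ a ∈ A, c.h a w = 0) {c₀ : ι → F} (hc₀R : c₀ ∈ R)
    (hc₀ : c.h c₀ c₀ ≠ 0) (hd : c.r = 3 → 2 ≤ finrank K R)
    (hC : ∀ (e f : ι → F) (z x : Isom Q), c.Orth e f → (∀ a ∈ A, c.Perp e f a) → c.IsRot e f (-1) 0 z →
      x ∈ Fix M (· ∈ A) → Lin K (x * z * x⁻¹) → Norm K x)
    (hone : ∀ x ∈ Fix M (· ∈ A), ∀ h ∈ Fix M (· ∈ A), Lin K h → h ≠ 1 → Lin K (x * h * x⁻¹) → ∀ p p' : ι → F,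
      c.Pair p p' → (∀ a ∈ A, c.h a p = 0 ∧ c.h a p' = 0) → mat Q h *ᵥ p = p → mat Q h *ᵥ p' = p' → Norm K x) :
    ∀ g ∈ Fix M (· ∈ A), Norm K g := by
  classical
  have := c.finite
  have := c.fdK
  have := c.nontrivial'
  by_contra! hbad
  obtain ⟨g₁, hg₁, hg₁n⟩ := hbad
  set T := Fix M (· ∈ A) with hT
  let H : Subgroup T := c.normSubgroup.subgroupOf T
  have hH : H ≠ ⊤ := fun e => hg₁n (show (⟨g₁, hg₁⟩ : T) ∈ H by rw [e]; exact Subgroup.mem_top _)
  -- the involutions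
  let I := {x : (ι → F) × (ι → F) // x.1 ∈ R ∧ x.2 ∈ R ∧ c.h x.2 x.2 ≠ 0}
  let E : I → ι → F := fun i => c.eK u i.1.1 (u + c.q i.1.2 • v)
  let G : I → ι → F := fun i => c.eK u i.1.1 i.1.2
  have hEo : ∀ i, c.Orth (E i) (G i) ∧ c.h (G i) (G i) = c.h (E i) (E i) ∧ (∀ a ∈ A, c.Perp (E i) (G i) a) := by
    rintro ⟨⟨a, w⟩, ha, hw, hww⟩
    obtain ⟨har, haA⟩ := (hR a).1 ha
    obtain ⟨hwr, hwA⟩ := (hR w).1 hw
    have hee : c.h (u + c.q w • v) (u + c.q w • v) = c.h w w := by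
      simp [hp.1, hp.2.1, hp.2.2, hp.vu, ← c.two_q w]
      ring
    have hef : c.h (u + c.q w • v) w = 0 := by simp [hwr.1, hwr.2]
    refine ⟨⟨?_, ?_, ?_⟩, ?_, fun x hx => ?_⟩
    · simp only [E, G]; rw [c.h_eK hp.1 har.1, hef]
    · simp only [E]; rw [c.h_eK hp.1 har.1, hee]; exact hww
    · simp only [G]; rw [c.h_eK hp.1 har.1]; exact hww
    · simp only [E, G]; rw [c.h_eK hp.1 har.1, c.h_eK hp.1 har.1, hee]
    · constructor <;> rw [c.symm] <;>
        simp [E, G, eK_apply, huA x hx, hvA x hx, haA x hx, hwA x hx]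
  choose Z hZM hZ2 hZl hZ using fun i => c.exists_half_turn hM (hEo i).1 (hEo i).2.1
  have hZT : ∀ i, Z i ∈ T := fun i => ⟨hZM i, fun a ha => (hZ i).fix c (hEo i).1 ((hEo i).2.2 a ha)⟩
  let Zs : Set T := Set.range fun i => (⟨Z i, hZT i⟩ : T)
  have hpairs := c.pairs_le R hc₀R hc₀ (α := Zs) (fun i => ⟨_, i, rfl⟩) (by
    intro i j hij
    have hz : Z i = Z j := congrArg (fun t : Zs => t.1.1) hij
    have hmem : ∀ x, x ∈ kplane K (E j) (G j) → x ∈ kplane K (E i) (G i) := fun x hx => by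
      rw [← c.rot_neg_iff (hEo i).1 (hZ i), hz, c.rot_neg_iff (hEo j).1 (hZ j)]; exact hx
    obtain ⟨α, β, hE⟩ := mem_kplane.1 (hmem (E j) (mem_kplane.2 ⟨1, 0, by simp⟩))
    obtain ⟨γ, δ, hG⟩ := mem_kplane.1 (hmem (G j) (mem_kplane.2 ⟨0, 1, by simp⟩))
    have ho := (hEo i).1
    have ho' := (hEo j).1
    obtain ⟨⟨a₁, w₁⟩, ha₁, hw₁, hww₁⟩ := i
    obtain ⟨⟨a₂, w₂⟩, ha₂, hw₂, hww₂⟩ := j
    obtain ⟨har₁, -⟩ := (hR a₁).1 ha₁
    obtain ⟨har₂, -⟩ := (hR a₂).1 ha₂
    obtain ⟨hwr₁, -⟩ := (hR w₁).1 hw₁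
    obtain ⟨hwr₂, -⟩ := (hR w₂).1 hw₂
    have hq₁ : c.q w₁ ≠ 0 := div_ne_zero hww₁ c.two'
    have hq₂ : c.q w₂ ≠ 0 := div_ne_zero hww₂ c.two'
    have hau₁ : c.h a₁ u = 0 := by rw [c.symm, har₁.1]
    have hau₂ : c.h a₂ u = 0 := by rw [c.symm, har₂.1]
    have hav₁ : c.h a₁ v = 0 := by rw [c.symm, har₁.2]
    have hav₂ : c.h a₂ v = 0 := by rw [c.symm, har₂.2]
    have hEf : ∀ (a w : ι → F), c.Rest u v a → c.h a u = 0 → c.h a v = 0 →
        c.eK u a (u + c.q w • v) = (1 - c.q w * c.q a) • u + c.q w • v + c.q w • a := fun a w har h1 h2 => by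
      simp [eK_apply, hp.1, hp.2.2, h1, h2]
      module
    have hGf : ∀ (a w : ι → F), c.Rest u v w → c.eK u a w = w - c.h a w • u := fun a w hwr => by
      simp [eK_apply, hwr.1]
      abel
    simp only [E, G] at hE hG ho ho'
    rw [hEf a₁ w₁ har₁ hau₁ hav₁, hEf a₂ w₂ har₂ hau₂ hav₂] at hE
    rw [hEf a₁ w₁ har₁ hau₁ hav₁, hGf a₁ w₁ hwr₁, hGf a₂ w₂ hwr₂] at hG
    rw [hGf a₁ w₁ hwr₁] at hE
    have hγ : γ = 0 := by
      have := congrArg (c.h u) hG
      simp [hp.1, hp.2.2, har₁.1, hwr₁.1, hwr₂.1, hq₁] at this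
      exact this
    rw [hγ, zero_smul, zero_add] at hG
    have hw : w₂ = δ • w₁ := by
      have h := congrArg (c.h v) hG
      simp [hp.vu, hwr₁.2, hwr₂.2] at h
      linear_combination (norm := module) -hG - h • u
    have hδ : δ ≠ 0 := fun e => hww₂ (by rw [hw, e, zero_smul, map_zero])
    have hα : c.q w₂ = α * c.q w₁ := by
      have := congrArg (c.h u) hE
      simp [hp.1, hp.2.2, har₁.1, har₂.1, hwr₁.1] at this
      exact this.symm
    have hδ2 : c.q w₂ = δ * δ * c.q w₁ := by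
      simp only [hw, q, map_smul, LinearMap.smul_apply, smul_eq_mul]; ring
    have hαδ : α = δ * δ := mul_right_cancel₀ hq₁ (by rw [← hα, hδ2])
    have hβ : β = 0 := by
      have h := ho'.1
      rw [hEf a₂ w₂ har₂ hau₂ hav₂, hGf a₂ w₂ hwr₂, ← hE, ← hG] at h
      have h1 := ho.1
      have h3 := ho.2.2
      rw [hEf a₁ w₁ har₁ hau₁ hav₁, hGf a₁ w₁ hwr₁] at h1
      rw [hGf a₁ w₁ hwr₁] at h3
      rw [map_add, LinearMap.add_apply, LinearMap.map_smul₂, LinearMap.map_smul₂, map_smul, map_smul, h1] at h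
      simp only [smul_eq_mul, mul_zero, zero_add, mul_eq_zero] at h
      exact h.resolve_right (by
        refine not_or.2 ⟨hδ, ?_⟩
        exact h3) 
    rw [hβ, zero_smul, add_zero] at hE
    have hv : c.q w₁ * c.q a₁ * α + 1 = c.q w₂ * c.q a₂ + α := by
      have h := congrArg (c.h v) hE
      simp [hp.vu, hp.2.1, har₁.2, har₂.2] at h
      linear_combination -h
    have ha : a₂ = a₁ := by
      refine smul_right_injective _ hq₂ ?_
      show c.q w₂ • a₂ = c.q w₂ • a₁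
      have h2 : ((1 - c.q w₂ * c.q a₂) • u + c.q w₂ • v) = α • ((1 - c.q w₁ * c.q a₁) • u + c.q w₁ • v) := by
        rw [smul_add, smul_smul, smul_smul, ← hα]
        congr 2
        linear_combination hv
      linear_combination (norm := module) -hE - h2 - hα • a₁
    have hα1 : α = 1 := by
      rw [ha, hα] at hv
      linear_combination -hv
    refine ⟨ha.symm, ?_⟩
    show w₁ = w₂ ∨ w₁ = -w₂
    rcases mul_self_eq_one_iff.1 (hαδ ▸ hα1) with h | h
    · exact Or.inl (by rw [hw, h, one_smul])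
    · exact Or.inr (by rw [hw, h, neg_one_smul, neg_neg]))
  obtain ⟨g, hgH, hlarge⟩ := exists_large_inter H hH Zs
    (by rintro _ ⟨i, rfl⟩; exact (hZl i).norm)
    (by rintro _ ⟨i, rfl⟩; exact Subtype.ext (hZ2 i))
    (by
      rintro _ ⟨i, rfl⟩ x hx
      have hinv : (x.1 * Z i * x.1⁻¹) * (x.1 * Z i * x.1⁻¹) = 1 := by
        rw [show x.1 * Z i * x.1⁻¹ * (x.1 * Z i * x.1⁻¹) = x.1 * (Z i * Z i) * x.1⁻¹ by group, hZ2 i]
        group
      exact hC _ _ _ x.1 (hEo i).1 (hEo i).2.2 (hZ i) x.2 (c.lin_of_invol hx hinv))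
  have hgn : ¬ Norm K g.1 := hgH
  have hgin : ¬ Norm K g.1⁻¹ := fun h => hgn (by simpa using h.inv)
  -- linear members
  let D := {h : T // h ∈ H ∧ g⁻¹ * h * g ∈ H}
  let DL := {h : T // Lin K h.1 ∧ Lin K (g⁻¹ * h * g).1}
  choose σ hσ using fun h : D => c.exists_aut_of_norm (g := h.1.1) h.2.1
  choose σ' hσ' using fun h : D => c.exists_aut_of_norm (g := (g⁻¹ * h.1 * g).1) h.2.2
  let φ : D → (K ≃ₐ[F] K) × (K ≃ₐ[F] K) := fun h => (σ h, σ' h)
  have hquot : ∀ (a b : Isom Q) (τ : K ≃ₐ[F] K), (∀ k x, mat Q a *ᵥ (k • x) = τ k • (mat Q a *ᵥ x)) →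
      (∀ k x, mat Q b *ᵥ (k • x) = τ k • (mat Q b *ᵥ x)) → Lin K (a⁻¹ * b) := fun a b τ ha hb k x => by
    refine (mulVec_eq_iff a).1 ?_
    rw [ha, mat_mul, ← mulVec_mulVec, mulVec_inv_cancel, ← mulVec_mulVec, mulVec_inv_cancel, hb]
  have : Nonempty D := ⟨⟨1, H.one_mem, by simpa using H.one_mem⟩⟩
  have hfib : ∀ h : D, Lin K ((Function.invFun φ (φ h)).1⁻¹ * h.1).1 ∧
      Lin K (g⁻¹ * ((Function.invFun φ (φ h)).1⁻¹ * h.1) * g).1 := fun h => by
    have e := Function.invFun_eq (f := φ) ⟨h, rfl⟩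
    set h' := Function.invFun φ (φ h)
    refine ⟨hquot h'.1.1 h.1.1 (σ h) ?_ (hσ h), ?_⟩
    · rw [← show σ h' = σ h from congrArg Prod.fst e]; exact hσ h'
    · rw [show g⁻¹ * (h'.1⁻¹ * h.1) * g = (g⁻¹ * h'.1 * g)⁻¹ * (g⁻¹ * h.1 * g) by group]
      exact hquot _ _ (σ' h) (by rw [← show σ' h' = σ' h from congrArg Prod.snd e]; exact hσ' h') (hσ' h)
  have hcardD : Nat.card D ≤ c.r ^ 2 * Nat.card DL := by
    have := Nat.card_le_card_of_injective (α := D) (β := ((K ≃ₐ[F] K) × (K ≃ₐ[F] K)) × DL)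
      (fun h => (φ h, ⟨(Function.invFun φ (φ h)).1⁻¹ * h.1, hfib h⟩)) fun h h' e => by
        obtain ⟨e1, e2⟩ := Prod.ext_iff.1 e
        have e3 := congrArg (fun t : DL => t.1) e2
        simp only at e1 e3
        rw [e1] at e3
        exact Subtype.ext (mul_left_cancel e3)
    rwa [Nat.card_prod, Nat.card_prod, c.card_aut, ← pow_two] at this
  -- conjugating back
  have hconj : ∀ h : DL, Lin K (g.1⁻¹ * h.1.1 * g.1⁻¹⁻¹) := fun h => by rw [inv_inv]; exact h.2.2
  obtain ⟨p, hp'⟩ := CharP.exists F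
  have : Fact p.Prime := ⟨CharP.char_is_prime F p⟩
  have hreg : ∀ h : DL, ¬ p ∣ orderOf h.1.1 := by
    intro h hpd
    set o := orderOf h.1.1
    have ho : 0 < o := orderOf_pos _
    set y := h.1.1 ^ (o / p) with hy
    have hl : ∀ {a : Isom Q}, Lin K a → ∀ n : ℕ, Lin K (a ^ n) := fun {a} ha n => by
      induction n with
      | zero => intro k x; rw [pow_zero, mat_one, one_mulVec, one_mulVec]
      | succ n ih => rw [pow_succ]; exact ih.mul ha
    have hyp : y ^ p = 1 := by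
      rw [hy, ← pow_mul, Nat.div_mul_cancel hpd, pow_orderOf_eq_one]
    have hy1 : y ≠ 1 := fun e => by
      have h1 := Nat.le_of_dvd (Nat.div_pos (Nat.le_of_dvd ho hpd) (Fact.out : p.Prime).pos) (orderOf_dvd_of_pow_eq_one e)
      have := Nat.div_lt_self ho (Fact.out : p.Prime).one_lt
      omega
    refine hgin (c.norm_of_unipotent hM hMΩ hle (p := p) (g := g.1⁻¹) (x := (g.1⁻¹ * h.1.1 * g.1⁻¹⁻¹) ^ (o / p))
      (y := y) (M.inv_mem g.2.1) ?_ (hl (hconj h) _) (hl h.2.1 _) hyp hy1)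
    rw [conj_pow, ← hy]
    group
  have hfix1 : ∀ h : DL, mat Q h.1.1 *ᵥ u = u → h.1.1 = 1 := by
    intro h hu
    by_contra hne
    set o := orderOf h.1.1
    have ho : (o : K) ≠ 0 := by
      rw [← map_natCast (algebraMap F K), _root_.map_ne_zero, Ne, CharP.cast_eq_zero_iff F p]
      exact hreg h
    let φh := h.2.1.endo
    have hpu : ∀ n : ℕ, (φh ^ n) u = u := fun n => by
      induction n with
      | zero => simp
      | succ n ih => rw [pow_succ', Module.End.mul_apply, ih]; exact hu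
    have hpw : ∀ (n : ℕ) x, (φh ^ n) x = mat Q (h.1.1 ^ n) *ᵥ x := fun n => by
      induction n with
      | zero => simp [mat_one]
      | succ n ih => intro x; rw [pow_succ', pow_succ', Module.End.mul_apply, ih, mat_mul, ← mulVec_mulVec]; rfl
    have hiso : ∀ (n : ℕ) x y, c.h ((φh ^ n) x) ((φh ^ n) y) = c.h x y := fun n => by
      induction n with
      | zero => simp
      | succ n ih =>
        intro x y
        rw [pow_succ', Module.End.mul_apply, Module.End.mul_apply, Lin.endo_apply, Lin.endo_apply, c.h_map h.2.1, ih]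
    set v' := (o : K)⁻¹ • ∑ n ∈ Finset.range o, (φh ^ n) v with hv'
    have hhv : mat Q h.1.1 *ᵥ v' = v' := by
      rw [← Lin.endo_apply h.2.1, hv', map_smul, map_sum]
      congr 1
      have h1 : ∀ n, h.2.1.endo ((φh ^ n) v) = (φh ^ (n + 1)) v := fun n => by rw [pow_succ', Module.End.mul_apply]
      simp only [h1]
      have h2 := Finset.sum_range_succ' (fun n => (φh ^ n) v) o
      rw [Finset.sum_range_succ, pow_zero] at h2
      rw [hpw o, pow_orderOf_eq_one, mat_one, one_mulVec, Module.End.one_apply] at h2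
      exact (add_right_cancel h2).symm
    have huv : c.h u v' = 1 := by
      have h1 : ∀ n, c.h u ((φh ^ n) v) = 1 := fun n => by
        have := hiso n u v
        rwa [hpu, hp.2.2] at this
      simp only [hv', map_smul, map_sum, h1, Finset.sum_const, Finset.card_range, smul_eq_mul, nsmul_eq_mul,
        mul_one]
      exact inv_mul_cancel₀ ho
    have hAv : ∀ a ∈ A, c.h a v' = 0 := fun a ha => by
      have hfa : ∀ n : ℕ, (φh ^ n) a = a := fun n => by
        induction n with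
        | zero => simp
        | succ n ih => rw [pow_succ', Module.End.mul_apply, ih]; exact h.1.2.2 a ha
      have h1 : ∀ n, c.h a ((φh ^ n) v) = 0 := fun n => by
        have := hiso n a v
        rwa [hfa, hvA a ha] at this
      simp [hv', map_sum, h1]
    set p' := v' - c.q v' • u with hp''
    have hpp : c.Pair u p' := by
      refine ⟨hp.1, ?_, by simp [hp'', huv, hp.1]⟩
      simp only [hp'', map_sub, map_smul, LinearMap.sub_apply, LinearMap.smul_apply, smul_eq_mul, hp.1, huv,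
        c.symm v' u]
      linear_combination -c.two_q v'
    refine hgin (hone _ (T.inv_mem g.2) _ h.1.2 h.2.1 hne (hconj h) u p' hpp
      (fun a ha => ⟨huA a ha, by simp [hp'', hAv a ha, huA a ha]⟩) hu ?_)
    rw [hp'', mulVec_sub, hhv, h.2.1, hu]
  -- the orbit
  let S : Set (ι → F) := Set.range fun h : DL => mat Q h.1.1 *ᵥ u
  have hSinj : Function.Injective fun h : DL => mat Q h.1.1 *ᵥ u := fun a b e => by
    simp only at e
    have hab : (a.1⁻¹ * b.1 : T) ∈ {t : T | Lin K t.1 ∧ Lin K (g⁻¹ * t * g).1} := by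
      refine ⟨a.2.1.inv.mul b.2.1, ?_⟩
      rw [show g⁻¹ * (a.1⁻¹ * b.1) * g = (g⁻¹ * a.1 * g)⁻¹ * (g⁻¹ * b.1 * g) by group]
      exact a.2.2.inv.mul b.2.2
    have := hfix1 ⟨_, hab⟩ (by
      show mat Q (a.1.1⁻¹ * b.1.1) *ᵥ u = u
      rw [mat_mul, ← mulVec_mulVec, ← e, inv_mulVec_cancel])
    exact Subtype.ext (Subtype.ext (inv_mul_eq_one.1 this))
  have hcardS : Nat.card DL = Nat.card S := Nat.card_congr (Equiv.ofInjective _ hSinj)
  have horb := c.orbit_le hp R (fun w hw => ((hR w).1 hw).1) hc₀R hc₀ S (by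
      rintro _ ⟨h, rfl⟩
      refine ⟨by rw [c.h_map h.2.1, hp.1], mulVec_ne_zero _ hp.left_ne, _, _, _, (hR _).2 ⟨hp.rest_spec _, ?_⟩,
        c.decomp u v _⟩
      intro a ha
      have hau : c.h a (mat Q h.1.1 *ᵥ u) = 0 := by
        have := c.h_map h.2.1 a u
        rwa [h.1.2.2 a ha, huA a ha] at this
      simp [rest, hau, huA a ha, hvA a ha])
    (by
      rintro _ ⟨a, rfl⟩ _ ⟨b, rfl⟩ k e
      simp only at e ⊢
      have hl : Lin K (a.1.1⁻¹ * b.1.1) := a.2.1.inv.mul b.2.1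
      have hu' : mat Q (a.1.1⁻¹ * b.1.1) *ᵥ u = k • u := by
        rw [mat_mul, ← mulVec_mulVec, e, a.2.1.inv, inv_mulVec_cancel]
      have hk : k * k = 1 := by
        by_contra hk
        refine hgin (c.norm_of_eigen hM hMΩ hle (g := g.1⁻¹) (y := a.1.1⁻¹ * b.1.1)
          (x := (g.1⁻¹ * a.1.1 * g.1⁻¹⁻¹)⁻¹ * (g.1⁻¹ * b.1.1 * g.1⁻¹⁻¹)) (M.inv_mem g.2.1) (by group)
          ((hconj a).inv.mul (hconj b)) hl hp.left_ne hk hu')
      rcases mul_self_eq_one_iff.1 hk with rfl | rfl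
      · exact Or.inl (by rw [e, one_smul])
      · exact Or.inr (by rw [e, neg_one_smul]))
  have hd1 : 1 ≤ finrank K R := Module.finrank_pos_iff_exists_ne_zero.2
    ⟨⟨c₀, hc₀R⟩, fun h => hc₀ (by rw [show c₀ = 0 from congrArg Subtype.val h]; simp)⟩
  have hq : 3 ≤ Fintype.card F := by
    have hq2 : 2 ≤ Fintype.card F := Fintype.one_lt_card
    by_contra h
    have h' : Fintype.card F = 2 := by omega
    exact c.two (by simpa [h'] using Nat.cast_card_eq_zero F)
  have har := arith (q := Fintype.card F) hq c.three_le_r hd1 (fun e => by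
    have := c.prime; rw [e] at this; norm_num at this) hd
  rw [← c.card_K] at har
  rw [hcardS] at hcardD
  have h1 : Nat.card Zs ≤ c.r ^ 2 * (3 * Nat.card K ^ finrank K R) :=
    hlarge.trans (hcardD.trans (Nat.mul_le_mul_left _ horb))
  omega

end Ext

end CfsgLib.OrthExtGen
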