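import Cfsg.Agent.OrthExtGen.Root
import Cfsg.Agent.OrthExtR.Line

/-!
# Members keeping singular lines normalise the field

The trace-dual argument: the obstruction is an inner derivation, hence a root element.
-/

set_option autoImplicit false
set_option linter.unusedSectionVars false
set_option maxHeartbeats 1000000

namespace CfsgLib.OrthExtGen

open Matrix Module CfsgLib.Spinor CfsgLib.OrthMax

variable {F : Type*} [Field F] [Fintype F] {K : Type*} [Field K] [Algebra F K]

variable {ι : Type} [Fintype ι] [DecidableEq ι] {Q : QuadraticForm F (ι → F)}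
variable [Module K (ι → F)] [IsScalarTower F K (ι → F)]

namespace Ext

variable (c : Ext Q K) {M : Subgroup (Isom Q)}
include c

/-- Elements trivial on a line and on the section orthogonal to it are linear. -/
theorem lin_of_inU (hM : Below K M) {u v : ι → F} (hp : c.Pair u v) (hz : c.NoZ M u) {g : Isom Q}
    (hg : g ∈ M) (hline : ∀ k : K, mat Q g *ᵥ (k • u) = k • u)
    (hperp : ∀ x, c.h u x = 0 → ∃ a : K, mat Q g *ᵥ x = x + a • u) : Lin K g := by
  have hfixi : ∀ k : K, mat Q g⁻¹ *ᵥ (k • u) = k • u := fun k => (mulVec_eq_iff g).1 (by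
    rw [mulVec_inv_cancel, hline])
  have hstab : ∀ (f : Isom Q), (∀ k : K, mat Q f *ᵥ (k • u) = k • u) → ∀ x, c.h u (mat Q f *ᵥ x) = c.h u x := by
    intro f hf x
    refine c.h_eq_of_trace fun l => ?_
    have := polar_mulVec Q f (l • u) x
    rwa [hf, c.tr, c.tr, LinearMap.map_smul₂, LinearMap.map_smul₂, smul_eq_mul, smul_eq_mul] at this
  have hkey : ∀ w, c.Rest u v w → ∀ x, mat Q g *ᵥ (c.eK u w x) = c.eK u w (mat Q g *ᵥ x) := by
    intro w hw
    obtain ⟨Y, hYM, -, -, hY⟩ := c.exists_eK hM hp.1 hw.1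
    have hwu : c.h w u = 0 := by rw [c.symm, hw.1]
    have hYl : ∀ k : K, mat Q Y *ᵥ (k • u) = k • u := fun k => by
      rw [hY, map_smul, c.eK_self hp.1 hw.1]
    have hYi : ∀ k : K, mat Q Y⁻¹ *ᵥ (k • u) = k • u := fun k => (mulVec_eq_iff Y).1 (by
      rw [mulVec_inv_cancel, hYl])
    have hcomm : ∀ z, c.h u z = 0 → mat Q g *ᵥ (c.eK u w z) = c.eK u w (mat Q g *ᵥ z) := by
      intro z hzu
      obtain ⟨a, ha⟩ := hperp z hzu
      simp only [eK_apply, hzu, ha, map_add, map_smul, hp.1, hwu, mul_zero, add_zero, zero_smul, smul_zero,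
        sub_zero, zero_sub, mulVec_add, mulVec_neg, hline]
      abel
    have hone : g * Y * g⁻¹ * Y⁻¹ = 1 := by
      refine hz _ (M.mul_mem (M.mul_mem (M.mul_mem hg hYM) (M.inv_mem hg)) (M.inv_mem hYM)) fun x hx => ?_
      have hx' : c.h u (mat Q g⁻¹ *ᵥ (mat Q Y⁻¹ *ᵥ x)) = 0 := by rw [hstab _ hfixi, hstab _ hYi, hx]
      rw [mat_mul, mat_mul, mat_mul, ← mulVec_mulVec, ← mulVec_mulVec, ← mulVec_mulVec, hY, hcomm _ hx',
        mulVec_inv_cancel, ← hY, mulVec_inv_cancel]
    intro x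
    have e : g * Y = Y * g := by
      have := mul_inv_eq_one.1 (show g * Y * (Y * g)⁻¹ = 1 by rw [_root_.mul_inv_rev, ← mul_assoc]; exact hone)
      exact this
    have := congrArg (fun f : Isom Q => mat Q f *ᵥ x) e
    simp only [mat_mul, ← mulVec_mulVec, hY] at this
    exact this
  set d := mat Q g *ᵥ v - v with hddef
  have hgv : mat Q g *ᵥ v = v + d := by rw [hddef]; abel
  have hdu : c.h u d = 0 := by rw [hddef, map_sub, hstab _ hline, sub_self]
  obtain ⟨E, hEM, hEl, -, hE⟩ := c.exists_eK hM hp.1 hdu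
  have hrest : ∀ w, c.Rest u v w → mat Q g *ᵥ w = c.eK u d w := by
    intro w hw
    have h := hkey w hw v
    simp only [eK_apply, hp.2.2, show c.h w v = 0 by rw [c.symm, hw.2], one_smul, zero_smul, sub_zero, mul_one,
      mulVec_add, mulVec_sub, hline, hgv, map_add, hdu, add_zero, zero_add] at h
    rw [eK_apply, hw.1, zero_smul, mul_zero, zero_smul, sub_zero, zero_sub, c.symm d w]
    linear_combination (norm := module) h
  have h1 : E⁻¹ * g = 1 := by
    refine hz _ (M.mul_mem (M.inv_mem hEM) hg) fun x hx => (mulVec_eq_iff E).1 ?_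
    rw [mat_mul, ← mulVec_mulVec, mulVec_inv_cancel, hE]
    have hx' : x = c.h v x • u + c.rest u v x := by
      conv_lhs => rw [c.decomp u v x, hx, zero_smul, add_zero]
    conv_lhs => rw [hx', mulVec_add, hline, hrest _ (hp.rest_spec x)]
    conv_rhs => rw [hx', map_add, map_smul, c.eK_self hp.1 hdu]
  rw [← inv_mul_eq_one.1 h1]
  exact hEl

/-- Members stabilising a singular line without root elements normalise the field. -/
theorem norm_of_stab (hM : Below K M) (hMΩ : M ≤ Cfsg.Omega F ⇑Q) {u v : ι → F} (hp : c.Pair u v)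
    (hz : c.NoZ M u) {g : Isom Q} (hg : g ∈ M) (hgu : ∀ k : K, ∃ l : K, mat Q g *ᵥ (k • u) = l • u) :
    Norm K g := by
  classical
  have := c.finite
  have := c.fdF
  choose γ hγ using hgu
  have hinj : ∀ {k l : K}, k • u = l • u → k = l := fun {k l} h => smul_left_injective K hp.left_ne h
  have hγi : Function.Injective γ := fun k l e => hinj ((mulVec_eq_iff g).1 (by rw [hγ, hγ, e]))
  have hgi : ∀ k : K, ∃ l : K, mat Q g⁻¹ *ᵥ (k • u) = l • u := fun k => by
    obtain ⟨l, rfl⟩ := (Finite.injective_iff_surjective.1 hγi) k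
    exact ⟨l, by rw [← hγ, inv_mulVec_cancel]⟩
  choose γ' hγ' using hgi
  have hperp : ∀ (f : Isom Q), (∀ k : K, ∃ l : K, mat Q f⁻¹ *ᵥ (k • u) = l • u) →
      ∀ x, c.h u x = 0 → c.h u (mat Q f *ᵥ x) = 0 := by
    intro f hf x hx
    refine c.h_eq_zero_of_polar fun k => ?_
    obtain ⟨l, hl⟩ := hf k
    rw [← polar_mulVec Q f⁻¹, hl, inv_mulVec_cancel, c.tr, LinearMap.map_smul₂, hx, smul_zero, map_zero]
  have hgip : ∀ x, c.h u x = 0 → c.h u (mat Q g⁻¹ *ᵥ x) = 0 := hperp _ (by
    simpa using fun k => ⟨γ k, hγ k⟩)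
  have hgp : ∀ x, c.h u x = 0 → c.h u (mat Q g *ᵥ x) = 0 := hperp _ fun k => ⟨γ' k, hγ' k⟩
  -- the transported field
  let ρ : K → (ι → F) →ₗ[F] (ι → F) := fun k =>
    Matrix.mulVecLin (mat Q g⁻¹) ∘ₗ (DistribSMul.toLinearMap F (ι → F) k) ∘ₗ Matrix.mulVecLin (mat Q g)
  have hρ : ∀ k x, ρ k x = mat Q g⁻¹ *ᵥ (k • (mat Q g *ᵥ x)) := fun k x => rfl
  have hρadj : ∀ k x y, QuadraticMap.polar (⇑Q) (ρ k x) y = QuadraticMap.polar (⇑Q) x (ρ k y) := fun k x y => by
    rw [hρ, hρ, ← polar_mulVec Q g, mulVec_inv_cancel, c.polar_smul_comm, ← polar_mulVec Q g x, mulVec_inv_cancel]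
  have hρu : ∀ k l, ∃ l' : K, ρ k (l • u) = l' • u := fun k l => ⟨γ' (k * γ l), by
    rw [hρ, hγ, smul_smul, hγ']⟩
  have hρp : ∀ k x, c.h u x = 0 → c.h u (ρ k x) = 0 := fun k x hx => by
    rw [hρ]; exact hgip _ (by rw [map_smul, hgp x hx, smul_zero])
  have hcomm : ∀ k w, c.Rest u v w → ∀ x, c.eK u w (ρ k x) = ρ k (c.eK u w x) := by
    intro k w hw x
    obtain ⟨Y, hYM, -, -, hY⟩ := c.exists_eK hM hp.1 hw.1
    have hlin := c.lin_of_inU hM hp hz (M.mul_mem (M.mul_mem hg hYM) (M.inv_mem hg))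
      (fun l => by
        rw [mat_mul, mat_mul, ← mulVec_mulVec, ← mulVec_mulVec, hγ', hY, map_smul, c.eK_self hp.1 hw.1, ← hγ',
          mulVec_inv_cancel])
      (fun y hy => by
        have h1 := hgip y hy
        refine ⟨γ (-c.h w (mat Q g⁻¹ *ᵥ y)), ?_⟩
        rw [mat_mul, mat_mul, ← mulVec_mulVec, ← mulVec_mulVec, hY, eK_apply, h1, zero_smul, mul_zero, zero_smul,
          sub_zero, zero_sub, mulVec_add, mulVec_inv_cancel, ← hγ, neg_smul])
    have h := congrArg (fun z => mat Q g⁻¹ *ᵥ z) (hlin k (mat Q g *ᵥ x))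
    simp only [mat_mul, ← mulVec_mulVec, inv_mulVec_cancel, hY] at h
    rw [hρ, hρ, h]
  have hlin1 : ∀ k w, c.Rest u v w → ∀ t, c.h u t = 0 → ρ k (c.h w t • u) = c.h w (ρ k t) • u := by
    intro k w hw t ht
    have h := hcomm k w hw t
    simp only [eK_apply, ht, hρp k t ht, zero_smul, mul_zero, sub_zero, zero_sub, map_add, map_neg] at h
    exact (neg_inj.1 (add_left_cancel h)).symm
  obtain ⟨w₁, hw₁, hw₁0⟩ := hp.exists_rest
  obtain ⟨t₁, ht₁, ht₁1⟩ : ∃ t, c.Rest u v t ∧ c.h w₁ t = 1 := by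
    obtain ⟨y, hy⟩ := c.exists_h_ne hw₁0
    refine ⟨(c.h w₁ y)⁻¹ • c.rest u v y, ⟨?_, ?_⟩, ?_⟩
    · rw [map_smul, (hp.rest_spec y).1, smul_zero]
    · rw [map_smul, (hp.rest_spec y).2, smul_zero]
    · rw [map_smul, smul_eq_mul, rest, map_sub, map_sub, map_smul, map_smul, c.symm w₁ u, c.symm w₁ v, hw₁.1,
        hw₁.2, smul_zero, smul_zero, sub_zero, sub_zero, inv_mul_cancel₀ hy]
  let κ : K → K := fun k => c.h w₁ (ρ k t₁)
  have hκ : ∀ k l : K, ρ k (l • u) = (l * κ k) • u := fun k l => by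
    have h := hlin1 k (l • w₁) ⟨by rw [map_smul, hw₁.1, smul_zero], by rw [map_smul, hw₁.2, smul_zero]⟩ t₁ ht₁.1
    rwa [LinearMap.map_smul₂, LinearMap.map_smul₂, ht₁1, smul_eq_mul, smul_eq_mul, mul_one] at h
  have hρmul : ∀ k k' x, ρ (k * k') x = ρ k (ρ k' x) := fun k k' x => by
    rw [hρ, hρ, hρ, mulVec_inv_cancel, smul_smul]
  have hρ1 : ∀ x, ρ 1 x = x := fun x => by rw [hρ, one_smul, inv_mulVec_cancel]
  have hρadd : ∀ k k' x, ρ (k + k') x = ρ k x + ρ k' x := fun k k' x => by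
    rw [hρ, hρ, hρ, add_smul, mulVec_add]
  have hρalg : ∀ (t : F) x, ρ (algebraMap F K t) x = t • x := fun t x => by
    rw [hρ, algebraMap_smul, mulVec_smul, inv_mulVec_cancel]
  have hρsmul : ∀ (t : F) k x, ρ (t • k) x = t • ρ k x := fun t k x => by
    rw [hρ, hρ, smul_assoc, mulVec_smul]
  let σ₀ : K →ₐ[F] K :=
    { toFun := κ
      map_one' := hinj (by rw [← one_mul (κ 1), ← hκ, hρ1])
      map_mul' := fun k k' => hinj (by
        rw [← one_mul (κ (k * k')), ← hκ, hρmul, hκ k', hκ, one_mul, mul_comm])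
      map_zero' := by simp [κ, hρ]
      map_add' := fun k k' => by simp only [κ, hρadd, map_add]
      commutes' := fun t => by
        show κ (algebraMap F K t) = algebraMap F K t
        simp only [κ, hρalg]
        rw [LinearMap.map_smul_of_tower, ht₁1, Algebra.algebraMap_eq_smul_one] }
  let σ : K ≃ₐ[F] K := AlgEquiv.ofBijective σ₀ (Algebra.IsAlgebraic.algHom_bijective σ₀)
  have hσ : ∀ k, σ k = κ k := fun k => rfl
  have hD1 : ∀ k w t, c.Rest u v w → c.h u t = 0 → c.h w (ρ k t) = σ k * c.h w t := fun k w t hw ht =>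
    hinj (by rw [← hlin1 k w hw t ht, hκ, mul_comm, hσ])
  -- the obstruction vanishes on the orthogonal of the line
  let D : K → (ι → F) →ₗ[F] (ι → F) := fun k => ρ k - DistribSMul.toLinearMap F (ι → F) (σ k)
  have hD : ∀ k x, D k x = ρ k x - σ k • x := fun k x => rfl
  have hDadj : ∀ k x y, QuadraticMap.polar (⇑Q) (D k x) y = QuadraticMap.polar (⇑Q) x (D k y) := fun k x y => by
    rw [hD, hD, QuadraticMap.polar_sub_left, QuadraticMap.polar_sub_right, hρadj, c.polar_smul_comm]
  have hDu : ∀ k l : K, D k (l • u) = 0 := fun k l => by rw [hD, hκ, smul_smul, mul_comm, hσ, sub_self]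
  have hDrest : ∀ k w, c.Rest u v w → D k w = 0 := by
    intro k
    have hline : ∀ w, c.Rest u v w → ∃ a : K, D k w = a • u := fun w hw => by
      refine ⟨c.h v (D k w), ?_⟩
      have h1 : c.h u (D k w) = 0 := by rw [hD, map_sub, map_smul, hρp k w hw.1, hw.1, smul_zero, sub_zero]
      have hR : c.rest u v (D k w) = 0 := c.h_sep fun z => by
        have hz' := hp.rest_spec z
        have h2 : c.h (c.rest u v z) (D k w) = 0 := by
          rw [hD, map_sub, map_smul, hD1 k _ w hz' hw.1, smul_eq_mul, sub_self]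
        have hs := hp.rest_spec (D k w)
        conv_lhs => rw [c.decomp u v z]
        rw [c.decomp u v (D k w)] at h2
        simp only [map_add, map_smul, smul_eq_mul, c.symm (c.rest u v z) u, c.symm (c.rest u v z) v, hz'.1, hz'.2,
          mul_zero, zero_add] at h2
        simp only [map_add, map_smul, smul_eq_mul, c.symm (c.rest u v (D k w)) u, c.symm (c.rest u v (D k w)) v,
          hs.1, hs.2, mul_zero, zero_add]
        rw [c.symm, h2]
      conv_lhs => rw [c.decomp u v (D k w), hR, h1, zero_smul, add_zero, add_zero]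
    intro w hw
    have ha : c.h u (ρ k v) = σ k := by
      have h := congrArg (c.h t₁) (hcomm k w₁ hw₁ v)
      have htv : c.h t₁ v = 0 := by rw [c.symm, ht₁.2]
      have htu : c.h t₁ u = 0 := by rw [c.symm, ht₁.1]
      obtain ⟨a, ha⟩ := hline w₁ hw₁
      rw [hD, sub_eq_iff_eq_add] at ha
      simp only [eK_apply, hp.2.2, show c.h w₁ v = 0 by rw [c.symm, hw₁.2], one_smul, zero_smul, sub_zero, mul_one,
        map_add, map_sub, ha, hκ, map_smul, smul_eq_mul, htu, mul_zero, sub_zero, add_zero, zero_add,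
        c.symm t₁ w₁, ht₁1] at h
      linear_combination h
    have h := hcomm k w hw v
    simp only [eK_apply, hp.2.2, show c.h w v = 0 by rw [c.symm, hw.2], one_smul, zero_smul, sub_zero, mul_one,
      map_add, map_sub, hκ, ha] at h
    have hDw : D k w = (-c.h w (ρ k v)) • u := by
      rw [hD, ← hσ] at *
      linear_combination (norm := module) -h
    have h0 : c.h w (ρ k v) = 0 := by
      refine c.h_eq_of_trace fun l => ?_
      rw [mul_zero, map_zero]
      have hlw : c.Rest u v (l • w) := ⟨by rw [map_smul, hw.1, smul_zero], by rw [map_smul, hw.2, smul_zero]⟩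
      obtain ⟨a', ha'⟩ := hline (l • w) hlw
      have hcm := hcomm k (l • w) hlw v
      simp only [eK_apply, hp.2.2, show c.h (l • w) v = 0 by rw [c.symm, hlw.2], one_smul, zero_smul, sub_zero,
        mul_one, map_add, map_sub, hκ, ha] at hcm
      have hDlw : D k (l • w) = (-c.h (l • w) (ρ k v)) • u := by
        rw [hD, ← hσ] at *
        linear_combination (norm := module) -hcm
      have e := hDadj k (l • w) v
      rw [hDlw, hD, QuadraticMap.polar_sub_right, c.tr, c.tr, c.tr, LinearMap.map_smul₂, hp.2.2,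
        map_smul (c.h (l • w)), c.symm (l • w) v, hlw.2, smul_zero, map_zero, sub_zero, LinearMap.map_smul₂,
        smul_eq_mul, smul_eq_mul, mul_one, map_neg] at e
      have h3 : (2 : F) * Algebra.trace F K (l * c.h w (ρ k v)) = 0 := by linear_combination -e
      exact (mul_eq_zero.1 h3).resolve_left c.two
    rw [hDw, h0, neg_zero, zero_smul]
  have hDperp : ∀ k x, c.h u x = 0 → D k x = 0 := fun k x hx => by
    conv_lhs => rw [c.decomp u v x, hx, zero_smul, add_zero, map_add, hDu, hDrest k _ (hp.rest_spec x), add_zero]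
  have hDline : ∀ k x, D k x = c.h v (D k x) • u := by
    intro k x
    have horth : ∀ z, c.h u z = 0 → c.h z (D k x) = 0 := fun z hz' => c.h_eq_of_trace fun l => by
      have e := hDadj k (l • z) x
      rw [hDperp k _ (by rw [map_smul, hz', smul_zero]), QuadraticMap.polar_zero_left, c.tr,
        LinearMap.map_smul₂, smul_eq_mul] at e
      rw [mul_zero, map_zero, ← e]
    have h1 : c.h u (D k x) = 0 := horth u hp.1
    have hR : c.rest u v (D k x) = 0 := c.h_sep fun z => by
      have hz' := hp.rest_spec z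
      have h2 := horth _ hz'.1
      have hs := hp.rest_spec (D k x)
      conv_lhs => rw [c.decomp u v z]
      rw [c.decomp u v (D k x)] at h2
      simp only [map_add, map_smul, smul_eq_mul, c.symm (c.rest u v z) u, c.symm (c.rest u v z) v, hz'.1, hz'.2,
        mul_zero, zero_add] at h2
      simp only [map_add, map_smul, smul_eq_mul, c.symm (c.rest u v (D k x)) u, c.symm (c.rest u v (D k x)) v,
        hs.1, hs.2, mul_zero, zero_add]
      rw [c.symm, h2]
    conv_lhs => rw [c.decomp u v (D k x), hR, h1, zero_smul, add_zero, add_zero]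
  -- the derivation
  let δ : K →ₗ[F] K →ₗ[F] K := LinearMap.mk₂ F (fun a l => c.h v (D (σ.symm a) (l • v)))
    (fun a a' l => by simp only [hD, map_add, hρadd, add_smul, AlgEquiv.apply_symm_apply, map_sub]; abel)
    (fun t a l => by
      simp only [hD, map_smul, hρsmul, AlgEquiv.apply_symm_apply, smul_assoc, map_sub,
        LinearMap.map_smul_of_tower, smul_sub])
    (fun a l l' => by simp only [add_smul, map_add])
    (fun a t l => by simp only [smul_assoc, map_smul, LinearMap.map_smul_of_tower])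
  have hδ : ∀ a l, δ a l = c.h v (D (σ.symm a) (l • v)) := fun a l => rfl
  have hDx : ∀ k x, D k x = δ (σ k) (c.h u x) • u := fun k x => by
    have hy : c.h u (x - c.h u x • v) = 0 := by rw [map_sub, map_smul, hp.2.2, smul_eq_mul, mul_one, sub_self]
    rw [hδ, AlgEquiv.symm_apply_apply, ← hDline]
    conv_lhs => rw [← sub_add_cancel x (c.h u x • v), map_add, hDperp k _ hy, zero_add]
  have hvl : ∀ l : K, c.h u (l • v) = l := fun l => by rw [map_smul, hp.2.2, smul_eq_mul, mul_one]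
  have hder : ∀ a b l, δ (a * b) l = a * δ b l + δ a (b * l) := by
    intro a b l
    have e : ∀ k x, ρ k x = σ k • x + D k x := fun k x => by rw [hD]; abel
    have h : D (σ.symm a * σ.symm b) (l • v) = a • D (σ.symm b) (l • v) + D (σ.symm a) (b • (l • v)) := by
      rw [hD, hρmul, e (σ.symm b), map_add, e (σ.symm a), e (σ.symm a) (D _ _), hDx _ (l • v), hDu, map_mul,
        AlgEquiv.apply_symm_apply, AlgEquiv.apply_symm_apply, smul_smul]
      module
    rw [hδ, hδ, hδ, map_mul, h, map_add, map_smul, smul_eq_mul, smul_smul]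
  have hsymm : ∀ a l m, Algebra.trace F K (δ a l * m) = Algebra.trace F K (l * δ a m) := by
    intro a l m
    have e := hDadj (σ.symm a) (l • v) (m • v)
    rw [hDline _ (l • v), hDline _ (m • v), ← hδ, ← hδ, c.tr, c.tr, LinearMap.map_smul₂, (c.h u).map_smul,
      LinearMap.map_smul₂, (c.h v).map_smul, hp.2.2, c.symm v u, hp.2.2] at e
    simp only [smul_eq_mul, mul_one] at e
    exact e
  obtain ⟨T, hT, hTδ⟩ := OrthExtR.exists_skew_inner c.two δ hder hsymm
  obtain ⟨lh, hlh⟩ := c.exists_acts hp.1 (T := (2 : F)⁻¹ • T) fun k l => by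
    simp only [LinearMap.smul_apply, smul_mul_assoc, mul_smul_comm, map_smul, smul_eq_mul, ← mul_add, hT, mul_zero]
  obtain ⟨lam, hlam⟩ : ∃ lam, lam = lh * lh := ⟨_, rfl⟩
  have hlamx : ∀ x, mat Q lam *ᵥ x = x + T (c.h u x) • u := fun x => by
    rw [hlam, mat_mul, ← mulVec_mulVec, hlh, hlh]
    simp only [map_add, map_smul, hp.1, smul_eq_mul, mul_zero, add_zero, LinearMap.smul_apply]
    rw [add_assoc, ← add_smul, ← add_smul, show (2 : F)⁻¹ + 2⁻¹ = 1 by
      have := c.two; field_simp; norm_num, one_smul]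
  have hint : ∀ k x, mat Q (g * lam) *ᵥ (σ k • x) = k • (mat Q (g * lam) *ᵥ x) := by
    intro k x
    have e : ρ k (mat Q lam *ᵥ x) = mat Q lam *ᵥ (σ k • x) := by
      have e0 : ρ k (mat Q lam *ᵥ x) = σ k • (mat Q lam *ᵥ x) + D k (mat Q lam *ᵥ x) := by rw [hD]; abel
      rw [e0, hDx, hlamx, hlamx, map_add, map_smul, map_smul, hp.1, smul_zero, add_zero, smul_eq_mul, ← hTδ]
      module
    rw [mat_mul, ← mulVec_mulVec, ← mulVec_mulVec, ← e, hρ, mulVec_inv_cancel]
  have hN : Norm K (g * lam) := fun k => ⟨σ.symm k, fun x => by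
    have := hint (σ.symm k) x
    rwa [AlgEquiv.apply_symm_apply] at this⟩
  have hlamM : lam ∈ M := by
    have hlΩ : lam ∈ Cfsg.Omega F ⇑Q := by rw [hlam]; exact mul_self_mem_omega c.two c.nondeg lh
    have := M.mul_mem (M.inv_mem hg) (hM _ (mul_mem (hMΩ hg) hlΩ) hN)
    rwa [← mul_assoc, inv_mul_cancel, one_mul] at this
  rwa [hz lam hlamM fun x hx => by rw [hlamx, hx, map_zero, zero_smul, add_zero], mul_one] at hN

/-- Members mapping a singular line to a line normalise the field, unless the group contains `Ω`. -/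
theorem norm_of_line (hM : Below K M) (hMΩ : M ≤ Cfsg.Omega F ⇑Q) (hle : ¬ Cfsg.Omega F ⇑Q ≤ M) {g : Isom Q}
    (hg : g ∈ M) {u₁ u₂ : ι → F} (h₁ : c.h u₁ u₁ = 0) (h₁0 : u₁ ≠ 0) (h₂ : c.h u₂ u₂ = 0)
    (hline : ∀ k : K, ∃ l : K, mat Q g *ᵥ (k • u₁) = l • u₂) : Norm K g := by
  have := c.finite
  have := c.nontrivial'
  have hu₂0 : u₂ ≠ 0 := fun e => by
    obtain ⟨l, hl⟩ := hline 1
    rw [one_smul, e, smul_zero] at hl
    exact mulVec_ne_zero g h₁0 hl
  obtain ⟨f, hfM, hfl, -, a, -, hfu⟩ := c.exists_map_line hM h₂ hu₂0 h₁ h₁0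
  obtain ⟨v, hp⟩ := c.exists_pair_of_singular h₁ h₁0
  have hz : c.NoZ M u₁ := c.noZ hM hMΩ hle h₁ h₁0
  have hN := c.norm_of_stab hM hMΩ hp hz (M.mul_mem hfM hg) fun k => by
    obtain ⟨l, hl⟩ := hline k
    exact ⟨l * a, by rw [mat_mul, ← mulVec_mulVec, hl, hfl, hfu, smul_smul]⟩
  have := hfl.inv.norm.mul hN
  rwa [← mul_assoc, inv_mul_cancel, one_mul] at this

/-- Members fixing a non-zero vector line pointwise and normalising the field are linear. -/
theorem lin_of_norm_fix {g : Isom Q} (hg : Norm K g) {b : ι → F} (hb : b ≠ 0)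
    (hfix : ∀ k : K, mat Q g *ᵥ (k • b) = k • b) : Lin K g := fun k x => by
  obtain ⟨k', hk'⟩ := hg k
  have h1 := hk' b
  rw [hfix, show mat Q g *ᵥ b = b by simpa using hfix 1] at h1
  rw [hk', smul_left_injective K hb h1]

/-- Members fixing a singular line pointwise are linear. -/
theorem lin_of_fix_line (hM : Below K M) (hMΩ : M ≤ Cfsg.Omega F ⇑Q) (hle : ¬ Cfsg.Omega F ⇑Q ≤ M) {g : Isom Q}
    (hg : g ∈ M) {u : ι → F} (hu : c.h u u = 0) (hu0 : u ≠ 0) (hfix : ∀ k : K, mat Q g *ᵥ (k • u) = k • u) :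
    Lin K g :=
  c.lin_of_norm_fix (c.norm_of_line hM hMΩ hle hg hu hu0 hu fun k => ⟨k, hfix k⟩) hu0 hfix

end Ext

end CfsgLib.OrthExtGen
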