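import Cfsg.Agent.OrthExtGen.Level

/-!
# The normaliser of an extension field of odd prime degree is maximal in `Ω`

First the fixers of an anisotropic line are linear, by the count orthogonal to it; then the count for the
whole group.
-/

set_option autoImplicit false
set_option linter.unusedSectionVars false
set_option maxHeartbeats 1000000

namespace CfsgLib.OrthExtGen

open Matrix Module CfsgLib.Spinor CfsgLib.OrthMax

variable {F : Type*} [Field F] [Fintype F] {ι : Type} [Fintype ι] [DecidableEq ι]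
  {Q : QuadraticForm F (ι → F)}
variable {K : Type*} [Field K] [Algebra F K] [Module K (ι → F)] [IsScalarTower F K (ι → F)]

namespace Ext

variable (c : Ext Q K)
include c

/-- The orthogonal of a list of functionals is small in codimension only. -/
theorem exists_rest_submodule (u v : ι → F) (A : Submodule K (ι → F)) :
    ∃ R : Submodule K (ι → F), ∀ w, w ∈ R ↔ c.Rest u v w ∧ ∀ a ∈ A, c.h a w = 0 :=
  ⟨{ carrier := {w | c.Rest u v w ∧ ∀ a ∈ A, c.h a w = 0}
     zero_mem' := ⟨⟨map_zero _, map_zero _⟩, fun a _ => map_zero _⟩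
     add_mem' := fun {x y} hx hy => ⟨⟨by rw [map_add, hx.1.1, hy.1.1, add_zero],
       by rw [map_add, hx.1.2, hy.1.2, add_zero]⟩, fun a ha => by rw [map_add, hx.2 a ha, hy.2 a ha, add_zero]⟩
     smul_mem' := fun k x hx => ⟨⟨by rw [map_smul, hx.1.1, smul_zero], by rw [map_smul, hx.1.2, smul_zero]⟩,
       fun a ha => by rw [map_smul, hx.2 a ha, smul_zero]⟩ }, fun _ => Iff.rfl⟩

theorem le_finrank_rest {n : ℕ} (φ : Fin n → ι → F) (R : Submodule K (ι → F))
    (hR : ∀ w, (∀ i, c.h (φ i) w = 0) → w ∈ R) : finrank K (ι → F) ≤ finrank K R + n := by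
  have := c.fdK
  let Φ : (ι → F) →ₗ[K] (Fin n → K) := LinearMap.pi fun i => c.h (φ i)
  have h1 := LinearMap.finrank_range_add_finrank_ker Φ
  have h2 : finrank K (LinearMap.range Φ) ≤ n := (Submodule.finrank_le _).trans (finrank_fin_fun K).le
  have h3 : finrank K (LinearMap.ker Φ) ≤ finrank K R :=
    Submodule.finrank_mono fun w hw => hR w fun i => congrFun (LinearMap.mem_ker.1 hw) i
  omega

/-- The moved part of a linear member is orthogonal to what it fixes. -/
theorem rest_of_moved {x h : Isom Q} (hh : Lin K h) {p p' : ι → F} (hp : mat Q h *ᵥ p = p)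
    (hp' : mat Q h *ᵥ p' = p') (z : ι → F) :
    c.Rest p p' (mat Q x⁻¹ *ᵥ (mat Q (x * h * x⁻¹) *ᵥ z - z)) := by
  have := c.finite
  rw [mulVec_sub, mat_mul, mat_mul, ← mulVec_mulVec, ← mulVec_mulVec, inv_mulVec_cancel]
  constructor <;> rw [map_sub, sub_eq_zero]
  · conv_lhs => rw [← hp, c.h_map hh]
  · conv_lhs => rw [← hp', c.h_map hh]

variable [FiniteDimensional F K] {M : Subgroup (Isom Q)}

/-- **Fixers of anisotropic lines are linear.** -/
theorem lin_of_fix_aniso (hM : Below K M) (hMΩ : M ≤ Cfsg.Omega F ⇑Q) (hle : ¬ Cfsg.Omega F ⇑Q ≤ M)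
    (hN : c.r = 3 → 5 ≤ finrank K (ι → F)) {b : ι → F} (hbb : c.h b b ≠ 0) {y : Isom Q} (hy : y ∈ M)
    (hfix : ∀ k : K, mat Q y *ᵥ (k • b) = k • b) : Lin K y := by
  classical
  have := c.fdK
  have := c.finite
  have hb0 : b ≠ 0 := fun e => hbb (by rw [e, map_zero])
  obtain ⟨e, he, hee⟩ := c.exists_aniso_perp_family ![b] (by intro i j h; exact absurd (Subsingleton.elim i j) h)
    (by simpa using hbb) (by have := c.dim; omega)
  have hbe : c.h b e = 0 := he 0
  obtain ⟨f, ⟨hbf, hef⟩, hff⟩ := c.exists_perp_aniso (e := b) (f := e) ⟨hbe, hbb, hee⟩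
  by_cases hdim : finrank K (ι → F) = 3
  · -- a line is the orthogonal of a plane
    refine c.plane_lin hM hMΩ hle (e := e) (f := f) ⟨hef, hee, hff⟩ hy fun w hw => ?_
    have hli : LinearIndependent K ![b, e, f] := by
      rw [Fintype.linearIndependent_iff]
      intro t ht
      rw [Fin.sum_univ_three] at ht
      simp only [Matrix.cons_val] at ht
      have e1 := congrArg (c.h b) ht
      have e2 := congrArg (c.h e) ht
      have e3 := congrArg (c.h f) ht
      simp [hbe, hbf, hef, c.symm e b, c.symm f b, c.symm f e, hbb, hee, hff] at e1 e2 e3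
      intro i
      fin_cases i <;> simp [e1, e2, e3]
    have hspan := hli.span_eq_top_of_card_eq_finrank (by rw [Fintype.card_fin, hdim])
    have hw0 : w - (c.h b w / c.h b b) • b = 0 := c.h_sep fun z => by
      have hz : z ∈ Submodule.span K (Set.range ![b, e, f]) := by rw [hspan]; trivial
      induction hz using Submodule.span_induction with
      | mem z hz =>
        obtain ⟨i, rfl⟩ := hz
        rw [c.symm]
        fin_cases i <;> simp [hbb, hw.1, hw.2, hbe, hbf, c.symm e b, c.symm f b]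
      | zero => rw [map_zero]
      | add z z' _ _ h h' => rw [map_add, h, h', add_zero]
      | smul k z _ h => rw [map_smul, h, smul_zero]
    rw [sub_eq_zero.1 hw0, hfix]
  have h4 : 4 ≤ finrank K (ι → F) := by have := c.dim; omega
  obtain ⟨g, hg, hgg⟩ := c.exists_aniso_perp_family ![b, e, f] (by
      intro i j h
      fin_cases i <;> fin_cases j <;> simp_all [c.symm e b, c.symm f b, c.symm f e])
    (by intro i; fin_cases i <;> simpa) (by omega)
  have hgb : c.h b g = 0 := hg 0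
  have hge : c.h e g = 0 := hg 1
  have hgf : c.h f g = 0 := hg 2
  obtain ⟨α, β, hval⟩ := c.exists_value (e := e) (f := f) ⟨hef, hee, hff⟩ (-c.h g g)
  set f' := α • e + β • f with hf'
  have hgf' : c.h g f' = 0 := by simp [hf', c.symm g e, c.symm g f, hge, hgf]
  have hf'0 : c.h f' f' ≠ 0 := by rw [hval, neg_ne_zero]; exact hgg
  have hbf' : c.h b f' = 0 := by simp [hf', hbe, hbf]
  obtain ⟨u, v, hp, hperp, -, -⟩ := c.exists_pair_orth (e := g) (f := f') ⟨hgf', hgg, hf'0⟩
    (by rw [hval, neg_div, neg_neg, div_self hgg]; exact IsSquare.one)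
  obtain ⟨hub, hvb⟩ := (hperp b).1 ⟨by rw [c.symm, hgb], by rw [c.symm, hbf']⟩
  set A := Submodule.span K ({b} : Set (ι → F)) with hA
  have hAmem : ∀ {a}, a ∈ A → ∃ k : K, k • b = a := fun h => Submodule.mem_span_singleton.1 h
  obtain ⟨R, hR⟩ := c.exists_rest_submodule u v A
  obtain ⟨c₀, hc₀, hc₀0⟩ := c.exists_aniso_perp_family ![b, g, f'] (by
      intro i j h
      have h1 : c.h g b = 0 := by rw [c.symm, hgb]
      have h2 : c.h f' b = 0 := by rw [c.symm, hbf']
      have h3 : c.h f' g = 0 := by rw [c.symm, hgf']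
      fin_cases i <;> fin_cases j <;> first | exact absurd rfl h | assumption)
    (by intro i; fin_cases i <;> simpa) (by omega)
  have hc₀R : c₀ ∈ R := (hR c₀).2 ⟨(hperp c₀).1 ⟨hc₀ 1, hc₀ 2⟩, fun a ha => by
    obtain ⟨k, rfl⟩ := hAmem ha
    rw [LinearMap.map_smul₂, show c.h b c₀ = 0 from hc₀ 0, smul_zero]⟩
  have hdR : c.r = 3 → 2 ≤ finrank K R := fun h3 => by
    have := c.le_finrank_rest ![u, v, b] R fun w hw => (hR w).2 ⟨⟨hw 0, hw 1⟩, fun a ha => by
      obtain ⟨k, rfl⟩ := hAmem ha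
      rw [LinearMap.map_smul₂, show c.h b w = 0 from hw 2, smul_zero]⟩
    have := hN h3
    omega
  have hyA : y ∈ Fix M (· ∈ A) := ⟨hy, fun a ha => by obtain ⟨k, rfl⟩ := hAmem ha; exact hfix k⟩
  refine c.lin_of_norm_fix ?_ hb0 hfix
  refine c.norm_of_level hM hMΩ hle A hp (fun a ha => ?_) (fun a ha => ?_) R hR hc₀R hc₀0 hdR ?_ ?_ y hyA
  · obtain ⟨k, rfl⟩ := hAmem ha
    rw [LinearMap.map_smul₂, c.symm, hub, smul_zero]
  · obtain ⟨k, rfl⟩ := hAmem ha
    rw [LinearMap.map_smul₂, c.symm, hvb, smul_zero]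
  · intro e₁ f₁ z x ho hperpA hz hx hl
    exact c.norm_of_plane_conj hM hMΩ hle ho hz hx.1 hl (hperpA b (Submodule.mem_span_singleton_self b)) hbb
      (Or.inl fun k => hx.2 _ (Submodule.mem_span_singleton.2 ⟨k, rfl⟩))
  · intro x hx h hh hhl hh1 hl p p' hpp hpA hhp hhp'
    refine c.norm_of_pair hM hMΩ hle hpp hx.1 fun y' hy' hfix' => ?_
    set h' := x * h * x⁻¹ with hh'
    have hfb : ∀ k : K, mat Q y' *ᵥ (k • b) = k • b := fun k => by
      have hxi : mat Q x⁻¹ *ᵥ (k • b) = k • b := (mulVec_eq_iff x).1 (by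
        rw [mulVec_inv_cancel, hx.2 _ (Submodule.mem_span_singleton.2 ⟨k, rfl⟩)])
      refine hfix' _ ?_
      rw [hxi]
      obtain ⟨h1, h2⟩ := hpA (k • b) (Submodule.mem_span_singleton.2 ⟨k, rfl⟩)
      exact ⟨by rw [c.symm, h1], by rw [c.symm, h2]⟩
    have hmov : ∀ z, mat Q y' *ᵥ (mat Q h' *ᵥ z - z) = mat Q h' *ᵥ z - z := fun z =>
      hfix' _ (c.rest_of_moved hhl hhp hhp' z)
    have hmovk : ∀ (k : K) z, mat Q y' *ᵥ (k • (mat Q h' *ᵥ z - z)) = k • (mat Q h' *ᵥ z - z) := fun k z => by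
      rw [smul_sub, ← hl k z]; exact hmov (k • z)
    have hbd : ∀ z, c.h b (mat Q h' *ᵥ z - z) = 0 := fun z => by
      have hb' : mat Q h' *ᵥ b = b := by
        have hm : b ∈ A := Submodule.mem_span_singleton_self b
        rw [hh', mat_mul, mat_mul, ← mulVec_mulVec, ← mulVec_mulVec,
          show mat Q x⁻¹ *ᵥ b = b from (mulVec_eq_iff x).1 (by rw [mulVec_inv_cancel, hx.2 b hm]), hh.2 b hm,
          hx.2 b hm]
      have := c.h_map hl b z
      rw [hb'] at this
      rw [map_sub, this, sub_self]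
    obtain ⟨z₀, hz₀⟩ : ∃ z, mat Q h' *ᵥ z ≠ z := by
      by_contra! hall
      refine hh1 ?_
      have : h' = 1 := isom_ext fun z => by rw [hall, mat_one, one_mulVec]
      rw [hh', mul_inv_eq_one] at this
      exact mul_left_cancel (this.trans (mul_one x).symm)
    set d := mat Q h' *ᵥ z₀ - z₀ with hd
    have hd0 : d ≠ 0 := sub_ne_zero.2 hz₀
    by_cases hdd : c.h d d = 0
    · exact c.lin_of_fix_line hM hMΩ hle hy' hdd hd0 fun k => hmovk k z₀
    by_cases hone : ∀ z, ∃ k : K, mat Q h' *ᵥ z - z = k • d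
    · exfalso
      have hfixd : ∀ w, c.h d w = 0 → mat Q h' *ᵥ w = w := fun w hw => by
        obtain ⟨t, ht⟩ := hone w
        obtain ⟨t', ht'⟩ := hone d
        rw [sub_eq_iff_eq_add] at ht ht'
        have h1 := c.h_map hl d w
        rw [ht, ht', hw] at h1
        simp [hw] at h1
        have h2 : t * (t' + 1) = 0 := mul_right_cancel₀ hdd (by linear_combination h1)
        rcases mul_eq_zero.1 h2 with h3 | h3
        · rw [ht, h3, zero_smul, zero_add]
        · exfalso
          refine mulVec_ne_zero h' hd0 ?_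
          rw [ht', show t' = -1 by linear_combination h3]
          simp
      have h'1 := c.eq_one_of_fix_hyper hl (hMΩ (M.mul_mem (M.mul_mem hx.1 hh.1) (M.inv_mem hx.1))) hdd hfixd
      exact hz₀ (by rw [h'1, mat_one, one_mulVec])
    push Not at hone
    obtain ⟨z₁, hz₁⟩ := hone
    set d₁ := mat Q h' *ᵥ z₁ - z₁ with hd₁
    set w := d₁ - (c.h d d₁ / c.h d d) • d with hw
    have hw0 : w ≠ 0 := sub_ne_zero.2 (hz₁ _)
    have hwfix : ∀ k : K, mat Q y' *ᵥ (k • w) = k • w := fun k => by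
      rw [hw, smul_sub, smul_smul, mulVec_sub, hmovk, hmovk]
    have hdw : c.h d w = 0 := by simp [hw, hdd]
    by_cases hww : c.h w w = 0
    · exact c.lin_of_fix_line hM hMΩ hle hy' hww hw0 hwfix
    obtain ⟨α', β', hval'⟩ := c.exists_value (e := d) (f := w) ⟨hdw, hdd, hww⟩ (-c.h b b)
    set s := α' • d + β' • w with hs
    have hbs : c.h b s = 0 := by
      simp only [hs, hw, map_add, map_sub, map_smul, hd, hd₁, hbd]
      simp
    refine c.lin_of_fix_line hM hMΩ hle hy' (u := b + s) ?_ (fun e0 => hbb ?_) fun k => ?_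
    · simp only [map_add, LinearMap.add_apply, hbs, c.symm s b, hval']
      ring
    · have := congrArg (c.h b) e0
      rwa [map_add, hbs, add_zero, map_zero] at this
    · rw [smul_add, mulVec_add, hfb, hs, smul_add, smul_smul, smul_smul, mulVec_add, hmovk, hwfix]

omit [FiniteDimensional F K] in
/-- **Maximality.** -/
theorem omega_le (hN : c.r = 3 → 5 ≤ finrank K (ι → F)) {M : Subgroup (Isom Q)} (hM : Below K M)
    (hMΩ : M ≤ Cfsg.Omega F ⇑Q) {g : Isom Q} (hg : g ∈ M) (hgn : ¬ Norm K g) : Cfsg.Omega F ⇑Q ≤ M := by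
  classical
  have := c.fdF
  have := c.fdK
  have := c.finite
  by_contra hle
  obtain ⟨u, v, hp⟩ := c.exists_pair
  obtain ⟨R, hR⟩ := c.exists_rest_submodule u v ⊥
  obtain ⟨c₀, hc₀u, hc₀v, hc₀⟩ := c.exists_aniso_perp hp.1 hp.2.1 (by rw [hp.2.2]; exact one_ne_zero)
  have hbot : ∀ {a : ι → F}, a ∈ (⊥ : Submodule K (ι → F)) → a = 0 := fun h => (Submodule.mem_bot K).1 h
  have hc₀R : c₀ ∈ R := (hR c₀).2 ⟨⟨hc₀u, hc₀v⟩, fun a ha => by rw [hbot ha, map_zero, LinearMap.zero_apply]⟩
  have hdR : c.r = 3 → 2 ≤ finrank K R := fun h3 => by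
    have := c.le_finrank_rest ![u, v] R fun w hw => (hR w).2 ⟨⟨hw 0, hw 1⟩, fun a ha => by
      rw [hbot ha, map_zero, LinearMap.zero_apply]⟩
    have := hN h3
    omega
  have hFL : ∀ b', c.h b' b' ≠ 0 → ∀ y ∈ M, (∀ k : K, mat Q y *ᵥ (k • b') = k • b') → Lin K y :=
    fun b' hb' y hy hfix => c.lin_of_fix_aniso hM hMΩ hle hN hb' hy hfix
  refine hgn (c.norm_of_level hM hMΩ hle ⊥ hp (fun a ha => by rw [hbot ha, map_zero, LinearMap.zero_apply])
    (fun a ha => by rw [hbot ha, map_zero, LinearMap.zero_apply]) R hR hc₀R hc₀ hdR ?_ ?_ g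
    ⟨hg, fun w hw => by rw [hbot hw, mulVec_zero]⟩)
  · intro e f z x ho _ hz hx hl
    obtain ⟨b, hb, hbb⟩ := c.exists_perp_aniso ho
    exact c.norm_of_plane_conj hM hMΩ hle ho hz hx.1 hl hb hbb (Or.inr hFL)
  · intro x hx h hh hhl hh1 hl p p' hpp _ hhp hhp'
    refine c.norm_of_pair hM hMΩ hle hpp hx.1 fun y hy hfix => ?_
    set h' := x * h * x⁻¹ with hh'
    obtain ⟨z₀, hz₀⟩ : ∃ z, mat Q h' *ᵥ z ≠ z := by
      by_contra! hall
      refine hh1 ?_
      have : h' = 1 := isom_ext fun z => by rw [hall, mat_one, one_mulVec]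
      rw [hh', mul_inv_eq_one] at this
      exact mul_left_cancel (this.trans (mul_one x).symm)
    set d := mat Q h' *ᵥ z₀ - z₀ with hd
    have hmovk : ∀ k : K, mat Q y *ᵥ (k • d) = k • d := fun k => by
      rw [hd, smul_sub, ← hl k z₀]; exact hfix _ (c.rest_of_moved hhl hhp hhp' (k • z₀))
    by_cases hdd : c.h d d = 0
    · exact c.lin_of_fix_line hM hMΩ hle hy hdd (sub_ne_zero.2 hz₀) hmovk
    · exact hFL d hdd y hy hmovk

end Ext

end CfsgLib.OrthExtGen
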