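import Cfsg.Agent.OrthExtGen.Rules

/-!
# Members fixing the orthogonal of a non-degenerate plane commute with the field

For a plane without singular vectors the torus is replaced by a rotation of prime order above `2 r`, which
leaves no proper subspace over the ground field invariant.
-/

set_option autoImplicit false
set_option linter.unusedSectionVars false
set_option maxHeartbeats 1000000

namespace CfsgLib.OrthExtGen

open Matrix Module Polynomial CfsgLib.Spinor CfsgLib.OrthMax

variable {F : Type*} [Field F] [Fintype F] {ι : Type} [Fintype ι] [DecidableEq ι]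
  {Q : QuadraticForm F (ι → F)}
variable {K : Type*} [Field K] [Algebra F K] [Module K (ι → F)] [IsScalarTower F K (ι → F)]

namespace Ext

variable (c : Ext Q K)
include c

/-- An orthogonal anisotropic pair of vectors. -/
def Orth (e f : ι → F) : Prop := c.h e f = 0 ∧ c.h e e ≠ 0 ∧ c.h f f ≠ 0

/-- Orthogonal to both. -/
def Perp (e f w : ι → F) : Prop := c.h e w = 0 ∧ c.h f w = 0

/-- The component orthogonal to a plane. -/
def perp (e f x : ι → F) : ι → F := x - (c.h e x / c.h e e) • e - (c.h f x / c.h f f) • f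

theorem orth_decomp (e f x : ι → F) :
    x = (c.h e x / c.h e e) • e + (c.h f x / c.h f f) • f + c.perp e f x := by
  rw [perp]; abel

theorem perp_spec {e f : ι → F} (ho : c.Orth e f) (x : ι → F) : c.Perp e f (c.perp e f x) := by
  obtain ⟨hef, hee, hff⟩ := ho
  constructor <;> simp [perp, hef, c.symm f e, hee, hff]

/-- A linear member of `Ω` fixing the orthogonal of an anisotropic vector is trivial. -/
theorem eq_one_of_fix_hyper {g : Isom Q} (hl : Lin K g) (hg : g ∈ Cfsg.Omega F ⇑Q) {e : ι → F}
    (he : c.h e e ≠ 0) (hfix : ∀ w, c.h e w = 0 → mat Q g *ᵥ w = w) : g = 1 := by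
  classical
  have := c.fdK
  have := c.finite
  have := c.fdF
  set d := c.h e (mat Q g *ᵥ e) / c.h e e with hd
  have hge : mat Q g *ᵥ e = d • e := by
    refine c.eq_of_h fun z => ?_
    have hz : c.h e (z - (c.h e z / c.h e e) • e) = 0 := by simp [he]
    have h1 := c.h_map hl e (z - (c.h e z / c.h e e) • e)
    rw [hfix _ hz, hz, map_sub, map_smul, smul_eq_mul, sub_eq_zero] at h1
    rw [h1, LinearMap.map_smul₂, smul_eq_mul, hd, c.symm (mat Q g *ᵥ e) e]
    ring
  have hd2 : d * d = 1 := by
    have h1 := c.h_map hl e e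
    rw [hge, LinearMap.map_smul₂, map_smul, smul_eq_mul, smul_eq_mul, ← mul_assoc] at h1
    exact mul_right_cancel₀ he (by rw [h1, one_mul])
  have hx : ∀ x, mat Q g *ᵥ x = x + ((d - 1) * (c.h e x / c.h e e)) • e := fun x => by
    have hz : c.h e (x - (c.h e x / c.h e e) • e) = 0 := by simp [he]
    conv_lhs => rw [show x = (x - (c.h e x / c.h e e) • e) + (c.h e x / c.h e e) • e by abel, mulVec_add,
      hfix _ hz, hl, hge]
    module
  rcases mul_self_eq_one_iff.1 hd2 with h | h
  · exact isom_ext fun x => by rw [hx, h, sub_self, zero_mul, zero_smul, add_zero, mat_one, one_mulVec]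
  · exfalso
    have hdet := c.det_eq_one hg
    rw [c.det_of_eq (f := LinearMap.transvection ((-2 / c.h e e) • c.h e) e) (fun x => by
      rw [hx, h, LinearMap.transvection.apply, LinearMap.smul_apply, smul_eq_mul]
      congr 2
      ring), LinearMap.transvection.det, LinearMap.smul_apply, smul_eq_mul, div_mul_cancel₀ _ he,
      show (1 : K) + -2 = algebraMap F K (-1) by rw [map_neg, map_one]; ring, Algebra.norm_algebraMap, c.deg,
      (c.prime.odd_of_ne_two c.odd).neg_one_pow] at hdet
    exact c.two (by linear_combination -hdet)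

/-- A plane represents every element. -/
theorem exists_value {e f : ι → F} (ho : c.Orth e f) (t : K) :
    ∃ α β : K, c.h (α • e + β • f) (α • e + β • f) = t := by
  have := c.finite
  let _ := Fintype.ofFinite K
  have hp : ringChar K ≠ 2 := fun h => c.two' (by
    have := CharP.cast_eq_zero K (ringChar K)
    rw [h] at this
    exact_mod_cast this)
  obtain ⟨a, b, hab⟩ := FiniteField.exists_root_sum_quadratic
    (f := Polynomial.C (c.h e e) * X ^ 2) (g := Polynomial.C (c.h f f) * X ^ 2 + Polynomial.C (-t))
    (by rw [Polynomial.degree_C_mul_X_pow 2 ho.2.1]; rfl)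
    (by rw [Polynomial.degree_add_C (by rw [Polynomial.degree_C_mul_X_pow 2 ho.2.2]; norm_num),
      Polynomial.degree_C_mul_X_pow 2 ho.2.2]; rfl)
    (FiniteField.odd_card_of_char_ne_two hp)
  refine ⟨a, b, ?_⟩
  simp at hab
  simp [ho.1, c.symm f e]
  linear_combination hab

/-- Some anisotropic vector is orthogonal to a plane. -/
theorem exists_perp_aniso {e f : ι → F} (ho : c.Orth e f) : ∃ b, c.Perp e f b ∧ c.h b b ≠ 0 := by
  have := c.fdK
  by_contra! hall
  have hz : ∀ x, c.perp e f x = 0 := fun x => by
    refine c.h_sep fun z => ?_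
    have hx := c.perp_spec ho x
    have hz := c.perp_spec ho z
    have h2 := hall (c.perp e f x + c.perp e f z)
      ⟨by rw [map_add, hx.1, hz.1, add_zero], by rw [map_add, hx.2, hz.2, add_zero]⟩
    simp only [map_add, LinearMap.add_apply, hall _ hx, hall _ hz, c.symm (c.perp e f z) (c.perp e f x), zero_add,
      add_zero] at h2
    have h3 : (2 : K) * c.h (c.perp e f x) (c.perp e f z) = 0 := by linear_combination h2
    conv_lhs => rw [c.orth_decomp e f z]
    simp only [map_add, map_smul, smul_eq_mul, c.symm (c.perp e f x) e, c.symm (c.perp e f x) f, hx.1, hx.2,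
      mul_zero, zero_add, (mul_eq_zero.1 h3).resolve_left c.two']
  have htop : Submodule.span K ({e, f} : Set (ι → F)) = ⊤ := by
    refine Submodule.eq_top_iff'.2 fun x => ?_
    rw [c.orth_decomp e f x, hz x, add_zero]
    exact Submodule.mem_span_pair.2 ⟨_, _, rfl⟩
  classical
  have h2 := finrank_span_finset_le_card ({e, f} : Finset (ι → F)) (R := K)
  rw [Finset.coe_insert, Finset.coe_singleton, Set.finrank, htop, finrank_top] at h2
  have := c.dim
  have h3 : ({e, f} : Finset (ι → F)).card ≤ 2 := Finset.card_le_two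
  omega

theorem linearIndependent_orth {e f : ι → F} (ho : c.Orth e f) : LinearIndependent K ![e, f] :=
  LinearIndependent.pair_iff.2 fun s t h => by
    have h1 := congrArg (c.h e) h
    have h2 := congrArg (c.h f) h
    simp [ho.1, ho.2.1, ho.2.2, c.symm f e] at h1 h2
    exact ⟨h1, h2⟩

theorem plane_eq_perp {e f : ι → F} (ho : c.Orth e f) {x : ι → F} (hx : x ∈ kplane K e f) :
    c.perp e f x = 0 := by
  obtain ⟨k, l, rfl⟩ := mem_kplane.1 hx
  simp [perp, ho.1, ho.2.1, ho.2.2, c.symm f e]

/-- Members fixing the orthogonal preserve the plane. -/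
theorem perp_fix_maps {e f : ι → F} (ho : c.Orth e f) {g : Isom Q}
    (hg : ∀ w, c.Perp e f w → mat Q g *ᵥ w = w) {x : ι → F} (hx : x ∈ kplane K e f) :
    mat Q g *ᵥ x ∈ kplane K e f := by
  set y := mat Q g *ᵥ x with hy
  have h0 : ∀ w, c.Perp e f w → c.h y w = 0 := fun w hw => by
    refine c.h_eq_zero_of_polar fun l => ?_
    rw [c.polar_smul_comm, ← hg (l • w) ⟨by rw [map_smul, hw.1, smul_zero], by rw [map_smul, hw.2, smul_zero]⟩,
      hy, polar_mulVec, c.tr, map_smul]
    obtain ⟨a, b, rfl⟩ := mem_kplane.1 hx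
    simp [hw.1, hw.2]
  have hs := c.perp_spec ho y
  have : c.perp e f y = 0 := c.h_sep fun z => by
    have hz := c.perp_spec ho z
    have h1 := h0 _ hz
    rw [c.orth_decomp e f y] at h1
    simp only [map_add, map_smul, LinearMap.add_apply, LinearMap.smul_apply, smul_eq_mul, hz.1, hz.2, mul_zero,
      zero_add] at h1
    conv_lhs => rw [c.orth_decomp e f z]
    simp only [map_add, map_smul, smul_eq_mul, c.symm (c.perp e f y) e, c.symm (c.perp e f y) f, hs.1, hs.2,
      mul_zero, zero_add, h1]
  exact mem_kplane.2 ⟨c.h e y / c.h e e, c.h f y / c.h f f,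
    by conv_rhs => rw [c.orth_decomp e f y, this, add_zero]⟩

/-! ### Rotations -/

/-- The rotation of a plane. -/
def rotMap (e f : ι → F) (a b : K) (x : ι → F) : ι → F :=
  (a * (c.h e x / c.h e e) - c.h f f / c.h e e * b * (c.h f x / c.h f f)) • e +
    (b * (c.h e x / c.h e e) + a * (c.h f x / c.h f f)) • f + c.perp e f x

/-- Rotating a plane. -/
def IsRot (e f : ι → F) (a b : K) (g : Isom Q) : Prop := ∀ x, mat Q g *ᵥ x = c.rotMap e f a b x

theorem rotMap_comb {e f : ι → F} (ho : c.Orth e f) (a b α β : K) {w : ι → F} (hw : c.Perp e f w) :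
    c.rotMap e f a b (α • e + β • f + w) =
      (a * α - c.h f f / c.h e e * b * β) • e + (b * α + a * β) • f + w := by
  simp [rotMap, perp, ho.1, ho.2.1, ho.2.2, c.symm f e, hw.1, hw.2]
  abel

theorem IsRot.lin {e f : ι → F} {a b : K} {g : Isom Q} (hg : c.IsRot e f a b g) : Lin K g := fun k x => by
  rw [hg, hg]
  simp only [rotMap, perp, map_smul, smul_eq_mul]
  module

theorem IsRot.mul {e f : ι → F} (ho : c.Orth e f) {a b a' b' : K} {g g' : Isom Q} (hg : c.IsRot e f a b g)
    (hg' : c.IsRot e f a' b' g') :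
    c.IsRot e f (a * a' - c.h f f / c.h e e * b * b') (a * b' + b * a') (g * g') := fun x => by
  rw [mat_mul, ← mulVec_mulVec, hg' x, hg]
  conv_lhs => arg 6; rw [rotMap]
  rw [c.rotMap_comb ho _ _ _ _ (c.perp_spec ho x), rotMap]
  module

theorem IsRot.fix {e f : ι → F} (ho : c.Orth e f) {a b : K} {g : Isom Q} (hg : c.IsRot e f a b g) {w : ι → F}
    (hw : c.Perp e f w) : mat Q g *ᵥ w = w := by
  have := c.rotMap_comb ho a b 0 0 hw
  simp at this
  rw [hg, this]

theorem IsRot.eq_one {e f : ι → F} {g : Isom Q} (hg : c.IsRot e f 1 0 g) : g = 1 := isom_ext fun x => by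
  rw [hg, mat_one, one_mulVec]
  simp [rotMap, ← c.orth_decomp e f x]

theorem h_rotMap {e f : ι → F} (ho : c.Orth e f) {a b : K} (hab : a * a + c.h f f / c.h e e * (b * b) = 1)
    (x y : ι → F) : c.h (c.rotMap e f a b x) (c.rotMap e f a b y) = c.h x y := by
  have hx := c.perp_spec ho x
  have hy := c.perp_spec ho y
  conv_rhs => rw [c.orth_decomp e f x, c.orth_decomp e f y]
  simp only [rotMap, map_add, map_smul, LinearMap.add_apply, LinearMap.smul_apply, smul_eq_mul, ho.1, c.symm f e,
    hx.1, hx.2, hy.1, hy.2, c.symm (c.perp e f x) e, c.symm (c.perp e f x) f, mul_zero, add_zero, zero_add]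
  have hee := ho.2.1
  have hff := ho.2.2
  have hk : c.h f f / c.h e e * c.h e e = c.h f f := div_mul_cancel₀ _ hee
  generalize c.h f f / c.h e e = κ at hab hk ⊢
  rw [← hk]
  linear_combination (c.h e e * (c.h e x / c.h e e) * (c.h e y / c.h e e)
    + κ * c.h e e * (c.h f x / (κ * c.h e e)) * (c.h f y / (κ * c.h e e))) * hab

/-- The rotation group. -/
def rotGroup {e f : ι → F} (ho : c.Orth e f) : Subgroup (Isom Q) where
  carrier := {g | ∃ a b, a * a + c.h f f / c.h e e * (b * b) = 1 ∧ c.IsRot e f a b g}
  one_mem' := ⟨1, 0, by ring, fun x => by simp [mat_one, rotMap, ← c.orth_decomp e f x]⟩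
  mul_mem' := fun {g g'} ⟨a, b, h, hg⟩ ⟨a', b', h', hg'⟩ => ⟨_, _, by
    linear_combination (a * a + c.h f f / c.h e e * (b * b)) * h' + h, hg.mul c ho hg'⟩
  inv_mem' := fun {g} ⟨a, b, h, hg⟩ => ⟨a, -b, by linear_combination h, fun x => (mulVec_eq_iff g).1 (by
    rw [mulVec_inv_cancel, hg]
    conv_rhs => arg 6; rw [rotMap]
    rw [c.rotMap_comb ho _ _ _ _ (c.perp_spec ho x)]
    conv_lhs => rw [c.orth_decomp e f x]
    match_scalars <;>
      first
        | (linear_combination -(c.h e x / c.h e e) * h)
        | (linear_combination -(c.h f x / c.h f f) * h)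
        | ring)⟩

variable [FiniteDimensional F K]

/-- The rotation group has `q ^ r + 1` members. -/
theorem card_rotGroup {e f : ι → F} (ho : c.Orth e f) (hns : ¬ IsSquare (-(c.h f f / c.h e e))) :
    Nat.card (c.rotGroup ho) = Fintype.card F ^ c.r + 1 := by
  classical
  have := c.finite
  let _ := Fintype.ofFinite K
  set κ := c.h f f / c.h e e with hκ
  have hden : ∀ t : K, 1 + κ * (t * t) ≠ 0 := fun t h0 => by
    have ht : t ≠ 0 := fun e => by rw [e] at h0; simp at h0
    exact hns ⟨t⁻¹, by field_simp; linear_combination -h0⟩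
  let P : Option K → K × K := fun o => o.elim (-1, 0)
    fun t => ((1 - κ * (t * t)) / (1 + κ * (t * t)), 2 * t / (1 + κ * (t * t)))
  have hP : ∀ o, (P o).1 * (P o).1 + κ * ((P o).2 * (P o).2) = 1 := by
    rintro (_ | t)
    · simp [P]
    · have := hden t
      simp only [P, Option.elim]
      rw [div_mul_div_comm, div_mul_div_comm, mul_div_assoc', ← add_div, div_eq_one_iff_eq (mul_ne_zero this this)]
      ring
  choose R hR using fun o => c.exists_isom
    { toFun := c.rotMap e f (P o).1 (P o).2
      map_add' := fun x y => by simp only [rotMap, perp, map_add]; module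
      map_smul' := fun k x => by simp only [rotMap, perp, map_smul, smul_eq_mul, RingHom.id_apply]; module }
    (c.h_rotMap ho (hP o))
  have huniq : ∀ {g : Isom Q} {a b a' b' : K}, c.IsRot e f a b g → c.IsRot e f a' b' g → a = a' ∧ b = b' := by
    intro g a b a' b' h1 h2
    have h := (h1 e).symm.trans (h2 e)
    simp [rotMap, perp, ho.1, ho.2.1, c.symm f e] at h
    have e1 := congrArg (c.h e) h
    have e2 := congrArg (c.h f) h
    simp [ho.1, ho.2.1, ho.2.2, c.symm f e] at e1 e2
    exact ⟨e1, e2⟩
  have h2 := c.two'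
  have hbij : Function.Bijective (fun o => (⟨R o, _, _, hP o, hR o⟩ : c.rotGroup ho)) := by
    constructor
    · intro o o' h
      obtain ⟨e1, e2⟩ := huniq (hR o) (show c.IsRot e f (P o').1 (P o').2 (R o) by
        rw [show R o = R o' from congrArg Subtype.val h]; exact hR o')
      rcases o with _ | t <;> rcases o' with _ | t' <;> simp only [P, Option.elim] at e1 e2
      · rfl
      · exfalso
        rw [eq_div_iff (hden t')] at e1
        exact h2 (by linear_combination -e1)
      · exfalso
        rw [div_eq_iff (hden t)] at e1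
        exact h2 (by linear_combination e1)
      · congr 1
        have h3 : (1 + (1 - κ * (t * t)) / (1 + κ * (t * t))) * t = 2 * t / (1 + κ * (t * t)) := by
          rw [one_add_div (hden t), div_mul_eq_mul_div]; congr 1; ring
        have h4 : (1 + (1 - κ * (t' * t')) / (1 + κ * (t' * t'))) * t' = 2 * t' / (1 + κ * (t' * t')) := by
          rw [one_add_div (hden t'), div_mul_eq_mul_div]; congr 1; ring
        have hne : (1 + (1 - κ * (t * t)) / (1 + κ * (t * t))) ≠ 0 := by
          rw [one_add_div (hden t)]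
          exact div_ne_zero (fun h0 => h2 (by linear_combination h0)) (hden t)
        rw [← e1, ← e2, ← h3] at h4
        exact (mul_left_cancel₀ hne h4).symm
    · rintro ⟨g, a, b, hab, hg⟩
      have key : ∀ o, (P o).1 = a → (P o).2 = b →
          (⟨R o, _, _, hP o, hR o⟩ : c.rotGroup ho) = ⟨g, a, b, hab, hg⟩ := fun o ha hb =>
        Subtype.ext (isom_ext fun x => by rw [hg x, hR o x, ← ha, ← hb]; rfl)
      by_cases ha : a = -1
      · refine ⟨none, key none ha.symm ?_⟩
        subst ha
        have hκ0 : κ ≠ 0 := div_ne_zero ho.2.2 ho.2.1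
        exact (mul_self_eq_zero.1 ((mul_eq_zero.1 (by linear_combination hab : κ * (b * b) = 0)).resolve_left hκ0)).symm
      · have ha' : 1 + a ≠ 0 := fun h0 => ha (by linear_combination h0)
        refine ⟨some (b / (1 + a)), key _ ?_ ?_⟩ <;>
          simp only [P, Option.elim] <;>
          rw [div_eq_iff (hden _)] <;> field_simp
        · linear_combination -((1 + a) * hab)
        · linear_combination -b * hab
  rw [← Nat.card_eq_of_bijective _ hbij, Finite.card_option, Module.natCard_eq_pow_finrank (K := F),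
    Nat.card_eq_fintype_card, c.deg]

end Ext

end CfsgLib.OrthExtGen
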