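import Cfsg.Agent.OrthExtGen.Minus

/-!
# The stabiliser of the orthogonal of a plane is linear

`plane_lin`: a member fixing the orthogonal of a non-degenerate `K`-plane pointwise commutes with the field.
`semilinear_on`: a member conjugating an irreducible rotation to a member commuting with the field is
semilinear on the plane.
-/

set_option autoImplicit false
set_option linter.unusedSectionVars false
set_option maxHeartbeats 1000000

namespace CfsgLib.OrthExtGen

open Matrix Module Polynomial CfsgLib.Spinor CfsgLib.OrthMax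

variable {F : Type*} [Field F] [Fintype F] {ι : Type} [Fintype ι] [DecidableEq ι]
  {Q : QuadraticForm F (ι → F)}
variable {K : Type*} [Field K] [Algebra F K] [Module K (ι → F)] [IsScalarTower F K (ι → F)]

/-- No proper non-zero invariant subspace over the ground field. -/
def Irr (τ : Isom Q) (P : Submodule F (ι → F)) : Prop :=
  ∀ U : Submodule F (ι → F), U ≤ P → (∀ x ∈ U, mat Q τ *ᵥ x ∈ U) → U = ⊥ ∨ U = P

namespace Ext

variable (c : Ext Q K)
include c

/-- A hyperbolic pair in a plane containing a singular vector. -/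
theorem exists_pair_orth {e f : ι → F} (ho : c.Orth e f) (hs : IsSquare (-(c.h f f / c.h e e))) :
    ∃ u v, c.Pair u v ∧ (∀ w, c.Perp e f w ↔ c.Rest u v w) ∧ u ∈ kplane K e f ∧ v ∈ kplane K e f := by
  obtain ⟨t, ht⟩ := hs
  obtain ⟨hef, hee, hff⟩ := ho
  have hff' : c.h f f = -(t * t) * c.h e e := by
    rw [← ht, neg_neg, div_mul_cancel₀ _ hee]
  have ht0 : t ≠ 0 := fun e0 => hff (by rw [hff', e0]; simp)
  have h2 := c.two'
  obtain ⟨d, hd⟩ : ∃ d, d = (2 * c.h e e)⁻¹ := ⟨_, rfl⟩
  have hd0 : d ≠ 0 := hd ▸ inv_ne_zero (mul_ne_zero h2 hee)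
  refine ⟨e + t⁻¹ • f, d • (e - t⁻¹ • f), ⟨?_, ?_, ?_⟩, fun w => ⟨fun hw => ⟨?_, ?_⟩, fun hw => ?_⟩, ?_, ?_⟩
  · simp only [map_add, map_smul, LinearMap.add_apply, LinearMap.smul_apply, smul_eq_mul, hef, c.symm f e, hff']
    field_simp
    ring
  · simp only [map_sub, map_smul, LinearMap.sub_apply, LinearMap.smul_apply, smul_eq_mul, hef, c.symm f e, hff']
    field_simp
    ring
  · simp only [map_add, map_sub, map_smul, LinearMap.add_apply, LinearMap.smul_apply, smul_eq_mul, hef,
      c.symm f e, hff', hd]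
    field_simp
    ring
  · simp [hw.1, hw.2]
  · simp [hw.1, hw.2]
  · have h1 := hw.1
    have h3 := hw.2
    rw [LinearMap.map_smul₂, smul_eq_mul, mul_eq_zero, or_iff_right hd0] at h3
    simp only [map_add, map_sub, map_smul, LinearMap.add_apply, LinearMap.sub_apply, LinearMap.smul_apply,
      smul_eq_mul] at h1 h3
    have he : (2 : K) * c.h e w = 0 := by linear_combination h1 + h3
    have he' := (mul_eq_zero.1 he).resolve_left h2
    rw [he', zero_add, mul_eq_zero, or_iff_right (inv_ne_zero ht0)] at h1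
    exact ⟨he', h1⟩
  · exact mem_kplane.2 ⟨1, t⁻¹, by rw [one_smul]⟩
  · exact mem_kplane.2 ⟨d, -(d * t⁻¹), by rw [smul_sub, smul_smul, neg_smul, sub_eq_add_neg]⟩

variable [FiniteDimensional F K] {M : Subgroup (Isom Q)}

/-- A rotation of large prime order without invariant subspaces. -/
theorem exists_rot_prime (hM : Below K M) {e f : ι → F} (ho : c.Orth e f)
    (hns : ¬ IsSquare (-(c.h f f / c.h e e))) :
    ∃ (s : ℕ) (τ : Isom Q) (a b : K), Fact s.Prime ∧ 2 * c.r < s ∧ (s : F) ≠ 0 ∧ τ ∈ M ∧ b ≠ 0 ∧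
      a * a + c.h f f / c.h e e * (b * b) = 1 ∧ c.IsRot e f a b τ ∧ orderOf τ = s ∧ Irr τ (kplane K e f) := by
  classical
  obtain ⟨s, hs, hrs, hsF, hdvd, hmin⟩ := exists_prime_minus F c.two c.prime c.odd
  have : Fact s.Prime := ⟨hs⟩
  obtain ⟨g, hg⟩ := exists_prime_orderOf_dvd_card' (G := c.rotGroup ho) s (by rw [c.card_rotGroup ho hns]; exact hdvd)
  rw [← Subgroup.orderOf_coe] at hg
  obtain ⟨a, b, hab, hR⟩ := g.2
  have := c.three_le_r
  obtain ⟨j, hj⟩ := hs.odd_of_ne_two (by omega)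
  obtain ⟨a', b', -, hR'⟩ := (c.rotGroup ho).pow_mem g.2 (j + 1)
  have hgM : (g : Isom Q) ∈ M := by
    have := c.sq_mem hM (g := (g : Isom Q) ^ (j + 1)) (hR'.lin c)
    rwa [← pow_add, show j + 1 + (j + 1) = s + 1 by omega, pow_succ, ← hg, pow_orderOf_eq_one, one_mul] at this
  have hb : b ≠ 0 := fun hb => by
    rw [hb, mul_zero, mul_zero, add_zero] at hab
    have h2 : (g : Isom Q) ^ 2 = 1 := by
      rw [pow_two]
      refine IsRot.eq_one c (e := e) (f := f) ?_
      have := hR.mul c ho hR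
      simpa [hb, hab] using this
    have := Nat.le_of_dvd two_pos (hg ▸ orderOf_dvd_of_pow_eq_one h2)
    omega
  refine ⟨s, g, a, b, inferInstance, hrs, hsF, hgM, hb, hab, hR, hg, fun U hUP hU => ?_⟩
  by_cases hU0 : U = ⊥
  · exact Or.inl hU0
  right
  set τ := (g : Isom Q) with hτdef
  have hstab : ∀ h ∈ Subgroup.zpowers τ, ∀ x ∈ U, mat Q h *ᵥ x ∈ U := by
    intro h hh
    obtain ⟨n, rfl⟩ : ∃ n : ℕ, τ ^ n = h := by
      have := mem_zpowers_iff_mem_range_orderOf.1 hh
      rw [Finset.mem_image] at this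
      obtain ⟨n, -, e⟩ := this
      exact ⟨n, e⟩
    induction n with
    | zero => intro x hx; rwa [pow_zero, mat_one, one_mulVec]
    | succ n ih =>
      intro x hx
      rw [pow_succ', mat_mul, ← mulVec_mulVec]
      exact hU _ (ih (Subgroup.pow_mem _ (Subgroup.mem_zpowers τ) n) x hx)
  let _ : MulAction (Subgroup.zpowers τ) U :=
    MulAction.compHom U ((Units.coeHom _).comp (restrictHom (Subgroup.zpowers τ) U hstab))
  have happ : ∀ (h : Subgroup.zpowers τ) (x : U), ((h • x : U) : ι → F) = mat Q h.1 *ᵥ x :=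
    fun h x => restrictHom_apply hstab h x
  have hfixed : ∀ x : U, x ∈ MulAction.fixedPoints (Subgroup.zpowers τ) U ↔ x = 0 := by
    intro x
    refine ⟨fun hx => ?_, fun hx h => Subtype.ext (by rw [happ, hx, Submodule.coe_zero, mulVec_zero])⟩
    have h1 : mat Q τ *ᵥ (x : ι → F) = x :=
      (happ ⟨τ, Subgroup.mem_zpowers τ⟩ x).symm.trans (congrArg Subtype.val (hx ⟨τ, Subgroup.mem_zpowers τ⟩))
    obtain ⟨α, β, hxv⟩ := mem_kplane.1 (hUP x.2)
    have h0 : c.Perp e f 0 := ⟨map_zero _, map_zero _⟩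
    rw [← hxv, hR, ← add_zero (α • e + β • f), c.rotMap_comb ho _ _ _ _ h0, add_zero, add_zero] at h1
    have e1 := congrArg (c.h e) h1
    have e2 := congrArg (c.h f) h1
    simp [ho.1, ho.2.1, ho.2.2, c.symm f e] at e1 e2
    set κ := c.h f f / c.h e e
    have hκ : κ ≠ 0 := div_ne_zero ho.2.2 ho.2.1
    have hne : (a - 1) * (a - 1) + κ * (b * b) ≠ 0 := fun h3 => by
      have ha : a = 1 := by
        have : (2 : K) * (1 - a) = 0 := by linear_combination h3 - hab
        exact (sub_eq_zero.1 ((mul_eq_zero.1 this).resolve_left c.two')).symm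
      rw [ha, sub_self, mul_zero, zero_add, mul_eq_zero, or_iff_right hκ, mul_self_eq_zero] at h3
      exact hb h3
    have hα : ((a - 1) * (a - 1) + κ * (b * b)) * α = 0 := by linear_combination (a - 1) * e1 + κ * b * e2
    have hβ : ((a - 1) * (a - 1) + κ * (b * b)) * β = 0 := by linear_combination (a - 1) * e2 - b * e1
    refine Subtype.ext ?_
    rw [← hxv, (mul_eq_zero.1 hα).resolve_left hne, (mul_eq_zero.1 hβ).resolve_left hne]
    simp
  have hcard := (IsPGroup.of_card (n := 1) (by rw [Nat.card_zpowers, hg, pow_one]) :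
    IsPGroup s (Subgroup.zpowers τ)).card_modEq_card_fixedPoints U
  have hone : Nat.card (MulAction.fixedPoints (Subgroup.zpowers τ) U) = 1 := by
    rw [Nat.card_eq_one_iff_exists]
    exact ⟨⟨0, (hfixed 0).2 rfl⟩, fun y => Subtype.ext ((hfixed y.1).1 y.2)⟩
  rw [hone, Module.natCard_eq_pow_finrank (K := F), Nat.card_eq_fintype_card] at hcard
  have hd : s ∣ Fintype.card F ^ finrank F U - 1 := (Nat.modEq_iff_dvd' (Nat.one_le_pow _ _ Fintype.card_pos)).1 hcard.symm
  have hpos : 0 < finrank F U := by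
    have : Nontrivial U := Submodule.nontrivial_iff_ne_bot.2 hU0
    exact Module.finrank_pos
  refine Submodule.eq_of_le_of_finrank_le hUP ?_
  rw [c.finrank_plane (c.linearIndependent_orth ho)]
  by_contra hlt
  exact hmin _ hpos (by omega) hd

/-- Linear members of `Ω` fixing the orthogonal of a plane are rotations. -/
theorem rot_of_lin {e f : ι → F} (ho : c.Orth e f) {n : Isom Q} (hn : Lin K n) (hΩ : n ∈ Cfsg.Omega F ⇑Q)
    (hfix : ∀ w, c.Perp e f w → mat Q n *ᵥ w = w) :
    ∃ a b, a * a + c.h f f / c.h e e * (b * b) = 1 ∧ c.IsRot e f a b n := by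
  have h0 : c.Perp e f 0 := ⟨map_zero _, map_zero _⟩
  obtain ⟨a, b, hne⟩ := mem_kplane.1 (c.perp_fix_maps ho hfix (x := e) (mem_kplane.2 ⟨1, 0, by simp⟩))
  obtain ⟨a', b', hnf⟩ := mem_kplane.1 (c.perp_fix_maps ho hfix (x := f) (mem_kplane.2 ⟨0, 1, by simp⟩))
  have hee := ho.2.1
  have h1 := c.h_map hn e e
  have h2 := c.h_map hn e f
  have h3 := c.h_map hn f f
  simp only [← hne, ← hnf, map_add, map_smul, LinearMap.add_apply, LinearMap.smul_apply, smul_eq_mul, ho.1,
    c.symm f e, mul_zero, add_zero, zero_add] at h1 h2 h3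
  obtain ⟨κ, hκ⟩ : ∃ κ, κ = c.h f f / c.h e e := ⟨_, rfl⟩
  have hff : c.h f f = κ * c.h e e := by rw [hκ, div_mul_cancel₀ _ hee]
  rw [hff] at h1 h2 h3
  have e1 : a * a + κ * (b * b) = 1 := mul_right_cancel₀ hee (by linear_combination h1)
  have e2 : a * a' + κ * b * b' = 0 := mul_right_cancel₀ hee (by linear_combination h2)
  have e3 : a' * a' + κ * (b' * b') = κ := mul_right_cancel₀ hee (by linear_combination h3)
  have hκ0 : κ ≠ 0 := hκ ▸ div_ne_zero ho.2.2 hee
  rw [← hκ]
  have hn' : ∀ x, mat Q n *ᵥ x = (a * (c.h e x / c.h e e) + a' * (c.h f x / c.h f f)) • e +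
      (b * (c.h e x / c.h e e) + b' * (c.h f x / c.h f f)) • f + c.perp e f x := fun x => by
    conv_lhs => rw [c.orth_decomp e f x, mulVec_add, mulVec_add, hn, hn, ← hne, ← hnf, hfix _ (c.perp_spec ho x)]
    module
  have hdd : (a * b' - b * a') * (a * b' - b * a') = 1 := by
    refine mul_left_cancel₀ hκ0 ?_
    linear_combination (a' * a' + κ * (b' * b')) * e1 + e3 - (a * a' + κ * b * b') * e2
  rcases mul_self_eq_one_iff.1 hdd with hd | hd
  · have ha' : a' = -(κ * b) := by linear_combination -κ * b * hd - a' * e1 + a * e2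
    have hb' : b' = a := by linear_combination a * hd - b' * e1 + b * e2
    refine ⟨a, b, e1, fun x => ?_⟩
    rw [hn', ha', hb', rotMap, ← hκ]
    module
  · exfalso
    have ha' : a' = κ * b := by linear_combination -κ * b * hd - a' * e1 + a * e2
    have hb' : b' = -a := by linear_combination a * hd - b' * e1 + b * e2
    have hn1 : n ≠ 1 := fun e0 => by
      have h4 := hn' e
      have h5 := hn' f
      rw [e0, mat_one, one_mulVec] at h4 h5
      have i1 := congrArg (c.h e) h4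
      have i2 := congrArg (c.h f) h5
      simp [perp, ho.1, hee, ho.2.2, c.symm f e, hb'] at i1 i2
      exact mul_ne_zero c.two' ho.2.2 (by linear_combination i2 - c.h f f * i1)
    have hcomb : ∀ α β : K, ∀ w, c.Perp e f w → mat Q n *ᵥ (α • e + β • f + w) =
        (a * α + a' * β) • e + (b * α + b' * β) • f + w := fun α β w hw => by
      rw [hn']
      simp [perp, ho.1, hee, ho.2.2, c.symm f e, hw.1, hw.2]
      module
    by_cases ha1 : a = 1
    · have hb0 : b = 0 := by
        rw [ha1] at e1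
        exact mul_self_eq_zero.1 ((mul_eq_zero.1 (by linear_combination e1 : κ * (b * b) = 0)).resolve_left hκ0)
      refine hn1 (c.eq_one_of_fix_hyper hn hΩ ho.2.2 fun w hw => ?_)
      conv_lhs => rw [c.orth_decomp e f w, hw, zero_div, hcomb _ _ _ (c.perp_spec ho w)]
      conv_rhs => rw [c.orth_decomp e f w, hw, zero_div]
      rw [ha1, hb0]
      module
    · refine hn1 (c.eq_one_of_fix_hyper hn hΩ (e := (a - 1) • e + b • f) ?_ fun w hw => ?_)
      · simp only [map_add, map_smul, LinearMap.add_apply, LinearMap.smul_apply, smul_eq_mul, ho.1, c.symm f e,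
          mul_zero, add_zero, zero_add, hff]
        rw [show (a - 1) * ((a - 1) * c.h e e) + b * (b * (κ * c.h e e)) = 2 * (1 - a) * c.h e e by
          linear_combination c.h e e * e1]
        exact mul_ne_zero (mul_ne_zero c.two' (sub_ne_zero.2 (Ne.symm ha1))) hee
      · have hcond : (a - 1) * (c.h e w / c.h e e) + κ * b * (c.h f w / c.h f f) = 0 := by
          have h4 := hw
          simp only [map_add, map_smul, LinearMap.add_apply, LinearMap.smul_apply, smul_eq_mul] at h4
          have hff0 := ho.2.2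
          refine mul_right_cancel₀ hee ?_
          rw [zero_mul, add_mul, mul_assoc, div_mul_cancel₀ _ hee, mul_assoc, hκ]
          field_simp
          linear_combination h4
        conv_lhs => rw [c.orth_decomp e f w, hcomb _ _ _ (c.perp_spec ho w), ha', hb']
        conv_rhs => rw [c.orth_decomp e f w]
        set x₁ := c.h e w / c.h e e
        set x₂ := c.h f w / c.h f f
        have hx2 : b * x₁ - a * x₂ = x₂ := by
          refine mul_left_cancel₀ (sub_ne_zero.2 ha1) ?_
          linear_combination b * hcond - x₂ * e1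
        rw [show a * x₁ + κ * b * x₂ = x₁ by linear_combination hcond, show b * x₁ + -a * x₂ = x₂ by
          linear_combination hx2]

/-- Multiplication by a scalar on an irreducible plane is a polynomial in the rotation. -/
theorem exists_poly_scalar {e f : ι → F} (ho : c.Orth e f) {τ : Isom Q} (hτ : Lin K τ)
    (hτP : ∀ x ∈ kplane K e f, mat Q τ *ᵥ x ∈ kplane K e f) (hirr : Irr τ (kplane K e f)) (k : K) :
    ∃ p : F[X], ∀ z ∈ kplane K e f, aeval hτ.endo (p.map (algebraMap F K)) z = k • z := by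
  let L : F[X] →ₗ[F] (ι → F) :=
    { toFun := fun p => aeval hτ.endo (p.map (algebraMap F K)) e
      map_add' := fun p p' => by simp
      map_smul' := fun t p => by
        rw [Polynomial.smul_eq_C_mul, Polynomial.map_mul, Polynomial.map_C, map_mul, aeval_C, Module.End.mul_apply,
          Module.algebraMap_end_apply, algebraMap_smul, RingHom.id_apply] }
  have hL : ∀ p, L p = aeval hτ.endo (p.map (algebraMap F K)) e := fun p => rfl
  have hstab : ∀ x ∈ LinearMap.range L, mat Q τ *ᵥ x ∈ LinearMap.range L := by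
    rintro _ ⟨p, rfl⟩
    exact ⟨X * p, by rw [hL, hL, Polynomial.map_mul, Polynomial.map_X, map_mul, aeval_X, Module.End.mul_apply,
      Lin.endo_apply]⟩
  have hle : LinearMap.range L ≤ kplane K e f := by
    rintro _ ⟨p, rfl⟩
    induction p using Polynomial.induction_on' with
    | add p p' h h' => rw [map_add]; exact Submodule.add_mem _ h h'
    | monomial n t =>
      rw [hL, Polynomial.map_monomial, aeval_monomial, Module.End.mul_apply, Module.algebraMap_end_apply]
      refine (Submodule.span K ({e, f} : Set (ι → F))).smul_mem _ ?_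
      induction n with
      | zero => exact mem_kplane.2 ⟨1, 0, by simp⟩
      | succ n ih => rw [pow_succ', Module.End.mul_apply, Lin.endo_apply]; exact hτP _ ih
  have hrange : LinearMap.range L = kplane K e f := by
    refine (hirr _ hle hstab).resolve_left fun h0 => ?_
    have : e ∈ LinearMap.range L := ⟨1, by simp [hL]⟩
    rw [h0, Submodule.mem_bot] at this
    exact ho.2.1 (by rw [this, map_zero])
  obtain ⟨p, hp⟩ : k • e ∈ LinearMap.range L := by
    rw [hrange]
    exact mem_kplane.2 ⟨k, 0, by simp⟩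
  refine ⟨p, fun z hz => ?_⟩
  rw [← hrange] at hz
  obtain ⟨p', rfl⟩ := hz
  rw [hL, ← Module.End.mul_apply, ← map_mul, mul_comm, map_mul, Module.End.mul_apply, ← hL p, hp, map_smul]

/-- **Semilinearity on a plane.** -/
theorem semilinear_on {e f : ι → F} (ho : c.Orth e f) {τ x : Isom Q} (hτ : Lin K τ)
    (hτP : ∀ z ∈ kplane K e f, mat Q τ *ᵥ z ∈ kplane K e f) (hirr : Irr τ (kplane K e f))
    (hy : Lin K (x * τ * x⁻¹)) (P' : Submodule K (ι → F))
    (hP' : ∀ z, z ∈ P' ↔ mat Q x⁻¹ *ᵥ z ∈ kplane K e f) :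
    ∃ σ : K ≃ₐ[F] K, (∀ k, ∀ z ∈ kplane K e f, mat Q x *ᵥ (k • z) = σ k • (mat Q x *ᵥ z)) ∧
      ∀ z ∈ kplane K e f, c.h (mat Q x *ᵥ z) (mat Q x *ᵥ z) = σ (c.h z z) := by
  classical
  have := c.finite
  have hxz : ∀ z, z ∈ kplane K e f ↔ mat Q x *ᵥ z ∈ P' := fun z => by rw [hP', inv_mulVec_cancel]
  have heP : e ∈ kplane K e f := mem_kplane.2 ⟨1, 0, by simp⟩
  have hex : x * τ = x * τ * x⁻¹ * x := by group
  have hP0 : P' ≠ ⊥ := fun h0 => by
    have h1 := (hxz e).1 heP
    rw [h0, Submodule.mem_bot] at h1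
    exact ho.2.1 (by rw [(mulVec_eq_iff x).1 (h1.trans (mulVec_zero _).symm), map_zero])
  have key : ∀ k : K, ∃ μ : K, ∀ z ∈ kplane K e f, mat Q x *ᵥ (k • z) = μ • (mat Q x *ᵥ z) := by
    intro k
    obtain ⟨p, hp⟩ := c.exists_poly_scalar ho hτ hτP hirr k
    set A₀ := aeval hy.endo (p.map (algebraMap F K))
    have hA0 : ∀ z ∈ kplane K e f, A₀ (mat Q x *ᵥ z) = mat Q x *ᵥ (k • z) := fun z hz => by
      rw [map_aeval hy hτ hex, hp z hz]
    have hmem : ∀ w ∈ P', A₀ w ∈ P' := fun w hw => by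
      rw [← mulVec_inv_cancel x w, hA0 _ ((hP' w).1 hw)]
      exact (hxz _).1 ((Submodule.span K ({e, f} : Set (ι → F))).smul_mem k ((hP' w).1 hw))
    let A : P' →ₗ[K] P' := A₀.restrict hmem
    have hA : ∀ (m : F[X]) (z : ι → F) (hz : z ∈ kplane K e f),
        ((aeval A (m.map (algebraMap F K)) ⟨_, (hxz z).1 hz⟩ : P') : ι → F) = mat Q x *ᵥ (aeval k m • z) := by
      intro m
      induction m using Polynomial.induction_on' with
      | add m m' h h' =>
        intro z hz
        rw [Polynomial.map_add, map_add, map_add, LinearMap.add_apply, Submodule.coe_add, h z hz, h' z hz, add_smul,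
          mulVec_add]
      | monomial n t =>
        intro z hz
        rw [Polynomial.map_monomial, aeval_monomial, aeval_monomial, Module.End.mul_apply,
          Module.algebraMap_end_apply, Submodule.coe_smul, algebraMap_smul, ← Algebra.smul_def, smul_assoc,
          mulVec_smul]
        congr 1
        induction n generalizing z with
        | zero => simp
        | succ n ih =>
          rw [pow_succ, pow_succ, Module.End.mul_apply, mul_smul]
          have hkz : k • z ∈ kplane K e f := (Submodule.span K ({e, f} : Set (ι → F))).smul_mem k hz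
          rw [show A ⟨_, (hxz z).1 hz⟩ = ⟨_, (hxz (k • z)).1 hkz⟩ from Subtype.ext (hA0 z hz)]
          exact ih _ hkz
    obtain ⟨μ, w, hw0, hw⟩ := c.exists_eigen hP0 A (θ := k) (LinearMap.ext fun w => Subtype.ext (by
      have := hA (minpoly F k) _ ((hP' w).1 w.2)
      simp only [mulVec_inv_cancel, Subtype.coe_eta] at this
      rw [this, minpoly.aeval, zero_smul, mulVec_zero]; rfl))
    let U : Submodule F (ι → F) :=
      { carrier := {z | z ∈ kplane K e f ∧ mat Q x *ᵥ (k • z) = μ • (mat Q x *ᵥ z)}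
        zero_mem' := ⟨Submodule.zero_mem _, by simp⟩
        add_mem' := fun {z z'} h h' => ⟨Submodule.add_mem _ h.1 h'.1, by
          rw [smul_add, mulVec_add, mulVec_add, h.2, h'.2, smul_add]⟩
        smul_mem' := fun t z h => ⟨Submodule.smul_mem _ t h.1, by
          rw [smul_comm, mulVec_smul, h.2, mulVec_smul, smul_comm]⟩ }
    have hU := hirr U (fun z hz => hz.1) fun z hz => ⟨hτP z hz.1, by
      have hcm : ∀ v, mat Q x *ᵥ (mat Q τ *ᵥ v) = mat Q (x * τ * x⁻¹) *ᵥ (mat Q x *ᵥ v) := fun v => by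
        rw [mulVec_mulVec, mulVec_mulVec, ← mat_mul, ← mat_mul, ← hex]
      rw [← hτ, hcm, hcm, hz.2, hy]⟩
    refine ⟨μ, fun z hz => ?_⟩
    rcases hU with h | h
    · exfalso
      have : mat Q x⁻¹ *ᵥ (w : ι → F) ∈ U := ⟨(hP' _).1 w.2, by
        rw [← hA0 _ ((hP' _).1 w.2), mulVec_inv_cancel]
        exact congrArg Subtype.val hw⟩
      rw [h, Submodule.mem_bot] at this
      exact hw0 (Subtype.ext (by rw [← mulVec_inv_cancel x w.1, this, mulVec_zero]; rfl))
    · exact (h ▸ hz : z ∈ U).2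
  choose μ hμ using key
  have hex0 : mat Q x *ᵥ e ≠ 0 := mulVec_ne_zero x fun h0 => ho.2.1 (by rw [h0, map_zero])
  have hfun : ∀ k k', mat Q x *ᵥ (k • e) = k' • (mat Q x *ᵥ e) → μ k = k' := fun k k' h =>
    smul_left_injective K hex0 ((hμ k e heP).symm.trans h)
  let σh : K →ₐ[F] K :=
    { toFun := μ
      map_one' := hfun 1 1 (by rw [one_smul, one_smul])
      map_mul' := fun a b => hfun _ _ (by
        rw [mul_smul, hμ a _ ((Submodule.span K ({e, f} : Set (ι → F))).smul_mem b heP), hμ b e heP, mul_smul])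
      map_zero' := hfun 0 0 (by rw [zero_smul, zero_smul, mulVec_zero])
      map_add' := fun a b => hfun _ _ (by rw [add_smul, mulVec_add, hμ a e heP, hμ b e heP, add_smul])
      commutes' := fun t => hfun _ _ (by rw [algebraMap_smul, algebraMap_smul, mulVec_smul]) }
  let σ := AlgEquiv.ofBijective σh (Finite.injective_iff_bijective.1 σh.toRingHom.injective)
  refine ⟨σ, hμ, fun z hz => c.h_eq_of_trace fun l => ?_⟩
  have hμ' : ∀ k, mat Q x *ᵥ (k • z) = σ k • (mat Q x *ᵥ z) := fun k => hμ k z hz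
  have h1 := polar_mulVec Q x (σ.symm l • z) z
  rw [hμ', AlgEquiv.apply_symm_apply, c.tr, c.tr, LinearMap.map_smul₂, LinearMap.map_smul₂, smul_eq_mul,
    smul_eq_mul] at h1
  rw [h1, ← Algebra.trace_eq_of_algEquiv σ (σ.symm l * c.h z z), map_mul σ, AlgEquiv.apply_symm_apply]

omit [FiniteDimensional F K] in
/-- Field automorphisms keep square classes. -/
theorem isSquare_mul_aut (σ : K ≃ₐ[F] K) {a : K} (ha : a ≠ 0) : IsSquare (σ a * a) := by
  have := c.finite
  let _ := Fintype.ofFinite K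
  have hp : ringChar K ≠ 2 := fun h => c.two' (by
    have := CharP.cast_eq_zero K (ringChar K)
    rw [h] at this
    exact_mod_cast this)
  rw [FiniteField.isSquare_iff hp (mul_ne_zero ((map_ne_zero σ).2 ha) ha), mul_pow, ← map_pow]
  rcases FiniteField.pow_dichotomy hp ha with h | h <;> rw [h] <;> simp

/-- A member fixing the orthogonal of a plane and semilinear on it is linear. -/
theorem lin_of_semilinear (hM : Below K M) (hMΩ : M ≤ Cfsg.Omega F ⇑Q) (hle : ¬ Cfsg.Omega F ⇑Q ≤ M)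
    {e f : ι → F} (ho : c.Orth e f) {n : Isom Q} (hn : n ∈ M) (hfix : ∀ w, c.Perp e f w → mat Q n *ᵥ w = w)
    {σ : K ≃ₐ[F] K} (hσ : ∀ k, ∀ z ∈ kplane K e f, mat Q n *ᵥ (k • z) = σ k • (mat Q n *ᵥ z))
    (hσh : ∀ z ∈ kplane K e f, c.h (mat Q n *ᵥ z) (mat Q n *ᵥ z) = σ (c.h z z)) : Lin K n := by
  obtain ⟨b, hb, hbb⟩ := c.exists_perp_aniso ho
  obtain ⟨α, β, hb₁⟩ := c.exists_value ho (-c.h b b)
  set b₁ := α • e + β • f with hb₁def
  have hb₁P : b₁ ∈ kplane K e f := mem_kplane.2 ⟨α, β, rfl⟩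
  set b₁' := mat Q n *ᵥ b₁ with hb₁'def
  have hb₁'P : b₁' ∈ kplane K e f := c.perp_fix_maps ho hfix hb₁P
  have horth : ∀ z ∈ kplane K e f, c.h b z = 0 := fun z hz => by
    obtain ⟨s, t, rfl⟩ := mem_kplane.1 hz
    simp [c.symm b e, c.symm b f, hb.1, hb.2]
  have hv : c.h b₁' b₁' = σ (-c.h b b) := by rw [hb₁'def, hσh _ hb₁P, hb₁]
  have hnb : ∀ k : K, mat Q n *ᵥ (k • b) = k • b := fun k =>
    hfix _ ⟨by rw [map_smul, hb.1, smul_zero], by rw [map_smul, hb.2, smul_zero]⟩
  have ho₁ : c.Orth b b₁ := ⟨horth _ hb₁P, hbb, by rw [hb₁, neg_ne_zero]; exact hbb⟩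
  have ho₁' : c.Orth b b₁' := ⟨horth _ hb₁'P, hbb, by rw [hv, map_neg, neg_ne_zero, _root_.map_ne_zero]; exact hbb⟩
  obtain ⟨u, v, hp, hperp, -, -⟩ := c.exists_pair_orth ho₁ (by rw [hb₁, neg_div, neg_neg, div_self hbb]; exact IsSquare.one)
  obtain ⟨u', v', hp', hperp', -, -⟩ := c.exists_pair_orth ho₁' (by
    rw [hv, map_neg, neg_div, neg_neg]
    obtain ⟨t, ht⟩ := c.isSquare_mul_aut σ hbb
    exact ⟨t / c.h b b, by field_simp; linear_combination ht⟩)
  obtain ⟨s, k, τ, -, -, -, -, hk2, -, hτM, hτ, -⟩ := c.exists_tor_prime hM hp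
  have hyM : n * τ * n⁻¹ ∈ M := M.mul_mem (M.mul_mem hn hτM) (M.inv_mem hn)
  have hyfix : c.FixRest u' v' (n * τ * n⁻¹) := by
    intro w hw
    obtain ⟨hwb, hwb₁⟩ := (hperp' w).2 hw
    have h1 : c.Perp b b₁ (mat Q n⁻¹ *ᵥ w) := by
      constructor <;> refine c.h_eq_zero_of_polar fun l => ?_
      · rw [← polar_mulVec Q n, mulVec_inv_cancel, hnb, c.tr, LinearMap.map_smul₂, hwb, smul_zero, map_zero]
      · rw [← polar_mulVec Q n, mulVec_inv_cancel, hσ _ _ hb₁P, ← hb₁'def, c.tr, LinearMap.map_smul₂, hwb₁,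
          smul_zero, map_zero]
    rw [mat_mul, mat_mul, ← mulVec_mulVec, ← mulVec_mulVec, hτ.apply_rest c ((hperp _).1 h1), mulVec_inv_cancel]
  obtain ⟨γ, -, hγ⟩ := c.tor_of_fixRest hM hMΩ hle hp' hyM hyfix
  exact c.lin_of_norm_fix (c.norm_of_torus hM hMΩ hle hp hk2 hτ hn hγ.lin) (fun h0 => hbb (by rw [h0, map_zero]))
    hnb

/-- Commuting with an irreducible rotation on the plane and fixing the orthogonal implies linear. -/
theorem lin_of_commute {e f : ι → F} (ho : c.Orth e f) {τ y : Isom Q} (hτ : Lin K τ)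
    (hτP : ∀ z ∈ kplane K e f, mat Q τ *ᵥ z ∈ kplane K e f) (hirr : Irr τ (kplane K e f))
    (hy : ∀ w, c.Perp e f w → mat Q y *ᵥ w = w) (hc : y * τ = τ * y) : Lin K y := by
  intro k x
  obtain ⟨p, hp⟩ := c.exists_poly_scalar ho hτ hτP hirr k
  have hP : ∀ z ∈ kplane K e f, mat Q y *ᵥ (k • z) = k • (mat Q y *ᵥ z) := fun z hz => by
    rw [← hp _ (c.perp_fix_maps ho hy hz), map_aeval hτ hτ hc, hp z hz]
  have hpl : (c.h e x / c.h e e) • e + (c.h f x / c.h f f) • f ∈ kplane K e f := mem_kplane.2 ⟨_, _, rfl⟩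
  have hw := c.perp_spec ho x
  have hkw : c.Perp e f (k • c.perp e f x) := ⟨by rw [map_smul, hw.1, smul_zero], by rw [map_smul, hw.2, smul_zero]⟩
  rw [c.orth_decomp e f x, smul_add, mulVec_add, mulVec_add, hP _ hpl, hy _ hw, hy _ hkw, smul_add]

/-- **Members fixing the orthogonal of a plane are linear.** -/
theorem plane_lin (hM : Below K M) (hMΩ : M ≤ Cfsg.Omega F ⇑Q) (hle : ¬ Cfsg.Omega F ⇑Q ≤ M) {e f : ι → F}
    (ho : c.Orth e f) {g : Isom Q} (hgM : g ∈ M) (hg : ∀ w, c.Perp e f w → mat Q g *ᵥ w = w) : Lin K g := by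
  classical
  by_cases hsq : IsSquare (-(c.h f f / c.h e e))
  · obtain ⟨u, v, hp, hperp, -, -⟩ := c.exists_pair_orth ho hsq
    obtain ⟨γ, -, hγ⟩ := c.tor_of_fixRest hM hMΩ hle hp hgM fun w hw => hg w ((hperp w).2 hw)
    exact hγ.lin
  have := c.finite
  obtain ⟨p, hp'⟩ := CharP.exists F
  have : Fact p.Prime := ⟨CharP.char_is_prime F p⟩
  obtain ⟨s, τ₀, a, b, hs, hrs, hsF, hτM, hb, hab, hτ, hord, hirr⟩ := c.exists_rot_prime hM ho hsq
  have hτP : ∀ z ∈ kplane K e f, mat Q τ₀ *ᵥ z ∈ kplane K e f := fun z hz =>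
    c.perp_fix_maps ho (fun w hw => hτ.fix c ho hw) hz
  let τ : Fix M (c.Perp e f) := ⟨τ₀, hτM, fun w hw => hτ.fix c ho hw⟩
  have hlin : ∀ y : Fix M (c.Perp e f), Commute τ y → Lin K y.1 := fun y hy =>
    c.lin_of_commute ho (hτ.lin c) hτP hirr y.2.2 (congrArg Subtype.val hy.eq.symm : _)
  have hcomm : ∀ {x y : Fix M (c.Perp e f)}, Lin K x.1 → Lin K y.1 → Commute x y := fun {x y} hx hy => by
    obtain ⟨a₁, b₁, -, h₁⟩ := c.rot_of_lin ho hx (hMΩ x.2.1) x.2.2
    obtain ⟨a₂, b₂, -, h₂⟩ := c.rot_of_lin ho hy (hMΩ y.2.1) y.2.2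
    refine Subtype.ext (isom_ext fun z => ?_)
    show mat Q (x.1 * y.1) *ᵥ z = mat Q (y.1 * x.1) *ᵥ z
    rw [h₁.mul c ho h₂ z, h₂.mul c ho h₁ z, mul_comm a₂, mul_assoc (c.h f f / c.h e e) b₂ b₁, mul_comm b₂ b₁,
      ← mul_assoc, add_comm (a₂ * b₁), mul_comm b₂ a₁, mul_comm a₂ b₁]
  have hconj : ∀ n : Fix M (c.Perp e f), Commute τ (n * τ * n⁻¹) → Commute τ n := fun n hn => by
    have hy : Lin K (n.1 * τ₀ * n.1⁻¹) := hlin _ hn
    obtain ⟨σ, hσ, hσh⟩ := c.semilinear_on ho (hτ.lin c) hτP hirr hy (Submodule.span K ({e, f} : Set (ι → F)))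
      fun z => ⟨fun hz => c.perp_fix_maps ho ((n⁻¹).2.2) hz, fun hz => by
        have := c.perp_fix_maps ho n.2.2 hz
        rwa [mulVec_inv_cancel] at this⟩
    exact hcomm (hτ.lin c) (c.lin_of_semilinear hM hMΩ hle ho n.2.1 n.2.2 hσ hσh)
  have habel : ∀ x y : Fix M (c.Perp e f), Commute τ x → Commute τ y → Commute x y :=
    fun x y hx hy => hcomm (hlin x hx) (hlin y hy)
  have hmap : ∀ x ∈ Fix M (c.Perp e f), ∀ z ∈ kplane K e f, mat Q x *ᵥ z ∈ kplane K e f :=
    fun x hx z hz => c.perp_fix_maps ho hx.2 hz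
  have hn : finrank F (kplane K e f) = 2 * c.r := c.finrank_plane (c.linearIndependent_orth ho)
  have hext : ∀ x y : Fix M (c.Perp e f),
      (∀ z ∈ kplane K e f, mat Q x.1 *ᵥ z = mat Q y.1 *ᵥ z) → x = y := fun x y h => Subtype.ext (isom_ext fun z => by
    have hpl : (c.h e z / c.h e e) • e + (c.h f z / c.h f f) • f ∈ kplane K e f := mem_kplane.2 ⟨_, _, rfl⟩
    conv_lhs => rw [c.orth_decomp e f z, mulVec_add, h _ hpl, x.2.2 _ (c.perp_spec ho z)]
    conv_rhs => rw [c.orth_decomp e f z, mulVec_add, y.2.2 _ (c.perp_spec ho z)])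
  have hρ : Function.Injective (restrictHom (Fix M (c.Perp e f)) (kplane K e f) hmap) := fun x y h =>
    hext x y fun z hz => by
      have e1 := congrArg (fun T : (Module.End F (kplane K e f))ˣ =>
        (((T : Module.End F (kplane K e f)) ⟨z, hz⟩ : kplane K e f) : ι → F)) h
      simpa only [restrictHom_apply] using e1
  have hP : kplane K e f ≠ ⊥ := fun h0 => by
    rw [h0, finrank_bot] at hn
    have := c.three_le_r
    omega
  have hordτ : orderOf τ = s := by rw [← Subgroup.orderOf_coe]; exact hord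
  have hall := commute_all (p := p) (restrictHom (Fix M (c.Perp e f)) (kplane K e f) hmap) hρ hordτ
    (by rw [hn]; exact hrs) (by rw [hn]; exact c.two_r_ne_pow) hconj habel (fun R hR hRt r hr => by
      obtain ⟨z, hzP, hz0, hz⟩ := exists_fixed (p := p) hP hmap hR
      let U : Submodule F (ι → F) :=
        { carrier := {x | x ∈ kplane K e f ∧ ∀ g ∈ R, mat Q g.1 *ᵥ x = x}
          zero_mem' := ⟨Submodule.zero_mem _, fun g _ => mulVec_zero _⟩
          add_mem' := fun {x y} hx hy => ⟨Submodule.add_mem _ hx.1 hy.1, fun g hg => by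
            rw [mulVec_add, hx.2 g hg, hy.2 g hg]⟩
          smul_mem' := fun t x hx => ⟨Submodule.smul_mem _ t hx.1, fun g hg => by rw [mulVec_smul, hx.2 g hg]⟩ }
      have hU : ∀ x ∈ U, mat Q τ₀ *ᵥ x ∈ U := fun x hx => ⟨hτP x hx.1, fun g hg => by
        have hg' : τ⁻¹ * g * τ ∈ R := by
          have hn : ∀ n : ℕ, ∀ g ∈ R, τ ^ n * g * (τ ^ n)⁻¹ ∈ R := fun n => by
            induction n with
            | zero => simp
            | succ n ih => intro g hg; have := hRt _ (ih g hg); simpa [pow_succ', mul_assoc] using this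
          have hτi : τ⁻¹ = τ ^ (s - 1) := inv_eq_of_mul_eq_one_right (by
            rw [← pow_succ', Nat.sub_add_cancel hs.out.pos, ← hordτ, pow_orderOf_eq_one])
          have := hn (s - 1) g hg
          rwa [← hτi, inv_inv] at this
        have h := hx.2 _ hg'
        rw [Subgroup.coe_mul, Subgroup.coe_mul, Subgroup.coe_inv, mat_mul, mat_mul, ← mulVec_mulVec,
          ← mulVec_mulVec] at h
        show mat Q g.1 *ᵥ (mat Q τ.1 *ᵥ x) = mat Q τ.1 *ᵥ x
        conv_rhs => rw [← h, mulVec_inv_cancel]⟩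
      suffices r = 1 by rw [this]; exact Commute.one_right τ
      refine hext r 1 fun x hx => ?_
      rw [Subgroup.coe_one, mat_one, one_mulVec]
      rcases hirr U (fun x hx => hx.1) hU with h | h
      · exact absurd ((Submodule.mem_bot F).1 (h ▸ (⟨hzP, hz⟩ : z ∈ U))) hz0
      · exact (h ▸ hx : x ∈ U).2 r hr)
  exact hlin ⟨g, hgM, hg⟩ (hall _)

end Ext

end CfsgLib.OrthExtGen
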