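import Cfsg.Agent.OrthExtGen.PlaneLin

/-!
# Members carrying planes to planes

`norm_of_plane_map`: a member carrying a hyperbolic plane onto a `K`-plane normalises the field.
`norm_of_plane_conj`: so does a member conjugating a plane involution to a member commuting with the field.
-/

set_option autoImplicit false
set_option linter.unusedSectionVars false
set_option maxHeartbeats 1000000

namespace CfsgLib.OrthExtGen

open Matrix Module CfsgLib.Spinor CfsgLib.OrthMax

variable {F : Type*} [Field F] [Fintype F] {ι : Type} [Fintype ι] [DecidableEq ι]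
  {Q : QuadraticForm F (ι → F)}
variable {K : Type*} [Field K] [Algebra F K] [Module K (ι → F)] [IsScalarTower F K (ι → F)]

namespace Ext

variable (c : Ext Q K)
include c

/-- The semilinear map of a member normalising the field. -/
theorem exists_aut_of_norm {g : Isom Q} (hg : Norm K g) :
    ∃ σ : K ≃ₐ[F] K, ∀ (k : K) x, mat Q g *ᵥ (k • x) = σ k • (mat Q g *ᵥ x) := by
  have := c.finite
  choose σ hσ using hg
  obtain ⟨u, hu, -⟩ := c.exists_singular
  have hu' := mulVec_ne_zero g hu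
  have hfun : ∀ k k', mat Q g *ᵥ (k • u) = k' • (mat Q g *ᵥ u) → σ k = k' := fun k k' e =>
    smul_left_injective K hu' ((hσ k u).symm.trans e)
  let σh : K →ₐ[F] K :=
    { toFun := σ
      map_one' := hfun 1 1 (by rw [one_smul, one_smul])
      map_mul' := fun a b => hfun _ _ (by rw [mul_smul, hσ, hσ, mul_smul])
      map_zero' := hfun 0 0 (by rw [zero_smul, zero_smul, mulVec_zero])
      map_add' := fun a b => hfun _ _ (by rw [add_smul, mulVec_add, hσ, hσ, add_smul])
      commutes' := fun t => hfun _ _ (by rw [algebraMap_smul, algebraMap_smul, mulVec_smul]) }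
  exact ⟨AlgEquiv.ofBijective σh (Finite.injective_iff_bijective.1 σh.toRingHom.injective), hσ⟩

/-- Involutions normalising the field commute with it. -/
theorem lin_of_invol {g : Isom Q} (hg : Norm K g) (h2 : g * g = 1) : Lin K g := by
  obtain ⟨σ, hσ⟩ := c.exists_aut_of_norm hg
  obtain ⟨u, hu, -⟩ := c.exists_singular
  intro k x
  have h1 : σ (σ k) = k := by
    refine smul_left_injective K hu ?_
    have e : mat Q g *ᵥ (mat Q g *ᵥ (k • u)) = k • u := by
      rw [mulVec_mulVec, ← mat_mul, h2, mat_one, one_mulVec]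
    rw [hσ, hσ, mulVec_mulVec, ← mat_mul, h2, mat_one, one_mulVec] at e
    exact e
  rw [hσ, c.fixed_of_sq σ h1]

/-- Anisotropic vectors orthogonal to fewer than `dim` of them. -/
theorem exists_aniso_perp_family {n : ℕ} (b : Fin n → ι → F) (hb : ∀ i j, i ≠ j → c.h (b i) (b j) = 0)
    (hbb : ∀ i, c.h (b i) (b i) ≠ 0) (hn : n < finrank K (ι → F)) :
    ∃ g, (∀ i, c.h (b i) g = 0) ∧ c.h g g ≠ 0 := by
  classical
  have := c.fdK
  by_contra! hall
  let pr : (ι → F) → (ι → F) := fun x => x - ∑ i, (c.h (b i) x / c.h (b i) (b i)) • b i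
  have hpr : ∀ x i, c.h (b i) (pr x) = 0 := fun x i => by
    simp only [pr, map_sub, map_sum, map_smul, smul_eq_mul]
    rw [Finset.sum_eq_single i (fun j _ hj => by rw [hb i j hj.symm, mul_zero])
      (fun h => absurd (Finset.mem_univ i) h), div_mul_cancel₀ _ (hbb i), sub_self]
  have hdec : ∀ x, x = pr x + ∑ i, (c.h (b i) x / c.h (b i) (b i)) • b i := fun x => by simp [pr]
  have hz : ∀ x, pr x = 0 := fun x => by
    refine c.h_sep fun z => ?_
    have h2 := hall (pr x + pr z) fun i => by rw [map_add, hpr, hpr, add_zero]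
    simp only [map_add, LinearMap.add_apply, hall _ (hpr x), hall _ (hpr z), c.symm (pr z) (pr x), zero_add,
      add_zero] at h2
    have h3 : (2 : K) * c.h (pr x) (pr z) = 0 := by linear_combination h2
    conv_lhs => rw [hdec z]
    simp [map_sum, c.symm (pr x) (b _), hpr, (mul_eq_zero.1 h3).resolve_left c.two']
  have htop : Submodule.span K (Set.range b) = ⊤ := by
    refine Submodule.eq_top_iff'.2 fun x => ?_
    rw [hdec x, hz x, zero_add]
    exact Submodule.sum_mem _ fun i _ => Submodule.smul_mem _ _ (Submodule.subset_span ⟨i, rfl⟩)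
  have h2 := finrank_range_le_card (R := K) b
  rw [Set.finrank, htop, finrank_top, Fintype.card_fin] at h2
  omega

/-- An orthogonal basis of a non-degenerate plane. -/
theorem exists_orth_basis (W : Submodule K (ι → F)) (h2 : finrank K W = 2)
    (hnd : ∀ w ∈ W, (∀ z ∈ W, c.h w z = 0) → w = 0) :
    ∃ e f, c.Orth e f ∧ ∀ x, x ∈ W ↔ x ∈ kplane K e f := by
  have := c.fdK
  obtain ⟨e, he, hee⟩ : ∃ e ∈ W, c.h e e ≠ 0 := by
    by_contra! hall
    have : Nontrivial W := Module.nontrivial_of_finrank_pos (R := K) (by rw [h2]; norm_num)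
    obtain ⟨⟨w, hw⟩, hw0⟩ := exists_ne (0 : W)
    refine hw0 (Subtype.ext (hnd w hw fun z hz => ?_))
    have h3 := hall (w + z) (W.add_mem hw hz)
    simp only [map_add, LinearMap.add_apply, hall w hw, hall z hz, c.symm z w, zero_add, add_zero] at h3
    exact (mul_eq_zero.1 (show (2 : K) * c.h w z = 0 by linear_combination h3)).resolve_left c.two'
  let pr : (ι → F) → (ι → F) := fun x => x - (c.h e x / c.h e e) • e
  have hpr : ∀ x, c.h e (pr x) = 0 := fun x => by simp [pr, hee]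
  have hprW : ∀ x ∈ W, pr x ∈ W := fun x hx => W.sub_mem hx (W.smul_mem _ he)
  obtain ⟨f, hf, hef, hff⟩ : ∃ f ∈ W, c.h e f = 0 ∧ c.h f f ≠ 0 := by
    by_contra! hall
    have hz : ∀ x ∈ W, pr x = 0 := fun x hx => hnd _ (hprW x hx) fun z hz => by
      have h3 := hall (pr x + pr z) (W.add_mem (hprW x hx) (hprW z hz)) (by rw [map_add, hpr, hpr, add_zero])
      simp only [map_add, LinearMap.add_apply, hall _ (hprW x hx) (hpr x), hall _ (hprW z hz) (hpr z),
        c.symm (pr z) (pr x), zero_add, add_zero] at h3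
      conv_lhs => rw [show z = pr z + (c.h e z / c.h e e) • e by simp [pr]]
      rw [map_add, map_smul, c.symm (pr x) e, hpr,
        (mul_eq_zero.1 (show (2 : K) * c.h (pr x) (pr z) = 0 by linear_combination h3)).resolve_left c.two']
      simp
    have hle : W ≤ Submodule.span K {e} := fun x hx => Submodule.mem_span_singleton.2
      ⟨c.h e x / c.h e e, (sub_eq_zero.1 (hz x hx)).symm⟩
    have h3 := Submodule.finrank_mono hle
    rw [h2, finrank_span_singleton (fun h0 => hee (by rw [h0, map_zero]))] at h3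
    omega
  refine ⟨e, f, ⟨hef, hee, hff⟩, fun x => ?_⟩
  have hle : Submodule.span K ({e, f} : Set (ι → F)) ≤ W :=
    Submodule.span_le.2 (Set.insert_subset he (Set.singleton_subset_iff.2 hf))
  have heq : Submodule.span K ({e, f} : Set (ι → F)) = W := by
    refine Submodule.eq_of_le_of_finrank_le hle ?_
    have h1 := finrank_span_eq_card (c.linearIndependent_orth ⟨hef, hee, hff⟩)
    rw [Matrix.range_cons, Matrix.range_cons, Matrix.range_empty, Set.union_empty, Set.singleton_union,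
      Fintype.card_fin] at h1
    rw [h1, h2]
  rw [kplane, Submodule.restrictScalars_mem, heq]

variable [FiniteDimensional F K] {M : Subgroup (Isom Q)}

/-- The basic rule: a pair whose rest goes to a set with linear fixers. -/
theorem norm_of_pair (hM : Below K M) (hMΩ : M ≤ Cfsg.Omega F ⇑Q) (hle : ¬ Cfsg.Omega F ⇑Q ≤ M) {u v : ι → F}
    (hp : c.Pair u v) {x : Isom Q} (hx : x ∈ M)
    (hlin : ∀ y ∈ M, (∀ w, c.Rest u v (mat Q x⁻¹ *ᵥ w) → mat Q y *ᵥ w = w) → Lin K y) : Norm K x := by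
  obtain ⟨s, k, τ, -, -, -, -, hk2, -, hτM, hτ, -⟩ := c.exists_tor_prime hM hp
  refine c.norm_of_torus hM hMΩ hle hp hk2 hτ hx (hlin _ (M.mul_mem (M.mul_mem hx hτM) (M.inv_mem hx))
    fun w hw => ?_)
  rw [mat_mul, mat_mul, ← mulVec_mulVec, ← mulVec_mulVec, hτ.apply_rest c hw, mulVec_inv_cancel]

/-- The image of a plane, when a `K`-subspace, has an orthogonal basis. -/
theorem exists_image_basis {e f : ι → F} (ho : c.Orth e f) {x : Isom Q} (P' : Submodule K (ι → F))
    (hP' : ∀ z, z ∈ P' ↔ mat Q x⁻¹ *ᵥ z ∈ kplane K e f) :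
    ∃ e' f', c.Orth e' f' ∧ (∀ z, z ∈ P' ↔ z ∈ kplane K e' f') ∧
      ∀ w, c.Perp e' f' w → c.Perp e f (mat Q x⁻¹ *ᵥ w) := by
  have := c.fdK
  have := c.fdF
  have hxz : ∀ z, z ∈ kplane K e f ↔ mat Q x *ᵥ z ∈ P' := fun z => by rw [hP', inv_mulVec_cancel]
  have hperp : ∀ w, (∀ z ∈ P', c.h z w = 0) → c.Perp e f (mat Q x⁻¹ *ᵥ w) := by
    intro w hw
    constructor <;> refine c.h_eq_zero_of_polar fun l => ?_
    · rw [← polar_mulVec Q x, mulVec_inv_cancel, c.tr, hw _ ((hxz _).1 (mem_kplane.2 ⟨l, 0, by simp⟩)), map_zero]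
    · rw [← polar_mulVec Q x, mulVec_inv_cancel, c.tr, hw _ ((hxz _).1 (mem_kplane.2 ⟨0, l, by simp⟩)), map_zero]
  have hF : finrank F (P'.restrictScalars F) = 2 * c.r := by
    have hinj : Function.Injective (Matrix.toLin' (mat Q x)) := fun a b h => (mulVec_eq_iff x).1 h
    have : P'.restrictScalars F = (kplane K e f).map (Matrix.toLin' (mat Q x)) := by
      ext z
      rw [Submodule.restrictScalars_mem, hP']
      exact ⟨fun h => ⟨_, h, mulVec_inv_cancel x z⟩, fun ⟨y, hy, h⟩ => by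
        rw [← h, Matrix.toLin'_apply, inv_mulVec_cancel]; exact hy⟩
    rw [this, ← (Submodule.equivMapOfInjective _ hinj _).finrank_eq, c.finrank_plane (c.linearIndependent_orth ho)]
  have h2 : finrank K P' = 2 := by
    have := Module.finrank_mul_finrank F K P'
    rw [c.deg, show finrank F P' = 2 * c.r from hF, mul_comm] at this
    exact Nat.eq_of_mul_eq_mul_right c.prime.pos this
  obtain ⟨e', f', ho', hW⟩ := c.exists_orth_basis P' h2 fun w hw hall => by
    obtain ⟨hwe, hwf⟩ := hperp w fun z hz => by rw [c.symm, hall z hz]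
    obtain ⟨α, β, hαβ⟩ := mem_kplane.1 ((hP' w).1 hw)
    rw [← hαβ] at hwe hwf
    simp [ho.1, ho.2.1, ho.2.2, c.symm f e] at hwe hwf
    rw [hwe, hwf, zero_smul, zero_smul, add_zero] at hαβ
    rw [← mulVec_inv_cancel x w, ← hαβ, mulVec_zero]
  refine ⟨e', f', ho', hW, fun w hw => hperp w fun z hz => ?_⟩
  obtain ⟨α, β, rfl⟩ := mem_kplane.1 ((hW z).1 hz)
  simp [hw.1, hw.2]

/-- **A member carrying a hyperbolic plane onto a plane.** -/
theorem norm_of_plane_map (hM : Below K M) (hMΩ : M ≤ Cfsg.Omega F ⇑Q) (hle : ¬ Cfsg.Omega F ⇑Q ≤ M)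
    {e f : ι → F} (ho : c.Orth e f) (hsq : IsSquare (-(c.h f f / c.h e e))) {x : Isom Q} (hx : x ∈ M)
    (P' : Submodule K (ι → F)) (hP' : ∀ z, z ∈ P' ↔ mat Q x⁻¹ *ᵥ z ∈ kplane K e f) : Norm K x := by
  obtain ⟨u, v, hp, hperp, -, -⟩ := c.exists_pair_orth ho hsq
  obtain ⟨e', f', ho', -, hperp'⟩ := c.exists_image_basis ho P' hP'
  exact c.norm_of_pair hM hMΩ hle hp hx fun y hy hfix =>
    c.plane_lin hM hMΩ hle ho' hy fun w hw => hfix w ((hperp _).1 (hperp' w hw))

/-- The negated subspace of a plane involution. -/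
theorem rot_neg_iff {e f : ι → F} (ho : c.Orth e f) {z : Isom Q} (hz : c.IsRot e f (-1) 0 z) (w : ι → F) :
    mat Q z *ᵥ w = -w ↔ w ∈ kplane K e f := by
  constructor
  · intro h
    have hp := c.perp_spec ho w
    rw [c.orth_decomp e f w, hz, c.rotMap_comb ho _ _ _ _ hp] at h
    have h0 : (2 : K) • c.perp e f w = 0 := by linear_combination (norm := module) h
    exact mem_kplane.2 ⟨_, _, by
      conv_rhs => rw [c.orth_decomp e f w, (smul_eq_zero.1 h0).resolve_left c.two', add_zero]⟩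
  · intro h
    obtain ⟨α, β, rfl⟩ := mem_kplane.1 h
    have h0 : c.Perp e f 0 := ⟨map_zero _, map_zero _⟩
    rw [hz, ← add_zero (α • e + β • f), c.rotMap_comb ho _ _ _ _ h0]
    module

/-- **A member conjugating a plane involution to a member commuting with the field.** -/
theorem norm_of_plane_conj (hM : Below K M) (hMΩ : M ≤ Cfsg.Omega F ⇑Q) (hle : ¬ Cfsg.Omega F ⇑Q ≤ M)
    {e f : ι → F} (ho : c.Orth e f) {z x : Isom Q} (hz : c.IsRot e f (-1) 0 z) (hx : x ∈ M)
    (hl : Lin K (x * z * x⁻¹)) {b : ι → F} (hb : c.Perp e f b) (hbb : c.h b b ≠ 0)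
    (hext : (∀ k : K, mat Q x *ᵥ (k • b) = k • b) ∨
      ∀ b', c.h b' b' ≠ 0 → ∀ y ∈ M, (∀ k : K, mat Q y *ᵥ (k • b') = k • b') → Lin K y) : Norm K x := by
  classical
  let P' : Submodule K (ι → F) := LinearMap.ker (hl.endo + LinearMap.id)
  have hP' : ∀ w, w ∈ P' ↔ mat Q x⁻¹ *ᵥ w ∈ kplane K e f := fun w => by
    rw [← c.rot_neg_iff ho hz, LinearMap.mem_ker, LinearMap.add_apply, Lin.endo_apply, LinearMap.id_apply,
      add_eq_zero_iff_eq_neg, mat_mul, mat_mul, ← mulVec_mulVec, ← mulVec_mulVec]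
    constructor <;> intro h
    · have := congrArg (mat Q x⁻¹ *ᵥ ·) h
      simpa only [inv_mulVec_cancel, mulVec_neg] using this
    · rw [h, mulVec_neg, mulVec_inv_cancel]
  by_cases hsq : IsSquare (-(c.h f f / c.h e e))
  · exact c.norm_of_plane_map hM hMΩ hle ho hsq hx P' hP'
  obtain ⟨s, τ, a₀, b₀, -, -, -, hτM, -, -, hτ, -, hirr⟩ := c.exists_rot_prime hM ho hsq
  have hτP : ∀ w ∈ kplane K e f, mat Q τ *ᵥ w ∈ kplane K e f := fun w hw =>
    c.perp_fix_maps ho (fun v hv => hτ.fix c ho hv) hw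
  obtain ⟨e', f', ho', -, hperp'⟩ := c.exists_image_basis ho P' hP'
  have hy : Lin K (x * τ * x⁻¹) := c.plane_lin hM hMΩ hle ho' (M.mul_mem (M.mul_mem hx hτM) (M.inv_mem hx))
    fun w hw => by rw [mat_mul, mat_mul, ← mulVec_mulVec, ← mulVec_mulVec, hτ.fix c ho (hperp' w hw), mulVec_inv_cancel]
  obtain ⟨σ, hσ, hσh⟩ := c.semilinear_on ho (hτ.lin c) hτP hirr hy P' hP'
  obtain ⟨α, β, hval⟩ := c.exists_value ho (-c.h b b)
  set f₁ := α • e + β • f with hf₁
  have hf₁P : f₁ ∈ kplane K e f := mem_kplane.2 ⟨α, β, rfl⟩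
  have hbf : c.h b f₁ = 0 := by simp [hf₁, c.symm b e, c.symm b f, hb.1, hb.2]
  have ho₁ : c.Orth b f₁ := ⟨hbf, hbb, by rw [hval, neg_ne_zero]; exact hbb⟩
  have hsq₁ : IsSquare (-(c.h f₁ f₁ / c.h b b)) := by
    rw [hval, neg_div, neg_neg, div_self hbb]; exact IsSquare.one
  rcases hext with hfix | hFL
  · -- the vector is fixed
    have hmap : ∀ s t : K, mat Q x *ᵥ (s • b + t • f₁) = s • b + σ t • (mat Q x *ᵥ f₁) := fun s t => by
      rw [mulVec_add, hfix, hσ t f₁ hf₁P]
    refine c.norm_of_plane_map hM hMΩ hle ho₁ hsq₁ hx (Submodule.span K {b, mat Q x *ᵥ f₁}) fun w => ?_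
    rw [Submodule.mem_span_pair]
    constructor
    · rintro ⟨s, t, rfl⟩
      obtain ⟨t', rfl⟩ := σ.surjective t
      rw [← hmap, inv_mulVec_cancel]
      exact mem_kplane.2 ⟨s, t', rfl⟩
    · intro hw
      obtain ⟨s, t, h⟩ := mem_kplane.1 hw
      exact ⟨s, σ t, by rw [← hmap, h, mulVec_inv_cancel]⟩
  · -- lines with linear fixers
    obtain ⟨u, v, hp, hperp, -, -⟩ := c.exists_pair_orth ho₁ hsq₁
    set b₁ := (-(c.h f f / c.h e e) * β) • e + α • f with hb₁
    have hb₁P : b₁ ∈ kplane K e f := mem_kplane.2 ⟨_, _, rfl⟩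
    have hee := ho.2.1
    have h11 : c.h b₁ b₁ = c.h f f / c.h e e * c.h f₁ f₁ := by
      simp [hb₁, hf₁, ho.1, c.symm f e]
      field_simp
      ring
    have hb₁0 : c.h b₁ b₁ ≠ 0 := by
      rw [h11, hval]
      exact mul_ne_zero (div_ne_zero ho.2.2 hee) (neg_ne_zero.2 hbb)
    have hb₁R : ∀ k : K, c.Rest u v (k • b₁) := fun k => (hperp _).1 ⟨by
      simp [hb₁, c.symm b e, c.symm b f, hb.1, hb.2], by
      simp [hb₁, hf₁, ho.1, c.symm f e]
      field_simp
      ring_nf⟩
    refine c.norm_of_pair hM hMΩ hle hp hx fun y hy hfix => hFL (mat Q x *ᵥ b₁) ?_ y hy fun k => ?_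
    · rw [hσh _ hb₁P]
      exact (_root_.map_ne_zero σ).2 hb₁0
    · obtain ⟨k', rfl⟩ := σ.surjective k
      rw [← hσ k' b₁ hb₁P]
      exact hfix _ (by rw [inv_mulVec_cancel]; exact hb₁R k')

end Ext

end CfsgLib.OrthExtGen
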