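import Cfsg.Agent.OrthExtGen.Torus
import Cfsg.Agent.OrthExtGen.Coprime

/-!
# Members fixing the rest of a hyperbolic pair

A group between `Ω ∩ N(K)` and `Ω`, the latter excluded, has no root elements on singular lines, and its
members fixing the rest of a pair are torus elements: in both cases a torus element of large prime order
with abelian, self-normalising centraliser does it.
-/

set_option autoImplicit false
set_option linter.unusedSectionVars false
set_option maxHeartbeats 1000000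

namespace CfsgLib.OrthExtGen

open Matrix Module Polynomial CfsgLib.Spinor CfsgLib.OrthMax

variable {F : Type*} [Field F] [Fintype F] {ι : Type} [Fintype ι] [DecidableEq ι]
  {Q : QuadraticForm F (ι → F)}
variable {K : Type*} [Field K] [Algebra F K] [Module K (ι → F)] [IsScalarTower F K (ι → F)]

/-- The members of `M` fixing a set pointwise. -/
def Fix (M : Subgroup (Isom Q)) (W : (ι → F) → Prop) : Subgroup (Isom Q) where
  carrier := {g | g ∈ M ∧ ∀ w, W w → mat Q g *ᵥ w = w}
  one_mem' := ⟨M.one_mem, fun w _ => by rw [mat_one, one_mulVec]⟩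
  mul_mem' := fun {a b} ha hb => ⟨M.mul_mem ha.1 hb.1, fun w hw => by
    rw [mat_mul, ← mulVec_mulVec, hb.2 w hw, ha.2 w hw]⟩
  inv_mem' := fun {a} ha => ⟨M.inv_mem ha.1, fun w hw => (mulVec_eq_iff a).1 (by
    rw [mulVec_inv_cancel, ha.2 w hw])⟩

theorem mem_fix {M : Subgroup (Isom Q)} {W : (ι → F) → Prop} {g : Isom Q} :
    g ∈ Fix M W ↔ g ∈ M ∧ ∀ w, W w → mat Q g *ᵥ w = w := Iff.rfl

/-- Restriction to an invariant subspace. -/
noncomputable def restrictHom (X : Subgroup (Isom Q)) (P : Submodule F (ι → F))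
    (h : ∀ g ∈ X, ∀ x ∈ P, mat Q g *ᵥ x ∈ P) : X →* (Module.End F P)ˣ :=
  MonoidHom.toHomUnits
    { toFun := fun g => (Matrix.toLin' (mat Q g.1)).restrict (p := P) (q := P) fun x hx => by
        simpa using h g.1 g.2 x hx
      map_one' := LinearMap.ext fun x => Subtype.ext (by simp [mat_one])
      map_mul' := fun a b => LinearMap.ext fun x => Subtype.ext (by simp [mat_mul]) }

theorem restrictHom_apply {X : Subgroup (Isom Q)} {P : Submodule F (ι → F)}
    (h : ∀ g ∈ X, ∀ x ∈ P, mat Q g *ᵥ x ∈ P) (g : X) (x : P) :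
    ((restrictHom X P h g : Module.End F P) x : ι → F) = mat Q g.1 *ᵥ x := by
  simp [restrictHom]

/-- A `p`-group preserving a non-zero subspace fixes a non-zero vector of it. -/
theorem exists_fixed {p : ℕ} [Fact p.Prime] [CharP F p] {X : Subgroup (Isom Q)} {P : Submodule F (ι → F)}
    (hP : P ≠ ⊥) (h : ∀ g ∈ X, ∀ x ∈ P, mat Q g *ᵥ x ∈ P) {R : Subgroup X} (hR : IsPGroup p R) :
    ∃ x ∈ P, x ≠ 0 ∧ ∀ g ∈ R, mat Q g.1 *ᵥ x = x := by
  classical
  let _ : MulAction R P := MulAction.compHom P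
    (((Units.coeHom _).comp (restrictHom X P h)).comp R.subtype)
  have happ : ∀ (g : R) (x : P), ((g • x : P) : ι → F) = mat Q g.1.1 *ᵥ x := fun g x => restrictHom_apply h _ x
  have : Nontrivial P := Submodule.nontrivial_iff_ne_bot.2 hP
  have hdvd : p ∣ Nat.card P := by
    rw [Module.natCard_eq_pow_finrank (K := F), Nat.card_eq_fintype_card]
    obtain ⟨n, -, hn⟩ := FiniteField.card F p
    rw [hn, ← pow_mul]
    exact dvd_pow_self p (Nat.mul_ne_zero n.pos.ne' Module.finrank_pos.ne')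
  obtain ⟨x, hx, hx0⟩ := hR.exists_fixed_point_of_prime_dvd_card_of_fixed_point P hdvd
    (a := 0) (fun g => Subtype.ext (by rw [happ, Submodule.coe_zero, mulVec_zero]))
  exact ⟨x, x.2, fun e => hx0 (Subtype.ext e).symm, fun g hg => (happ ⟨g, hg⟩ x).symm.trans
    (congrArg Subtype.val (hx ⟨g, hg⟩))⟩

/-- The plane of two vectors, over the ground field. -/
def kplane (K : Type*) [Field K] [Algebra F K] [Module K (ι → F)] [IsScalarTower F K (ι → F)] (a b : ι → F) :
    Submodule F (ι → F) :=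
  (Submodule.span K ({a, b} : Set (ι → F))).restrictScalars F

theorem mem_kplane {a b x : ι → F} : x ∈ kplane K a b ↔ ∃ k l : K, k • a + l • b = x := Submodule.mem_span_pair

namespace Ext

variable (c : Ext Q K)
include c

theorem finrank_plane {a b : ι → F} (h : LinearIndependent K ![a, b]) : finrank F (kplane K a b) = 2 * c.r := by
  have h1 := finrank_span_eq_card h
  rw [Matrix.range_cons, Matrix.range_cons, Matrix.range_empty, Set.union_empty, Set.singleton_union,
    Fintype.card_fin] at h1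
  have := Module.finrank_mul_finrank F K (Submodule.span K ({a, b} : Set (ι → F)))
  rw [c.deg, h1, mul_comm] at this
  exact this.symm

theorem two_r_ne_pow (k : ℕ) : 2 * c.r ≠ 2 ^ k := by
  intro h
  obtain ⟨j, hj⟩ := c.prime.odd_of_ne_two c.odd
  rcases k with _ | _ | k
  · omega
  · have := c.three_le_r; simp at h; omega
  · rw [pow_succ, pow_succ, hj] at h; omega

/-- An element outside the ground field has every element as a polynomial value. -/
theorem exists_aeval {k : K} (hkF : ∀ t : F, algebraMap F K t ≠ k) (l : K) : ∃ g : F[X], aeval k g = l := by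
  have h := c.eq_top_of_mem (S := Algebra.adjoin F {k}) (Algebra.self_mem_adjoin_singleton F k) hkF
  have : l ∈ Algebra.adjoin F {k} := by rw [h]; exact Algebra.mem_top
  rwa [Algebra.adjoin_singleton_eq_range_aeval] at this

theorem IsTor.mul {u v : ι → F} (hp : c.Pair u v) {k l : K} {g f : Isom Q} (hg : c.IsTor u v k g)
    (hf : c.IsTor u v l f) : c.IsTor u v (k * l) (g * f) := fun x => by
  rw [mat_mul, ← mulVec_mulVec, hf, hg]
  simp only [torMap_apply, map_add, map_smul, smul_eq_mul, hp.1, hp.2.1, hp.2.2, hp.vu, _root_.mul_inv]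
  module

theorem IsTor.pow {u v : ι → F} (hp : c.Pair u v) {k : K} {g : Isom Q} (hg : c.IsTor u v k g) (n : ℕ) :
    c.IsTor u v (k ^ n) (g ^ n) := by
  induction n with
  | zero => intro x; rw [pow_zero, pow_zero, mat_one, one_mulVec, torMap_apply]; simp
  | succ n ih => rw [pow_succ, pow_succ]; exact ih.mul c hp hg

theorem IsTor.eq_one {u v : ι → F} {g : Isom Q} (hg : c.IsTor u v 1 g) : g = 1 := isom_ext fun x => by
  rw [hg, torMap_apply, mat_one, one_mulVec]
  simp

theorem linearIndependent_pair {u v : ι → F} (hp : c.Pair u v) : LinearIndependent K ![u, v] :=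
  LinearIndependent.pair_iff.2 fun s t e => by
    have h1 := congrArg (c.h v) e
    have h2 := congrArg (c.h u) e
    simp [hp.1, hp.2.1, hp.2.2, hp.vu] at h1 h2
    exact ⟨h1, h2⟩

variable {M : Subgroup (Isom Q)}

theorem fixRest_maps {u v : ι → F} (hp : c.Pair u v) {g : Isom Q} (hg : c.FixRest u v g) {x : ι → F}
    (hx : x ∈ kplane K u v) : mat Q g *ᵥ x ∈ kplane K u v := by
  obtain ⟨k, l, rfl⟩ := mem_kplane.1 hx
  have h := c.rest_apply_eq_zero hp hg (y := k • u + l • v) (by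
    simp [rest, hp.1, hp.2.1, hp.2.2, hp.vu])
  refine mem_kplane.2 ⟨c.h v (mat Q g *ᵥ (k • u + l • v)), c.h u (mat Q g *ᵥ (k • u + l • v)), ?_⟩
  conv_rhs => rw [c.decomp u v (mat Q g *ᵥ (k • u + l • v)), h, add_zero]

/-- A torus element of large prime order. -/
theorem exists_tor_prime (hM : Below K M) {u v : ι → F} (hp : c.Pair u v) :
    ∃ (s : ℕ) (k : K) (τ : Isom Q), Fact s.Prime ∧ 2 * c.r < s ∧ (s : F) ≠ 0 ∧ k ≠ 0 ∧ k * k ≠ 1 ∧
      (∀ t : F, algebraMap F K t ≠ k) ∧ τ ∈ M ∧ c.IsTor u v k τ ∧ orderOf τ = s := by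
  obtain ⟨s, k, hs, hrs, hk, hsF, hkF⟩ := exists_prime_root c.prime c.odd c.deg
  have := c.three_le_r
  have hk0 : k ≠ 0 := fun e => by rw [e, orderOf_zero] at hk; omega
  have hkF' : ∀ t : F, algebraMap F K t ≠ k := fun t e => hkF ⟨t, e⟩
  have hks : k ^ s = 1 := hk ▸ pow_orderOf_eq_one k
  have hk2 : k * k ≠ 1 := fun e => by
    have h2 : s ∣ 2 := hk ▸ orderOf_dvd_of_pow_eq_one (show k ^ 2 = 1 by rw [pow_two, e])
    have := Nat.le_of_dvd two_pos h2
    omega
  obtain ⟨j, hj⟩ := hs.odd_of_ne_two (by omega)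
  obtain ⟨τ, hτM, -, hτ⟩ := c.exists_tor hM hp (pow_ne_zero (j + 1) hk0)
  have he : k ^ (j + 1) * k ^ (j + 1) = k := by
    rw [← pow_add, show j + 1 + (j + 1) = s + 1 by omega, pow_succ, hks, one_mul]
  rw [he] at hτ
  have : Fact s.Prime := ⟨hs⟩
  refine ⟨s, k, τ, this, hrs, hsF, hk0, hk2, hkF', hτM, hτ, orderOf_eq_prime ?_ ?_⟩
  · exact IsTor.eq_one c (u := u) (v := v) (hks ▸ hτ.pow c hp s)
  · intro e
    have h := hτ.apply_left c hp 1
    rw [e, mat_one, one_mulVec, mul_one] at h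
    refine hkF' 1 ?_
    rw [map_one, smul_left_injective K hp.left_ne h]

/-- A subspace of the plane stable under a torus element contains a whole line once it is non-zero. -/
theorem line_of_stable {u v : ι → F} (hp : c.Pair u v) {k : K} (hk : k ≠ 0) (hk2 : k * k ≠ 1)
    (hkF : ∀ t : F, algebraMap F K t ≠ k) {τ : Isom Q} (hτ : c.IsTor u v k τ) {U : Submodule F (ι → F)}
    (hU : ∀ x ∈ U, mat Q τ *ᵥ x ∈ U) {z : ι → F} (hz : z ∈ U) (hzP : z ∈ kplane K u v) (hz0 : z ≠ 0) :
    (∀ l : K, l • u ∈ U) ∨ ∀ l : K, l • v ∈ U := by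
  obtain ⟨a, b, rfl⟩ := mem_kplane.1 hzP
  have hall : ∀ (f : F[X]) (a b : K), a • u + b • v ∈ U → (aeval k f * a) • u + (aeval k⁻¹ f * b) • v ∈ U := by
    intro f
    induction f using Polynomial.induction_on' with
    | add f g hf hg =>
      intro a b h
      rw [map_add, map_add, add_mul, add_mul, add_smul, add_smul, add_add_add_comm]
      exact U.add_mem (hf a b h) (hg a b h)
    | monomial n t =>
      intro a b h
      rw [aeval_monomial, aeval_monomial, mul_assoc, mul_assoc, ← Algebra.smul_def, ← Algebra.smul_def, smul_assoc,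
        smul_assoc, ← smul_add]
      refine U.smul_mem t ?_
      induction n with
      | zero => simpa using h
      | succ n ih =>
        have := hU _ ih
        rw [mulVec_add, hτ.apply_left c hp, hτ.apply_right c hp] at this
        rwa [pow_succ', pow_succ', mul_assoc, mul_assoc]
  by_cases ha : a = 0
  · right
    have hb : b ≠ 0 := fun e => hz0 (by rw [ha, e]; simp)
    intro l
    obtain ⟨g, hg⟩ := c.exists_aeval (k := k⁻¹) (fun t e => hkF t⁻¹ (by rw [map_inv₀, e, inv_inv])) (l / b)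
    have := hall g a b hz
    rwa [ha, mul_zero, zero_smul, zero_add, hg, div_mul_cancel₀ _ hb] at this
  · left
    intro l
    have hne : aeval k (minpoly F k⁻¹) ≠ 0 := fun h0 => by
      have := c.finite
      have := c.fdF
      obtain ⟨e, he⟩ := minpoly.exists_algEquiv_of_root' (K := F) (L := K)
        (Algebra.IsIntegral.isIntegral k⁻¹).isAlgebraic h0
      rw [map_inv₀, inv_eq_iff_eq_inv] at he
      exact hk2 (c.sq_eq_one_of_inv e hk he)
    have h1 := hall (minpoly F k⁻¹) a b hz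
    rw [minpoly.aeval, zero_mul] at h1
    obtain ⟨g, hg⟩ := c.exists_aeval hkF (l / (aeval k (minpoly F k⁻¹) * a))
    have := hall g _ 0 h1
    rwa [mul_zero, zero_smul, add_zero, hg, div_mul_cancel₀ _ (mul_ne_zero hne ha)] at this

section Rest

variable {u v : ι → F} {k : K} {τ : Isom Q}

/-- Centralisers in the stabiliser of the plane are abelian. -/
theorem commute_of_commute (hp : c.Pair u v) (hk : k ≠ 0) (hk2 : k * k ≠ 1)
    (hkF : ∀ t : F, algebraMap F K t ≠ k) (hτ : c.IsTor u v k τ) {a b : Isom Q} (ha : c.FixRest u v a)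
    (hb : c.FixRest u v b) (hea : Commute τ a) (heb : Commute τ b) : Commute a b := by
  obtain ⟨γ, -, hγ⟩ := c.tor_of_commute hp hk hk2 hkF hτ ha hea.symm
  obtain ⟨δ, -, hδ⟩ := c.tor_of_commute hp hk hk2 hkF hτ hb heb.symm
  refine isom_ext fun x => ?_
  rw [hγ.mul c hp hδ, hδ.mul c hp hγ, mul_comm]

/-- The centraliser is its own normaliser. -/
theorem commute_of_conj (hM : Below K M) (hMΩ : M ≤ Cfsg.Omega F ⇑Q) (hle : ¬ Cfsg.Omega F ⇑Q ≤ M)
    (hp : c.Pair u v) (hk : k ≠ 0) (hk2 : k * k ≠ 1)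
    (hkF : ∀ t : F, algebraMap F K t ≠ k) (hτ : c.IsTor u v k τ) {g : Isom Q} (hgM : g ∈ M)
    (hg : c.FixRest u v g) (hy : Commute τ (g * τ * g⁻¹)) : Commute τ g := by
  have hτr : c.FixRest u v τ := fun w hw => hτ.apply_rest c hw
  have hgi : c.FixRest u v g⁻¹ := fun w hw => (mulVec_eq_iff g).1 (by rw [mulVec_inv_cancel, hg w hw])
  obtain ⟨γ, -, hγ⟩ := c.tor_of_commute hp hk hk2 hkF hτ ((hg.mul c hτr).mul c hgi) hy.symm
  have he : g * τ = g * τ * g⁻¹ * g := by group
  have hk' : ∀ t : F, algebraMap F K t ≠ k⁻¹ := fun t h => hkF t⁻¹ (by rw [map_inv₀, h, inv_inv])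
  have hk2' : k⁻¹ * k⁻¹ ≠ 1 := fun h => hk2 (inv_eq_one.1 (by rw [_root_.mul_inv, h]))
  have hg' : c.FixRest v u g := fun w hw => hg w ((c.rest_swap u v w).2 hw)
  have hinj : ∀ (w : ι → F) (β α : K), mat Q g *ᵥ v = β • w → mat Q g *ᵥ u = α • w → False := by
    intro w β α h1 h2
    have hα : α ≠ 0 := fun e => mulVec_ne_zero g hp.left_ne (by rw [h2, e, zero_smul])
    rcases c.maps_line hp hk hk2 hkF hτ hγ hg he with ⟨e, a, -, hu⟩ | ⟨e, a, -, hu⟩
    · have h3 : mat Q g *ᵥ ((e.symm (β / α * a / a)) • u) = mat Q g *ᵥ v := by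
        have hu1 := hu 1
        rw [one_smul, map_one, one_mul, h2] at hu1
        rw [hu, AlgEquiv.apply_symm_apply, h1]
        have ha : a ≠ 0 := fun e0 => by rw [e0, zero_smul, smul_eq_zero] at hu1; exact hu1.elim hα fun w0 => mulVec_ne_zero g hp.left_ne (by rw [h2, w0, smul_zero])
        rw [div_mul_cancel₀ _ ha, mul_smul, ← hu1, smul_smul, div_mul_cancel₀ _ hα]
      have := congrArg (c.h u) ((mulVec_eq_iff g).1 h3)
      simp [hp.1, hp.2.2] at this
    · have h3 : mat Q g *ᵥ ((e.symm (β / α * a / a)) • u) = mat Q g *ᵥ v := by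
        have hu1 := hu 1
        rw [one_smul, map_one, one_mul, h2] at hu1
        rw [hu, AlgEquiv.apply_symm_apply, h1]
        have ha : a ≠ 0 := fun e0 => by rw [e0, zero_smul, smul_eq_zero] at hu1; exact hu1.elim hα fun w0 => mulVec_ne_zero g hp.left_ne (by rw [h2, w0, smul_zero])
        rw [div_mul_cancel₀ _ ha, mul_smul, ← hu1, smul_smul, div_mul_cancel₀ _ hα]
      have := congrArg (c.h u) ((mulVec_eq_iff g).1 h3)
      simp [hp.1, hp.2.2] at this
  rcases c.maps_line hp hk hk2 hkF hτ hγ hg he with ⟨e, α, -, hu⟩ | ⟨e, α, -, hu⟩ <;>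
    rcases c.maps_line hp.symm (inv_ne_zero hk) hk2' hk' hτ.swap hγ.swap hg' he with
      ⟨e', β, -, hv⟩ | ⟨e', β, -, hv⟩
  · obtain rfl : e = 1 := by_contra fun h => hle (c.omega_le_of_semi hM hp hgM hg h hu)
    obtain rfl : e' = 1 := by_contra fun h => hle (c.omega_le_of_semi hM hp.symm hgM hg' h hv)
    have hgx : ∀ (a b : K) w, c.Rest u v w →
        mat Q g *ᵥ (a • u + b • v + w) = (a * α) • u + (b * β) • v + w := fun a b w hw => by
      rw [mulVec_add, mulVec_add, hu, hv, hg w hw]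
      simp
    have hτx : ∀ (a b : K) w, c.Rest u v w →
        mat Q τ *ᵥ (a • u + b • v + w) = (k * a) • u + (k⁻¹ * b) • v + w := fun a b w hw => by
      rw [mulVec_add, mulVec_add, hτ.apply_left c hp, hτ.apply_right c hp, hτ.apply_rest c hw]
    refine isom_ext fun x => ?_
    have hR := hp.rest_spec x
    simp only [mat_mul, ← mulVec_mulVec]
    rw [c.decomp u v x, hgx _ _ _ hR, hτx _ _ _ hR, hτx _ _ _ hR, hgx _ _ _ hR, mul_assoc, mul_assoc]
  · exact (hinj u β α (by simpa using hv 1) (by simpa using hu 1)).elim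
  · exact (hinj v β α (by simpa using hv 1) (by simpa using hu 1)).elim
  · exact (c.not_swap hp (hMΩ hgM) hg hu hv).elim

end Rest

/-- The rest fixers form a group with the hypotheses of the coprime action. -/
theorem torus_data (hM : Below K M) (hMΩ : M ≤ Cfsg.Omega F ⇑Q) (hle : ¬ Cfsg.Omega F ⇑Q ≤ M) {u v : ι → F}
    (hp : c.Pair u v) :
    ∃ (s : ℕ) (k : K) (τ : Fix M (c.Rest u v)), Fact s.Prime ∧ 2 * c.r < s ∧ (s : F) ≠ 0 ∧ k ≠ 0 ∧ k * k ≠ 1 ∧
      (∀ t : F, algebraMap F K t ≠ k) ∧ c.IsTor u v k τ.1 ∧ orderOf τ = s ∧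
      (∀ g, Commute τ (g * τ * g⁻¹) → Commute τ g) ∧
      ∀ a b, Commute τ a → Commute τ b → Commute a b := by
  obtain ⟨s, k, τ, hs, hrs, hsF, hk0, hk2, hkF, hτM, hτ, hord⟩ := c.exists_tor_prime hM hp
  refine ⟨s, k, ⟨τ, hτM, fun w hw => hτ.apply_rest c hw⟩, hs, hrs, hsF, hk0, hk2, hkF, hτ, ?_, ?_, ?_⟩
  · rw [← Subgroup.orderOf_coe]; exact hord
  · exact fun g hg => Subtype.ext (c.commute_of_conj hM hMΩ hle hp hk0 hk2 hkF hτ g.2.1 g.2.2
      (congrArg Subtype.val hg.eq : _)).eq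
  · exact fun a b ha hb => Subtype.ext (c.commute_of_commute hp hk0 hk2 hkF hτ a.2.2 b.2.2
      (congrArg Subtype.val ha.eq : _) (congrArg Subtype.val hb.eq : _)).eq

/-- **No root elements on singular lines.** -/
theorem noZ (hM : Below K M) (hMΩ : M ≤ Cfsg.Omega F ⇑Q) (hle : ¬ Cfsg.Omega F ⇑Q ≤ M) {u : ι → F}
    (hu : c.h u u = 0) (hu0 : u ≠ 0) : c.NoZ M u := by
  classical
  intro r₀ hr₀ hz₀
  by_contra hne
  have := c.finite
  obtain ⟨v, hp⟩ := c.exists_pair_of_singular hu hu0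
  obtain ⟨p, hp'⟩ := CharP.exists F
  have : Fact p.Prime := ⟨CharP.char_is_prime F p⟩
  obtain ⟨s, k, τ, hs, hrs, hsF, hk0, hk2, hkF, hτ, hord, hconj, habel⟩ := c.torus_data hM hMΩ hle hp
  have hps : p ≠ s := fun e => hsF (e ▸ CharP.cast_eq_zero F p)
  let S : (y : ι → F) → Subgroup (Fix M (c.Rest u v)) := fun y =>
    { carrier := {g | c.InZ y g.1}
      one_mem' := fun x _ => by simp [mat_one]
      mul_mem' := fun {a b} ha hb x hx => by rw [Subgroup.coe_mul, mat_mul, ← mulVec_mulVec, hb x hx, ha x hx]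
      inv_mem' := fun {a} ha x hx => (mulVec_eq_iff a.1).1 (by rw [Subgroup.coe_inv, mulVec_inv_cancel, ha x hx]) }
  have hSp : ∀ {y y' : ι → F}, c.Pair y y' → IsPGroup p (S y) := fun {y y'} hy g => by
    refine ⟨1, Subtype.ext (Subtype.ext ?_)⟩
    obtain ⟨T, -, hT⟩ := c.exists_skew hy g.2
    simp only [pow_one, Subgroup.coe_pow, Subgroup.coe_one]
    have hpow : ∀ n : ℕ, ∀ x, mat Q (g.1.1 ^ n) *ᵥ x = x + ((n : K) * T (c.h y x)) • y := fun n => by
      induction n with
      | zero => simp [mat_one]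
      | succ n ih =>
        intro x
        rw [pow_succ', mat_mul, ← mulVec_mulVec, ih, hT, map_add, map_smul, hy.1, smul_zero, add_zero,
          Nat.cast_succ, add_mul, one_mul, add_smul, add_assoc]
    refine isom_ext fun x => ?_
    rw [hpow, mat_one, one_mulVec, ← map_natCast (algebraMap F K), CharP.cast_eq_zero, map_zero, zero_mul,
      zero_smul, add_zero]
  have hnorm : ∀ y, (y = u ∨ y = v) → ∀ c' : Fix M (c.Rest u v), Commute τ c' → ∀ g ∈ S y,
      c' * g * c'⁻¹ ∈ S y := by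
    intro y hy c' hc' g hg x hx
    obtain ⟨γ, hγ0, hγ⟩ := c.tor_of_commute hp hk0 hk2 hkF hτ c'.2.2 (congrArg Subtype.val hc'.eq.symm : _)
    have hfix : c.h y (mat Q c'.1⁻¹ *ᵥ x) = 0 := by
      rw [(hγ.inv c hp hγ0) x, torMap_apply]
      rcases hy with rfl | rfl <;> simp [hp.1, hp.2.1, hp.2.2, hp.vu, hx]
    rw [Subgroup.coe_mul, Subgroup.coe_mul, Subgroup.coe_inv, mat_mul, mat_mul, ← mulVec_mulVec, ← mulVec_mulVec,
      hg _ hfix, mulVec_inv_cancel]
  obtain ⟨f, hfM, hfl, -, a, ha, hfu, hfv⟩ := c.exists_map_pair hM hp hp.symm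
  have hr₀X : r₀ ∈ Fix M (c.Rest u v) := ⟨hr₀, fun w hw => hz₀ w hw.1⟩
  have hr₁ : c.InZ v (f * r₀ * f⁻¹) := fun x hx => by
    have h1 : c.h u (mat Q f⁻¹ *ᵥ x) = 0 := by
      have := c.h_map hfl u (mat Q f⁻¹ *ᵥ x)
      rw [mulVec_inv_cancel, hfu, LinearMap.map_smul₂, hx, smul_zero] at this
      exact this.symm
    rw [mat_mul, mat_mul, ← mulVec_mulVec, ← mulVec_mulVec, hz₀ _ h1, mulVec_inv_cancel]
  have hr₁X : f * r₀ * f⁻¹ ∈ Fix M (c.Rest u v) :=
    ⟨M.mul_mem (M.mul_mem hfM hr₀) (M.inv_mem hfM), fun w hw => hr₁ w hw.2⟩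
  have hr₁1 : f * r₀ * f⁻¹ ≠ 1 := fun e => hne (by
    have := congrArg (fun z => f⁻¹ * z * f) e
    simpa [mul_assoc] using this)
  obtain ⟨c', hc', R, hRp, hRt, hRu, hRv⟩ := exists_common_pGroup hps hord hconj habel (hSp hp) (hSp hp.symm)
    (fun g hg => hnorm u (Or.inl rfl) τ (Commute.refl τ) g hg)
    (fun g hg => hnorm v (Or.inr rfl) τ (Commute.refl τ) g hg)
  have hSv : ∀ g ∈ S v, g ∈ R := fun g hg => by
    have := hRv _ (hnorm v (Or.inr rfl) c'⁻¹ hc'.inv_right g hg)
    simpa [mul_assoc] using this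
  have hP : kplane K u v ≠ ⊥ := fun e => hp.left_ne (by
    have : u ∈ kplane K u v := mem_kplane.2 ⟨1, 0, by simp⟩
    rwa [e, Submodule.mem_bot] at this)
  obtain ⟨z, hzP, hz0, hz⟩ := exists_fixed (p := p) (X := Fix M (c.Rest u v)) hP (fun g hg x hx => c.fixRest_maps hp hg.2 hx) hRp
  let U : Submodule F (ι → F) :=
    { carrier := {x | ∀ g ∈ R, mat Q g.1 *ᵥ x = x}
      zero_mem' := fun g _ => mulVec_zero _
      add_mem' := fun {x y} hx hy g hg => by rw [mulVec_add, hx g hg, hy g hg]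
      smul_mem' := fun t x hx g hg => by rw [mulVec_smul, hx g hg] }
  have hU : ∀ x ∈ U, mat Q τ.1 *ᵥ x ∈ U := fun x hx g hg => by
    have hg' : τ⁻¹ * g * τ ∈ R := by
      have hn : ∀ n : ℕ, ∀ g ∈ R, τ ^ n * g * (τ ^ n)⁻¹ ∈ R := fun n => by
        induction n with
        | zero => simp
        | succ n ih => intro g hg; have := hRt _ (ih g hg); simpa [pow_succ', mul_assoc] using this
      have hτi : τ⁻¹ = τ ^ (s - 1) := inv_eq_of_mul_eq_one_right (by
        rw [← pow_succ', Nat.sub_add_cancel hs.out.pos, ← hord, pow_orderOf_eq_one])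
      have := hn (s - 1) g hg
      rwa [← hτi, inv_inv] at this
    have h := hx _ hg'
    rw [Subgroup.coe_mul, Subgroup.coe_mul, Subgroup.coe_inv, mat_mul, mat_mul, ← mulVec_mulVec, ← mulVec_mulVec] at h
    conv_rhs => rw [← h, mulVec_inv_cancel]
  have hcontra : ∀ {y y' : ι → F}, c.Pair y y' → ∀ g : Fix M (c.Rest u v), g ∈ R → c.InZ y g.1 →
      (∀ l : K, l • y' ∈ U) → g.1 = 1 := by
    intro y y' hy g hg hgz hall
    refine isom_ext fun x => ?_
    have h1 : mat Q g.1 *ᵥ (x - c.h y x • y') = x - c.h y x • y' := hgz _ (by simp [hy.2.2])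
    have h2 : mat Q g.1 *ᵥ (c.h y x • y') = c.h y x • y' := hall _ g hg
    have := congrArg₂ (· + ·) h1 h2
    simp only [← mulVec_add, sub_add_cancel] at this
    rw [this, mat_one, one_mulVec]
  rcases c.line_of_stable hp hk0 hk2 hkF hτ hU (z := z) hz hzP hz0 with h | h
  · exact hr₁1 (hcontra hp.symm ⟨_, hr₁X⟩ (hSv _ hr₁) hr₁ h)
  · exact hne (hcontra hp ⟨_, hr₀X⟩ (hRu hz₀) hz₀ h)

/-- **The members fixing the rest of a pair are torus elements.** -/
theorem tor_of_fixRest (hM : Below K M) (hMΩ : M ≤ Cfsg.Omega F ⇑Q) (hle : ¬ Cfsg.Omega F ⇑Q ≤ M) {u v : ι → F}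
    (hp : c.Pair u v) {g : Isom Q} (hgM : g ∈ M) (hg : c.FixRest u v g) : ∃ γ : K, γ ≠ 0 ∧ c.IsTor u v γ g := by
  classical
  have := c.finite
  obtain ⟨p, hp'⟩ := CharP.exists F
  have : Fact p.Prime := ⟨CharP.char_is_prime F p⟩
  obtain ⟨s, k, τ, hs, hrs, hsF, hk0, hk2, hkF, hτ, hord, hconj, habel⟩ := c.torus_data hM hMΩ hle hp
  set P := kplane K u v with hPdef
  have hmap : ∀ g ∈ Fix M (c.Rest u v), ∀ x ∈ P, mat Q g *ᵥ x ∈ P := fun g hg x hx => c.fixRest_maps hp hg.2 hx
  have hn : finrank F P = 2 * c.r := c.finrank_plane (c.linearIndependent_pair hp)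
  have hρ : Function.Injective (restrictHom (Fix M (c.Rest u v)) P hmap) := fun a b e => Subtype.ext (isom_ext fun x => by
    have hpl : c.h v x • u + c.h u x • v ∈ P := mem_kplane.2 ⟨_, _, rfl⟩
    have e1 := congrArg (fun f : (Module.End F P)ˣ => (((f : Module.End F P) ⟨_, hpl⟩ : P) : ι → F)) e
    simp only [restrictHom_apply] at e1
    conv_lhs => rw [c.decomp u v x, mulVec_add, a.2.2 _ (hp.rest_spec x), e1]
    conv_rhs => rw [c.decomp u v x, mulVec_add, b.2.2 _ (hp.rest_spec x)])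
  have hP : P ≠ ⊥ := fun e => by
    rw [e, finrank_bot] at hn
    have := c.three_le_r
    omega
  have hall := commute_all (p := p) (restrictHom (Fix M (c.Rest u v)) P hmap) hρ hord (by rw [hn]; exact hrs)
    (by rw [hn]; exact c.two_r_ne_pow) hconj habel (fun R hR hRt r hr => by
      obtain ⟨z, hzP, hz0, hz⟩ := exists_fixed (p := p) hP hmap hR
      let U : Submodule F (ι → F) :=
        { carrier := {x | ∀ g ∈ R, mat Q g.1 *ᵥ x = x}
          zero_mem' := fun g _ => mulVec_zero _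
          add_mem' := fun {x y} hx hy g hg => by rw [mulVec_add, hx g hg, hy g hg]
          smul_mem' := fun t x hx g hg => by rw [mulVec_smul, hx g hg] }
      have hU : ∀ x ∈ U, mat Q τ.1 *ᵥ x ∈ U := fun x hx g hg => by
        have hg' : τ⁻¹ * g * τ ∈ R := by
          have hn : ∀ n : ℕ, ∀ g ∈ R, τ ^ n * g * (τ ^ n)⁻¹ ∈ R := fun n => by
            induction n with
            | zero => simp
            | succ n ih => intro g hg; have := hRt _ (ih g hg); simpa [pow_succ', mul_assoc] using this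
          have hτi : τ⁻¹ = τ ^ (s - 1) := inv_eq_of_mul_eq_one_right (by
            rw [← pow_succ', Nat.sub_add_cancel hs.out.pos, ← hord, pow_orderOf_eq_one])
          have := hn (s - 1) g hg
          rwa [← hτi, inv_inv] at this
        have h := hx _ hg'
        rw [Subgroup.coe_mul, Subgroup.coe_mul, Subgroup.coe_inv, mat_mul, mat_mul, ← mulVec_mulVec,
          ← mulVec_mulVec] at h
        conv_rhs => rw [← h, mulVec_inv_cancel]
      suffices r = 1 by rw [this]; exact Commute.one_right τ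
      refine Subtype.ext ?_
      rcases c.line_of_stable hp hk0 hk2 hkF hτ hU (z := z) hz hzP hz0 with h | h
      · refine c.noZ hM hMΩ hle hp.1 hp.left_ne _ r.2.1 fun x hx => ?_
        conv_lhs => rw [c.decomp u v x, hx, zero_smul, add_zero, mulVec_add, h _ r hr, r.2.2 _ (hp.rest_spec x)]
        conv_rhs => rw [c.decomp u v x, hx, zero_smul, add_zero]
      · refine c.noZ hM hMΩ hle hp.2.1 hp.symm.left_ne _ r.2.1 fun x hx => ?_
        conv_lhs => rw [c.decomp u v x, hx, zero_smul, zero_add, mulVec_add, h _ r hr, r.2.2 _ (hp.rest_spec x)]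
        conv_rhs => rw [c.decomp u v x, hx, zero_smul, zero_add])
  exact c.tor_of_commute hp hk0 hk2 hkF hτ hg (congrArg Subtype.val (hall ⟨g, hgM, hg⟩).eq.symm : _)

end Ext

end CfsgLib.OrthExtGen
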