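import Cfsg.Agent.OrthExtGen.Setup

/-!
# Root elements on a singular line generate `Ω`

The isometries fixing the orthogonal of a singular `K`-line correspond to the skew maps of `K`; one of them
in the group puts all of them there, and then `Ω`.
-/

set_option autoImplicit false
set_option linter.unusedSectionVars false
set_option maxHeartbeats 1000000

namespace CfsgLib.OrthExtGen

open Matrix Module CfsgLib.Spinor CfsgLib.OrthMax CfsgLib.Forms

variable {F : Type*} [Field F] [Fintype F] {ι : Type} [Fintype ι] [DecidableEq ι]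
  {Q : QuadraticForm F (ι → F)}
variable {K : Type*} [Field K] [Algebra F K] [Module K (ι → F)] [IsScalarTower F K (ι → F)]

/-- Skewness for the trace form. -/
def IsSkew (T : K →ₗ[F] K) : Prop :=
  ∀ k l, Algebra.trace F K (T k * l) + Algebra.trace F K (k * T l) = 0

/-- The skew map of a parameter. -/
noncomputable def skewMap (σ : K ≃ₐ[F] K) (e : K) : K →ₗ[F] K :=
  LinearMap.mulLeft F e ∘ₗ σ.toLinearMap - (σ.symm).toLinearMap ∘ₗ LinearMap.mulLeft F e

theorem skewMap_apply (σ : K ≃ₐ[F] K) (e k : K) : skewMap σ e k = e * σ k - σ.symm (e * k) := rfl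

namespace Ext

variable (c : Ext Q K)
include c

/-- Acting as `x ↦ x + T(h(u,x)) u`. -/
def Acts (u : ι → F) (T : K → K) (r : Isom Q) : Prop := ∀ x, mat Q r *ᵥ x = x + T (c.h u x) • u

theorem acts_inZ {u : ι → F} {T : K →ₗ[F] K} {r : Isom Q} (hr : c.Acts u T r) : c.InZ u r :=
  fun x hx => by rw [hr, hx, map_zero, zero_smul, add_zero]

/-- The isometries fixing the orthogonal of a singular line. -/
theorem exists_skew {u v : ι → F} (hp : c.Pair u v) {r : Isom Q} (hr : c.InZ u r) :
    ∃ T : K →ₗ[F] K, IsSkew T ∧ c.Acts u T r := by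
  let T : K →ₗ[F] K := ((c.h v).restrictScalars F) ∘ₗ
    ((Matrix.toLin' (mat Q r) - LinearMap.id) ∘ₗ (LinearMap.toSpanSingleton K (ι → F) v).restrictScalars F)
  have hT : ∀ k, T k = c.h v (mat Q r *ᵥ (k • v) - k • v) := fun k => by simp [T]
  have hperp : ∀ (k : K) (y : ι → F), c.h u y = 0 → c.h (mat Q r *ᵥ (k • v) - k • v) y = 0 := by
    intro k y hy
    refine c.h_eq_of_trace fun l => ?_
    have hly : c.h u (l • y) = 0 := by rw [map_smul, hy, smul_zero]
    have := polar_mulVec Q r (k • v) (l • y)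
    rw [hr _ hly, c.tr, c.tr] at this
    rw [mul_zero, map_zero, ← smul_eq_mul, ← (c.h (mat Q r *ᵥ (k • v) - k • v)).map_smul, map_sub,
      LinearMap.sub_apply, map_sub, this, sub_self]
  have hd : ∀ k, mat Q r *ᵥ (k • v) = k • v + T k • u := by
    intro k
    set d := mat Q r *ᵥ (k • v) - k • v with hddef
    have h1 : c.h d u = 0 := hperp k u hp.1
    have hR : c.rest u v d = 0 := c.h_sep fun z => by
      have hz := hp.rest_spec z
      have h0 := hperp k _ hz.1
      have hd0 := hp.rest_spec d
      rw [← hddef] at h0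
      conv at h0 => lhs; arg 1; arg 2; rw [c.decomp u v d]
      simp only [map_add, LinearMap.map_smul₂, LinearMap.add_apply, smul_eq_mul, hz.1, hz.2, mul_zero,
        zero_add] at h0
      conv_lhs => rw [c.decomp u v z]
      simp only [map_add, map_smul, smul_eq_mul, h0, c.symm (c.rest u v d) u, c.symm (c.rest u v d) v, hd0.1,
        hd0.2, mul_zero, add_zero]
    rw [← sub_eq_iff_eq_add', ← hddef, hT, ← hddef]
    conv_lhs => rw [c.decomp u v d, hR, c.symm u d, h1, zero_smul, add_zero, add_zero]
  have hact : c.Acts u T r := by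
    intro x
    have hy : c.h u (x - c.h u x • v) = 0 := by simp [hp.2.2]
    conv_lhs => rw [show x = (x - c.h u x • v) + c.h u x • v by abel, mulVec_add, hr _ hy, hd]
    abel
  refine ⟨T, fun k l => ?_, hact⟩
  have := polar_mulVec Q r (k • v) (l • v)
  rw [hd, hd, c.tr, c.tr] at this
  simp only [map_add, map_smul, LinearMap.add_apply, LinearMap.smul_apply, smul_eq_mul, hp.1, hp.2.1, hp.2.2,
    hp.vu, mul_zero, mul_one, add_zero, zero_add] at this
  rw [map_zero, mul_comm l (T k), mul_comm (T l) k] at this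
  linear_combination this

/-- Skew maps act as isometries. -/
theorem exists_acts {u : ι → F} (hu : c.h u u = 0) {T : K →ₗ[F] K} (hT : IsSkew T) :
    ∃ r : Isom Q, c.Acts u T r := by
  let f : (ι → F) →ₗ[F] (ι → F) := LinearMap.id +
    (LinearMap.toSpanSingleton K (ι → F) u).restrictScalars F ∘ₗ T ∘ₗ (c.h u).restrictScalars F
  have hf : ∀ x, f x = x + T (c.h u x) • u := fun x => by simp [f]
  have hq : ∀ x, Q (f x) = Q x := by
    intro x
    refine mul_left_cancel₀ c.two ?_
    rw [c.quad_eq, c.quad_eq, hf]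
    simp only [map_add, map_smul, LinearMap.add_apply, LinearMap.smul_apply, smul_eq_mul, hu, c.symm x u,
      mul_zero, add_zero]
    have h2 := hT (c.h u x) (c.h u x)
    rw [mul_comm (c.h u x) (T _)] at h2
    linear_combination h2
  have hinj : Function.Injective f := by
    rw [← LinearMap.ker_eq_bot, Submodule.eq_bot_iff]
    intro x hx
    rw [LinearMap.mem_ker, hf, add_eq_zero_iff_eq_neg] at hx
    have h0 := congrArg (c.h u) hx
    rw [map_neg, map_smul, hu, smul_zero, neg_zero] at h0
    rw [hx, h0, map_zero, zero_smul, neg_zero]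
  obtain ⟨g, hg⟩ := (ExtField.glAut : GL ι F ≃* _).surjective (LinearEquiv.ofInjectiveEndo f hinj)
  have hgv : ∀ x, (g : Matrix ι ι F) *ᵥ x = f x := fun x => by rw [← ExtField.glAut_apply, hg]; rfl
  refine ⟨⟨g, fun x _ => ?_⟩, fun x => (hgv x).trans (hf x)⟩
  show Q ((g : Matrix ι ι F) *ᵥ x) = Q x
  rw [hgv, hq]

/-- A skew map is known by its values on pairs from a basis. -/
theorem skew_ext {n : Type*} [LinearOrder n] (b : Basis n F K) {D : K →ₗ[F] K} (hD : IsSkew D)
    (h : ∀ i j, i < j → Algebra.trace F K (b i * D (b j)) = 0) : D = 0 := by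
  have hall : ∀ i j, Algebra.trace F K (b i * D (b j)) = 0 := by
    intro i j
    have e := hD (b i) (b j)
    rcases lt_trichotomy i j with hij | rfl | hij
    · exact h i j hij
    · rw [mul_comm (D (b i))] at e
      exact (mul_eq_zero.1 (show (2 : F) * _ = 0 by linear_combination e)).resolve_left c.two
    · rw [mul_comm (D (b i)), h j i hij, zero_add] at e
      exact e
  refine b.ext fun j => c.h_eq_of_trace fun l => ?_
  rw [LinearMap.zero_apply, mul_zero, map_zero]
  have hl : ((Algebra.trace F K).comp (LinearMap.mulRight F (D (b j)))) = 0 :=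
    b.ext fun i => by simpa using hall i j
  exact LinearMap.congr_fun hl l

theorem skewMap_isSkew (σ : K ≃ₐ[F] K) (e : K) : IsSkew (skewMap σ e) := by
  have key : ∀ k l, Algebra.trace F K (σ.symm (e * k) * l) = Algebra.trace F K (e * k * σ l) := fun k l => by
    conv_lhs => rw [← σ.symm_apply_apply l, ← map_mul σ.symm, Algebra.trace_eq_of_algEquiv]
  intro k l
  simp only [skewMap_apply, sub_mul, mul_sub, map_sub, mul_comm k (σ.symm _), key]
  rw [show k * (e * σ l) = e * k * σ l by ring, show e * l * σ k = e * σ k * l by ring]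
  ring

theorem exists_aut : ∃ σ : K ≃ₐ[F] K, σ ≠ 1 := by
  have := c.finite
  have := c.fdF
  by_contra! h
  have : Subsingleton (K ≃ₐ[F] K) := ⟨fun a b => by rw [h a, h b]⟩
  have h3 := c.card_aut
  rw [Nat.card_of_subsingleton (1 : K ≃ₐ[F] K)] at h3
  exact c.prime.ne_one h3.symm

/-- Sums of the maps of the powers of an automorphism are all skew maps. -/
theorem span_skewMap {σ : K ≃ₐ[F] K} (hσ : σ ≠ 1) (S : AddSubgroup (K →ₗ[F] K))
    (hS : ∀ (i : ℕ) (e : K), skewMap (σ ^ i) e ∈ S) {T : K →ₗ[F] K} (hT : IsSkew T) : T ∈ S := by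
  classical
  have := c.finite
  have := c.fdF
  have : Fact c.r.Prime := ⟨c.prime⟩
  have hord : orderOf σ = c.r := by
    have h1 := orderOf_dvd_natCard σ
    rw [c.card_aut] at h1
    exact ((Nat.dvd_prime c.prime).1 h1).resolve_left fun e => hσ (orderOf_eq_one_iff.1 e)
  obtain ⟨m, hm⟩ := c.prime.odd_of_ne_two c.odd
  let e := finBasisOfFinrankEq F K c.deg
  let P := {p : Fin c.r × Fin c.r // p.1 < p.2}
  have hP : 2 * Fintype.card P + c.r = c.r * c.r := by
    have h1 : Fintype.card {p : Fin c.r × Fin c.r // p.2 < p.1} = Fintype.card P :=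
      Fintype.card_congr ((Equiv.prodComm _ _).subtypeEquiv fun p => Iff.rfl)
    have h2 : Fintype.card {p : Fin c.r × Fin c.r // p.1 = p.2} = c.r := by
      refine Eq.trans ?_ (Fintype.card_fin c.r)
      exact Fintype.card_congr ⟨fun p => p.1.1, fun i => ⟨(i, i), rfl⟩, fun ⟨⟨a, b⟩, h⟩ => Subtype.ext (Prod.ext rfl h), fun i => rfl⟩
    have key : ∀ p : Fin c.r × Fin c.r, 1 = (if p.1 < p.2 then 1 else 0) + ((if p.2 < p.1 then 1 else 0)
        + if p.1 = p.2 then 1 else 0) := fun p => by
      rcases lt_trichotomy p.1 p.2 with h | h | h <;> simp only [h, if_true, lt_irrefl, if_false] <;> rw [if_neg (asymm h), if_neg (by rintro e; rw [e] at h; exact lt_irrefl _ h)]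
    have h3 : c.r * c.r = Finset.sum (Finset.univ : Finset (Fin c.r × Fin c.r)) (fun _ => 1) := by simp
    rw [Finset.sum_congr rfl fun p _ => key p, Finset.sum_add_distrib, Finset.sum_add_distrib, Finset.sum_boole,
      Finset.sum_boole, Finset.sum_boole, ← Fintype.card_subtype, ← Fintype.card_subtype, ← Fintype.card_subtype,
      h1, h2] at h3
    simp only [Nat.cast_id] at h3
    simp only [P] at h3 ⊢
    omega
  let Φ : (Fin m → K) →ₗ[F] (P → F) :=
    { toFun := fun a p => ∑ i : Fin m, Algebra.trace F K (e p.1.1 * skewMap (σ ^ (i.1 + 1)) (a i) (e p.1.2))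
      map_add' := fun a b => funext fun p => by
        simp only [Pi.add_apply, ← Finset.sum_add_distrib, skewMap_apply]
        refine Finset.sum_congr rfl fun i _ => ?_
        simp only [add_mul, mul_sub, mul_add, map_add, map_sub]
        ring
      map_smul' := fun t a => funext fun p => by
        simp only [Pi.smul_apply, RingHom.id_apply, smul_eq_mul, Finset.mul_sum, skewMap_apply]
        refine Finset.sum_congr rfl fun i _ => ?_
        simp only [smul_mul_assoc, mul_sub, mul_smul_comm, map_smul, map_sub, smul_eq_mul] }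
  have hinj : Function.Injective Φ := by
    rw [← LinearMap.ker_eq_bot, Submodule.eq_bot_iff]
    intro a ha
    have h0 : ∑ i : Fin m, skewMap (σ ^ (i.1 + 1)) (a i) = 0 := c.skew_ext e (fun k l => by
        have hs : ∀ i : Fin m, _ := fun i => c.skewMap_isSkew (σ ^ (i.1 + 1)) (a i) k l
        simp only [LinearMap.sum_apply, Finset.sum_mul, Finset.mul_sum, map_sum, ← Finset.sum_add_distrib]
        exact Finset.sum_eq_zero fun i _ => hs i) fun i j hij => by
      have := congrFun ha ⟨(i, j), hij⟩
      simpa [Φ, LinearMap.sum_apply, Finset.mul_sum] using this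
    let f : Fin m ⊕ Fin m → (K →ₐ[F] K) :=
      Sum.elim (fun i => (σ ^ (i.1 + 1)).toAlgHom) fun i => (σ ^ (i.1 + 1)).symm.toAlgHom
    have hpow : ∀ i j : ℕ, (σ ^ i).toAlgHom = (σ ^ j).toAlgHom → i % c.r = j % c.r := fun i j h => by
      rw [← hord]
      exact pow_eq_pow_iff_modEq.1 (AlgEquiv.ext fun x => AlgHom.congr_fun h x)
    have hsymm : ∀ i ≤ c.r, (σ ^ i).symm = σ ^ (c.r - i) := fun i hi => by
      refine eq_inv_of_mul_eq_one_left (a := σ ^ (c.r - i)) ?_ |>.symm
      rw [← pow_add, Nat.sub_add_cancel hi, ← hord, pow_orderOf_eq_one]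
    have hf : Function.Injective f := by
      rintro (i | i) (j | j) hij <;>
        simp only [f, Sum.elim_inl, Sum.elim_inr,
          hsymm _ (show i.1 + 1 ≤ c.r by omega), hsymm _ (show j.1 + 1 ≤ c.r by omega)] at hij <;>
        (have h' := hpow _ _ hij
         rw [Nat.mod_eq_of_lt (by omega), Nat.mod_eq_of_lt (by omega)] at h'
         first
          | (congr 1; apply Fin.ext; omega)
          | (exfalso; omega))
    have hli : LinearIndependent K fun i => (f i).toLinearMap := (linearIndependent_toLinearMap F K K).comp f hf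
    have h1 := Fintype.linearIndependent_iff.1 hli
      (Sum.elim a fun i => -(σ ^ (i.1 + 1)).symm (a i)) (by
        rw [Fintype.sum_sum_type, ← h0, ← Finset.sum_add_distrib]
        refine Finset.sum_congr rfl fun i _ => LinearMap.ext fun x => ?_
        simp [f, skewMap_apply, map_mul, sub_eq_add_neg])
    exact funext fun i => h1 (Sum.inl i)
  have hdim : finrank F (Fin m → K) = finrank F (P → F) := by
    rw [Module.finrank_pi_fintype, Module.finrank_pi, Finset.sum_const, Finset.card_univ, Fintype.card_fin,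
      smul_eq_mul, c.deg]
    have h4 : c.r * c.r = 2 * (m * c.r) + c.r := by
      conv_lhs => arg 1; rw [hm]
      ring
    omega
  obtain ⟨a, ha⟩ := (LinearMap.injective_iff_surjective_of_finrank_eq_finrank hdim).1 hinj
    fun p => Algebra.trace F K (e p.1.1 * T (e p.1.2))
  have hTa : T - ∑ i : Fin m, skewMap (σ ^ (i.1 + 1)) (a i) = 0 := c.skew_ext e (fun k l => by
      have hs : ∀ i : Fin m, _ := fun i => c.skewMap_isSkew (σ ^ (i.1 + 1)) (a i) k l
      simp only [LinearMap.sub_apply, LinearMap.sum_apply, sub_mul, mul_sub, Finset.sum_mul, Finset.mul_sum,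
        map_sub, map_sum]
      rw [sub_add_sub_comm, hT k l, ← Finset.sum_add_distrib, Finset.sum_eq_zero fun i _ => hs i, sub_zero])
    fun i j hij => by
      have := congrFun ha ⟨(i, j), hij⟩
      simp only [LinearMap.sub_apply, LinearMap.sum_apply, mul_sub, Finset.mul_sum, map_sub, map_sum]
      simp only [Φ, LinearMap.coe_mk, AddHom.coe_mk] at this
      rw [this, sub_self]
  rw [sub_eq_zero.1 hTa]
  exact S.sum_mem fun i _ => hS _ _

theorem acts_unique {u : ι → F} {T : K → K} {r r' : Isom Q} (h : c.Acts u T r) (h' : c.Acts u T r') : r = r' :=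
  isom_ext fun x => by rw [h, h']

variable {M : Subgroup (Isom Q)}

/-- With all root elements of all singular lines the vectors of pairs are full. -/
theorem full_of_all (hM : Below K M) (hall : ∀ {y : ι → F}, c.h y y = 0 → y ≠ 0 → ∀ {r : Isom Q}, c.InZ y r → r ∈ M)
    {u v : ι → F} (hp : c.Pair u v) : Full M u := by
  have hQu : Q u = 0 := c.quad_zero hp.1
  have hline : ∀ a : K, RootMem M u (a • u) := fun a g hg => hall hp.1 hp.left_ne fun x hx => by
    rw [hg, eich_mulVec, c.tr, c.tr, LinearMap.map_smul₂, hx,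
      c.quad_zero (x := a • u) (by simp [hp.1])]
    simp
  have horth : ∀ y, c.h u y = 0 → QuadraticMap.polar (⇑Q) u y = 0 := fun y hy => by
    rw [c.tr, hy, map_zero]
  -- trace-zero multiples of the partner
  have hpart : ∀ b : K, Algebra.trace F K b = 0 → RootMem M u (b • v) := by
    intro b hb
    have := c.fdF
    obtain ⟨b₁, hb₁, hind⟩ : ∃ b₁ : K, Algebra.trace F K b₁ = 0 ∧ b₁ ∉ Submodule.span F {b} := by
      by_contra! hsub
      have h1 := Submodule.finrank_mono (show LinearMap.ker (Algebra.trace F K) ≤ Submodule.span F {b} from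
        fun x hx => hsub x hx)
      have h2 := LinearMap.finrank_range_add_finrank_ker (Algebra.trace F K)
      rw [LinearMap.range_eq_top.2 (Algebra.trace_surjective F K), finrank_top, Module.finrank_self,
        c.deg] at h2
      have h3 : finrank F (Submodule.span F ({b} : Set K)) ≤ 1 := by
        refine (finrank_span_le_card _).trans ?_
        simp
      have := c.three_le_r
      omega
    obtain ⟨l, hlb, hlb₁⟩ : ∃ l : K, Algebra.trace F K (l * b) = 0 ∧ Algebra.trace F K (l * b₁) = 1 := by
      let Φ : K →ₗ[F] F := (Algebra.trace F K).comp (LinearMap.mulRight F b)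
      let Ψ : K →ₗ[F] F := (Algebra.trace F K).comp (LinearMap.mulRight F b₁)
      suffices ∃ l, Φ l = 0 ∧ Ψ l ≠ 0 by
        obtain ⟨l, h1, h2⟩ := this
        refine ⟨(Ψ l)⁻¹ • l, ?_, ?_⟩
        · rw [smul_mul_assoc, map_smul, show Algebra.trace F K (l * b) = Φ l from rfl, h1, smul_zero]
        · rw [smul_mul_assoc, map_smul, show Algebra.trace F K (l * b₁) = Ψ l from rfl, smul_eq_mul,
            inv_mul_cancel₀ h2]
      by_contra! hker
      refine hind (Submodule.mem_span_singleton.2 ?_)
      rcases eq_or_ne b 0 with rfl | hb0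
      · refine ⟨0, ?_⟩
        rw [zero_smul]
        exact (c.h_eq_of_trace fun l => by
          rw [mul_zero, map_zero]; exact (hker l (by simp [Φ])).symm)
      · obtain ⟨s, hs⟩ : ∃ s, Φ s ≠ 0 := by
          by_contra! h0
          exact hb0 (c.h_eq_of_trace fun l => by rw [mul_zero, map_zero]; exact h0 l)
        refine ⟨Ψ s / Φ s, c.h_eq_of_trace fun l => ?_⟩
        have h4 := hker (l - (Φ l / Φ s) • s) (by simp [div_mul_cancel₀ _ hs])
        rw [map_sub, map_smul, sub_eq_zero, smul_eq_mul] at h4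
        rw [mul_smul_comm, map_smul, smul_eq_mul]
        show Ψ s / Φ s * Φ l = Ψ l
        rw [h4]; ring
    -- move `u + l u` by a root element at the partner
    have hb₁v : Q (b₁ • v) = 0 := c.quad_zero (by simp [hp.2.1])
    have hbb : QuadraticMap.polar (⇑Q) (b₁ • v) (b • v) = 0 := by
      rw [c.tr]; simp [hp.2.1]
    set g := eichIso Q (b₁ • v) (b • v) hb₁v hbb with hg
    have hgM : g ∈ M := hall hp.2.1 hp.symm.left_ne fun x hx => by
      rw [hg, mat_eichIso, eich_mulVec, c.tr, c.tr, LinearMap.map_smul₂, LinearMap.map_smul₂, hx,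
        c.quad_zero (x := b • v) (by simp [hp.2.1])]
      simp
    have hbv : QuadraticMap.polar (⇑Q) u (b • v) = 0 := by
      rw [c.tr, map_smul, hp.2.2, smul_eq_mul, mul_one, hb]
    have hlu : ∀ l : K, QuadraticMap.polar (⇑Q) u (l • u) = 0 := fun l => horth _ (by simp [hp.1])
    have h1 := (hline l).conj hgM
    rw [hg, mat_eichIso, eich_mulVec, eich_mulVec, c.tr, c.tr, c.tr, c.tr] at h1
    have hvl : ∀ b : K, c.h (b • v) (l • u) = l * b := fun b => by
      rw [LinearMap.map_smul₂, map_smul, hp.vu, smul_eq_mul, smul_eq_mul, mul_one, mul_comm]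
    have hvu : ∀ b : K, c.h (b • v) u = b := fun b => by
      rw [LinearMap.map_smul₂, hp.vu, smul_eq_mul, mul_one]
    rw [hvl, hvl, hvu, hvu, hb, hb₁, hlb, hlb₁, c.quad_zero (x := b • v) (by simp [hp.2.1])] at h1
    simp only [zero_smul, one_smul, zero_mul, sub_zero, add_zero] at h1
    have h2 := h1.add hQu (by rw [QuadraticMap.polar_add_right, hlu, hbv, add_zero])
      (by rw [QuadraticMap.polar_neg_right, hlu, neg_zero]) ((hline l).neg hQu (hlu l))
    rwa [add_neg_cancel_comm] at h2
  -- the rest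
  have hrest : ∀ w, c.Rest u v w → RootMem M u w := by
    intro w hw
    obtain ⟨b, hb0, hb⟩ : ∃ b : K, b ≠ 0 ∧ Algebra.trace F K b = 0 := by
      have := c.fdF
      have h2 := LinearMap.finrank_range_add_finrank_ker (Algebra.trace F K)
      rw [LinearMap.range_eq_top.2 (Algebra.trace_surjective F K), finrank_top, Module.finrank_self,
        c.deg] at h2
      obtain ⟨b, hb, hb0⟩ := Submodule.exists_mem_ne_zero_of_ne_bot
        (p := LinearMap.ker (Algebra.trace F K)) fun e => by rw [e, finrank_bot] at h2; have := c.three_le_r; omega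
      exact ⟨b, hb0, hb⟩
    set w' := b⁻¹ • w
    have hw' : c.Rest u v w' := ⟨by simp [w', hw.1], by simp [w', hw.2]⟩
    obtain ⟨g, hgM, -, -, hg⟩ := c.exists_eK hM hp.1 hw'.1
    have h1 := (hpart b hb).conj hgM
    rw [hg, hg, c.eK_self hp.1 hw'.1, c.eK_partner hp hw', show b • w' = w from smul_inv_smul₀ hb0 w] at h1
    set a := c.q w' * b
    have p1 : QuadraticMap.polar (⇑Q) u (b • v) = 0 := by rw [c.tr, map_smul, hp.2.2, smul_eq_mul, mul_one, hb]
    have p2 : QuadraticMap.polar (⇑Q) u (a • u) = 0 := horth _ (by simp [hp.1])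
    have p3 : QuadraticMap.polar (⇑Q) u w = 0 := horth _ hw.1
    have h2 := (h1.add hQu (by
        simp only [QuadraticMap.polar_sub_right, QuadraticMap.polar_add_right, p1, p2, p3]; simp)
      p2 (hline a)).add hQu (by
        simp only [QuadraticMap.polar_sub_right, QuadraticMap.polar_add_right, p1, p2, p3]; simp)
      (by rw [QuadraticMap.polar_neg_right, p1, neg_zero]) ((hpart b hb).neg hQu p1)
    rwa [sub_add_cancel, add_neg_cancel_comm] at h2
  intro y hy
  have htr : Algebra.trace F K (c.h u y) = 0 := by rw [← c.tr, hy]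
  have p1 : ∀ a : K, QuadraticMap.polar (⇑Q) u (a • u) = 0 := fun a => horth _ (by simp [hp.1])
  have p2 : QuadraticMap.polar (⇑Q) u (c.h u y • v) = 0 := by
    rw [c.tr, map_smul, hp.2.2, smul_eq_mul, mul_one, htr]
  have hR := hp.rest_spec y
  rw [c.decomp u v y]
  exact ((hline _).add hQu (p1 _) p2 (hpart _ htr)).add hQu
    (by rw [QuadraticMap.polar_add_right, p1, p2, add_zero]) (horth _ hR.1) (hrest _ hR)

/-- The maps of the powers of one automorphism on a singular line put `Ω` inside. -/
theorem omega_le_of_skews (hM : Below K M) {u : ι → F} (hu : c.h u u = 0) (hu0 : u ≠ 0) {σ : K ≃ₐ[F] K} (hσ : σ ≠ 1)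
    (h : ∀ (i : ℕ) (e : K) (r : Isom Q), c.Acts u (skewMap (σ ^ i) e) r → r ∈ M) : Cfsg.Omega F ⇑Q ≤ M := by
  have := c.finite
  obtain ⟨v₀, hp₀⟩ := c.exists_pair_of_singular hu hu0
  let S : AddSubgroup (K →ₗ[F] K) :=
    { carrier := {T | IsSkew T ∧ ∀ r, c.Acts u T r → r ∈ M}
      zero_mem' := ⟨fun k l => by simp, fun r hr => by
        have : r = 1 := isom_ext fun x => by rw [hr, mat_one, one_mulVec]; simp
        rw [this]; exact M.one_mem⟩
      add_mem' := fun {T T'} hT hT' => ⟨fun k l => by
        simp only [LinearMap.add_apply, add_mul, mul_add, map_add]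
        linear_combination hT.1 k l + hT'.1 k l, fun r hr => by
        obtain ⟨s, hs⟩ := c.exists_acts hu hT.1
        obtain ⟨s', hs'⟩ := c.exists_acts hu hT'.1
        have : r = s * s' := isom_ext fun x => by
          rw [mat_mul, ← mulVec_mulVec, hs, hs', hr]
          simp only [LinearMap.add_apply, map_add, map_smul, smul_eq_mul, hu, mul_zero, add_zero, map_zero, add_smul]
          abel
        rw [this]; exact M.mul_mem (hT.2 s hs) (hT'.2 s' hs')⟩
      neg_mem' := fun {T} hT => ⟨fun k l => by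
        simp only [LinearMap.neg_apply, neg_mul, mul_neg, map_neg]
        linear_combination -hT.1 k l, fun r hr => by
        obtain ⟨s, hs⟩ := c.exists_acts hu hT.1
        have : r = s⁻¹ := isom_ext fun x => (mulVec_eq_iff s).1 (by
          rw [mulVec_inv_cancel, hs, hr]
          simp only [LinearMap.neg_apply, map_add, map_smul, smul_eq_mul, hu, mul_zero, add_zero, neg_smul, map_neg, map_zero, neg_zero]
          abel)
        rw [this]; exact M.inv_mem (hT.2 s hs)⟩ }
  have hall₀ : ∀ {r : Isom Q}, c.InZ u r → r ∈ M := fun {r} hr => by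
    obtain ⟨T, hT, hact⟩ := c.exists_skew hp₀ hr
    exact (c.span_skewMap hσ S (fun i e => ⟨c.skewMap_isSkew _ _, h i e⟩) hT).2 r hact
  have hall : ∀ {y : ι → F}, c.h y y = 0 → y ≠ 0 → ∀ {r : Isom Q}, c.InZ y r → r ∈ M := by
    intro y hy hy0 r hr
    obtain ⟨g, hgM, hgl, -, a, ha, hga⟩ := c.exists_map_line hM hu hu0 hy hy0
    have : g⁻¹ * r * g ∈ M := hall₀ fun x hx => by
      have h1 : c.h y (mat Q g *ᵥ x) = 0 := by
        have e := c.h_map hgl u x
        rw [hga, hx, LinearMap.map_smul₂, smul_eq_mul] at e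
        exact (mul_eq_zero.1 e).resolve_left ha
      rw [mat_mul, mat_mul, ← mulVec_mulVec, ← mulVec_mulVec, hr _ h1, inv_mulVec_cancel]
    have h2 := M.mul_mem (M.mul_mem hgM this) (M.inv_mem hgM)
    rwa [mul_assoc g⁻¹ r g, mul_inv_cancel_left, mul_inv_cancel_right] at h2
  have hcard : 5 ≤ Fintype.card ι := by
    have := Module.finrank_mul_finrank F K (ι → F)
    rw [c.deg, Module.finrank_pi] at this
    have h1 := c.dim
    have h2 := c.three_le_r
    nlinarith
  obtain ⟨k, hk⟩ : ∃ k : K, Algebra.trace F K k ≠ 0 := by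
    have := c.fdF
    obtain ⟨k, hk⟩ := Algebra.trace_surjective F K 1
    exact ⟨k, by rw [hk]; exact one_ne_zero⟩
  have hp' : c.Pair (k⁻¹ • u) (k • v₀) := by
    have hk0 : k ≠ 0 := fun e => hk (by rw [e, map_zero])
    exact ⟨by simp [hp₀.1], by simp [hp₀.2.1], by simp [hp₀.2.2, hk0]⟩
  refine omega_le_of_full_pair c.nondeg hcard (v := k • v₀) (c.quad_zero hp₀.1) (c.quad_zero hp'.2.1) ?_
    (c.full_of_all hM hall hp₀) (c.full_of_all hM hall hp'.symm)
  rw [c.tr, map_smul, hp₀.2.2, smul_eq_mul, mul_one]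
  exact hk

/-- A member of `Ω` outside the normaliser. -/
theorem exists_omega_not_norm : ∃ g ∈ Cfsg.Omega F ⇑Q, ¬ Norm K g := by
  have := c.finite
  have := c.fdF
  obtain ⟨u, v, hp⟩ := c.exists_pair
  obtain ⟨σ, hσ⟩ := c.exists_aut
  obtain ⟨r, hr⟩ := c.exists_acts hp.1 (c.skewMap_isSkew σ (2 : K)⁻¹)
  refine ⟨r * r, mul_self_mem_omega c.two c.nondeg r, fun hn => hσ (AlgEquiv.ext fun k => ?_)⟩
  have h2 := c.two'
  have hrr : c.Acts u (skewMap σ 1) (r * r) := fun x => by
    rw [mat_mul, ← mulVec_mulVec, hr, hr]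
    simp only [map_add, map_smul, smul_eq_mul, hp.1, mul_zero, add_zero, skewMap_apply]
    rw [add_assoc, ← add_smul]
    congr 2
    have hhalf : (2 : K)⁻¹ = algebraMap F K (2 : F)⁻¹ := by rw [map_inv₀, map_ofNat]
    rw [hhalf, one_mul, one_mul, ← Algebra.smul_def, ← Algebra.smul_def, map_smul, ← smul_sub, ← add_smul,
      show (2 : F)⁻¹ + 2⁻¹ = 1 by have := c.two; field_simp; norm_num, one_smul]
  obtain ⟨w, hw, hw0⟩ := hp.exists_rest
  have hl : Lin K (r * r) := by
    intro k x
    obtain ⟨k', hk'⟩ := hn k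
    have h1 := hk' w
    have hkw : c.h u (k • w) = 0 := by rw [map_smul, hw.1, smul_zero]
    rw [hrr, hrr, hkw, hw.1, map_zero, zero_smul, add_zero, add_zero] at h1
    rw [hk', ← smul_left_injective K hw0 h1]
  have hT : ∀ k, skewMap σ 1 k = k * skewMap σ 1 1 := by
    intro k
    refine smul_left_injective K hp.left_ne ?_
    have := hl k v
    rw [hrr, hrr, map_smul, hp.2.2, smul_eq_mul, mul_one, smul_add, add_right_inj, ← mul_smul] at this
    exact this
  have := hT k
  simp only [skewMap_apply, map_one, one_mul, sub_self, mul_zero, sub_eq_zero] at this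
  exact c.fixed_of_sq σ (by rw [this, AlgEquiv.apply_symm_apply])

end Ext

end CfsgLib.OrthExtGen
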