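import Cfsg.Agent.OrthExtGen.Line

/-!
# Rules forcing a member to normalise the field

A member carrying a totally singular `K`-subspace onto one, or conjugating members commuting with the field
which are unipotent or have an eigenvalue other than `±1`, normalises the field.
-/

set_option autoImplicit false
set_option linter.unusedSectionVars false
set_option maxHeartbeats 1000000

namespace CfsgLib.OrthExtGen

open Matrix Module Polynomial CfsgLib.Spinor CfsgLib.OrthMax

variable {F : Type*} [Field F] [Fintype F] {ι : Type} [Fintype ι] [DecidableEq ι]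
  {Q : QuadraticForm F (ι → F)}
variable {K : Type*} [Field K] [Algebra F K] [Module K (ι → F)] [IsScalarTower F K (ι → F)]

/-- A member commuting with the field, over `K`. -/
noncomputable def Lin.endo {g : Isom Q} (hg : Lin K g) : (ι → F) →ₗ[K] (ι → F) where
  toFun x := mat Q g *ᵥ x
  map_add' x y := mulVec_add _ x y
  map_smul' k x := hg k x

theorem Lin.endo_apply {g : Isom Q} (hg : Lin K g) (x : ι → F) : hg.endo x = mat Q g *ᵥ x := rfl

/-- Fixed and moved into. -/
def InRad (g : Isom Q) (a : ι → F) : Prop := mat Q g *ᵥ a = a ∧ ∃ z, a = mat Q g *ᵥ z - z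

namespace Ext

variable (c : Ext Q K)
include c

/-- A linear map with an annihilating polynomial split in `K` has an eigenvector. -/
theorem exists_eigen {W : Submodule K (ι → F)} (hW : W ≠ ⊥) (A : W →ₗ[K] W) {θ : K}
    (hA : aeval A ((minpoly F θ).map (algebraMap F K)) = 0) :
    ∃ μ : K, ∃ w : W, w ≠ 0 ∧ A w = μ • w := by
  have := c.finite
  have := c.fdF
  have := c.fdK
  have : Nontrivial W := Submodule.nontrivial_iff_ne_bot.2 hW
  have hint : IsIntegral F θ := IsIntegral.of_finite F θ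
  have hdvd := minpoly.dvd K A hA
  have hsp : (minpoly K A).Splits := (Normal.splits (inferInstanceAs (Normal F K)) θ).of_dvd
    ((Polynomial.monic_map_iff.2 (minpoly.monic hint)).ne_zero) hdvd
  obtain ⟨μ, hμ⟩ := hsp.exists_eval_eq_zero (minpoly.degree_pos (Algebra.IsIntegral.isIntegral A)).ne'
  obtain ⟨w, hw⟩ := (Module.End.hasEigenvalue_of_isRoot hμ).exists_hasEigenvector
  exact ⟨μ, w, hw.2, hw.apply_eq_smul⟩

theorem exists_primitive : ∃ θ : K, ∀ t : F, algebraMap F K t ≠ θ := by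
  by_contra! h
  have := (Algebra.linearMap F K).finrank_range_le
  rw [LinearMap.range_eq_top.2 (fun x => (by obtain ⟨y, hy⟩ := h x; exact ⟨y, hy⟩)), finrank_top, c.deg,
    Module.finrank_self] at this
  have := c.three_le_r
  omega

variable {M : Subgroup (Isom Q)}

/-- Images of totally singular sets, stable under the field, are totally singular. -/
theorem h_image_eq_zero {S : Set (ι → F)} (hS : ∀ x ∈ S, ∀ y ∈ S, c.h x y = 0) {g : Isom Q}
    (hgS : ∀ (k : K), ∀ x ∈ S, ∃ y ∈ S, k • (mat Q g *ᵥ x) = mat Q g *ᵥ y) {x y : ι → F} (hx : x ∈ S) (hy : y ∈ S) :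
    c.h (mat Q g *ᵥ x) (mat Q g *ᵥ y) = 0 :=
  c.h_eq_zero_of_polar fun k => by
    obtain ⟨z, hz, e⟩ := hgS k x hx
    rw [e, polar_mulVec, c.tr, hS z hz y hy, map_zero]

/-- **A member carrying a totally singular subspace onto one normalises the field.** -/
theorem norm_of_ts (hM : Below K M) (hMΩ : M ≤ Cfsg.Omega F ⇑Q) (hle : ¬ Cfsg.Omega F ⇑Q ≤ M) {g : Isom Q}
    (hg : g ∈ M) (S : Submodule K (ι → F)) (hS0 : S ≠ ⊥) (hS : ∀ x ∈ S, ∀ y ∈ S, c.h x y = 0)
    (hgS : ∀ (k : K), ∀ x ∈ S, ∃ y ∈ S, k • (mat Q g *ᵥ x) = mat Q g *ᵥ y) : Norm K g := by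
  classical
  have := c.finite
  have := c.fdF
  obtain ⟨a, haS, ha0⟩ := Submodule.exists_mem_ne_zero_of_ne_bot hS0
  have hts : ∀ {x y}, x ∈ S → y ∈ S → c.h (mat Q g *ᵥ x) (mat Q g *ᵥ y) = 0 :=
    fun hx hy => c.h_image_eq_zero (S := (S : Set (ι → F))) hS hgS hx hy
  by_cases hone : ∀ x ∈ S, ∃ l : K, x = l • a
  · have hk : ∀ k : K, ∃ l : K, k • (mat Q g *ᵥ a) = mat Q g *ᵥ (l • a) := fun k => by
      obtain ⟨y, hy, e⟩ := hgS k a haS
      obtain ⟨l, rfl⟩ := hone y hy
      exact ⟨l, e⟩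
    choose φ hφ using hk
    have hφi : Function.Injective φ := fun k k' e => by
      have := (hφ k).trans (e ▸ (hφ k').symm)
      exact smul_left_injective K (mulVec_ne_zero g ha0) this
    refine c.norm_of_line hM hMΩ hle hg (hS a haS a haS) ha0 (hts haS haS) fun l => ?_
    obtain ⟨k, rfl⟩ := Finite.injective_iff_surjective.1 hφi l
    exact ⟨k, (hφ k).symm⟩
  push Not at hone
  obtain ⟨b, hbS, hb⟩ := hone
  obtain ⟨x₂, hx₂a, hx₂b⟩ := c.exists_dual_perp (a := b) (b := a) hb
  obtain ⟨x₁, hx₁b, hx₁a⟩ := c.exists_dual_perp (a := a) (b := b) fun k hk => by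
    have hk0 : k ≠ 0 := fun e => ha0 (by rw [hk, e, zero_smul])
    exact hb k⁻¹ (by rw [hk, inv_smul_smul₀ hk0])
  obtain ⟨T, hT⟩ : ∃ T : (ι → F) → (ι → F), ∀ x, T x = c.h a x • b - c.h b x • a := ⟨_, fun x => rfl⟩
  have hhu : c.h a a = 0 := hS a haS a haS
  choose E hEM _ _ hE using fun e : K => c.exists_eK hM hhu
    (w := e • b) (by rw [map_smul, hS a haS b hbS, smul_zero])
  have hET : ∀ e x, mat Q (E e) *ᵥ x = x + e • T x := fun e x => by
    rw [hE, eK_apply, show c.q (e • b) = 0 by simp [q, hS b hbS b hbS], LinearMap.map_smul₂, zero_mul, zero_smul,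
      sub_zero, hT, smul_sub, smul_smul, smul_smul, smul_smul, smul_eq_mul]
    module
  have hyl : ∀ e, Lin K (g * E e * g⁻¹) := fun e => by
    refine c.lin_of_fix_line hM hMΩ hle (M.mul_mem (M.mul_mem hg (hEM e)) (M.inv_mem hg)) (hts haS haS)
      (mulVec_ne_zero g ha0) fun k => ?_
    obtain ⟨y, hy, e'⟩ := hgS k a haS
    rw [e', mat_mul, mat_mul, ← mulVec_mulVec, ← mulVec_mulVec, inv_mulVec_cancel, hET, hT, hS a haS y hy,
      hS b hbS y hy]
    simp
  have hN : ∀ (e l : K) z, mat Q g *ᵥ (e • T (mat Q g⁻¹ *ᵥ (l • z))) = l • (mat Q g *ᵥ (e • T (mat Q g⁻¹ *ᵥ z))) := by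
    intro e l z
    have h : ∀ z, mat Q (g * E e * g⁻¹) *ᵥ z = z + mat Q g *ᵥ (e • T (mat Q g⁻¹ *ᵥ z)) := fun z => by
      rw [mat_mul, mat_mul, ← mulVec_mulVec, ← mulVec_mulVec, hET, mulVec_add, mulVec_inv_cancel]
    have := hyl e l z
    rw [h, h, smul_add, add_right_inj] at this
    exact this
  have hTP : ∀ s t : K, T (t • x₁ - s • x₂) = s • a + t • b := fun s t => by
    rw [hT]; simp [hx₁a, hx₁b, hx₂a, hx₂b]; abel
  have hTS : ∀ x, T x ∈ S := fun x => by rw [hT]; exact S.sub_mem (S.smul_mem _ hbS) (S.smul_mem _ haS)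
  have key : ∀ (l : K) (p : ι → F), p ∈ kplane K a b → ∃ p' ∈ kplane K a b, ∀ e : K,
      mat Q g *ᵥ (e • p') = l • (mat Q g *ᵥ (e • p)) := by
    intro l p hp
    obtain ⟨s, t, rfl⟩ := mem_kplane.1 hp
    set x := t • x₁ - s • x₂ with hx
    refine ⟨T (mat Q g⁻¹ *ᵥ (l • (mat Q g *ᵥ x))), ?_, fun e => ?_⟩
    · rw [hT]
      exact mem_kplane.2 ⟨-c.h b (mat Q g⁻¹ *ᵥ (l • (mat Q g *ᵥ x))), c.h a (mat Q g⁻¹ *ᵥ (l • (mat Q g *ᵥ x))),
        by rw [neg_smul]; abel⟩
    · rw [hN, inv_mulVec_cancel, hx, hTP]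
  let W : Submodule K (ι → F) :=
    { ((kplane K a b).map (Matrix.toLin' (mat Q g))).toAddSubmonoid with
      smul_mem' := fun l w hw => by
        obtain ⟨p, hp, rfl⟩ := hw
        obtain ⟨p', hp', e⟩ := key l p hp
        exact ⟨p', hp', by simpa using e 1⟩ }
  have hW : ∀ w, w ∈ W ↔ ∃ p ∈ kplane K a b, mat Q g *ᵥ p = w := fun w => by
    show w ∈ (kplane K a b).map (Matrix.toLin' (mat Q g)) ↔ _
    simp [Submodule.mem_map]
  obtain ⟨θ, hθ⟩ := c.exists_primitive
  let A : W →ₗ[K] W :=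
    { toFun := fun w => ⟨mat Q g *ᵥ (θ • (mat Q g⁻¹ *ᵥ w)), by
        obtain ⟨p, hp, e⟩ := (hW _).1 w.2
        exact (hW _).2 ⟨θ • p, (Submodule.span K ({a, b} : Set (ι → F))).smul_mem θ hp, by rw [← e, inv_mulVec_cancel]⟩⟩
      map_add' := fun w w' => Subtype.ext (by simp [mulVec_add, smul_add, -Matrix.mulVec_mulVec])
      map_smul' := fun l w => Subtype.ext (by
        obtain ⟨p, hp, e⟩ := (hW _).1 w.2
        obtain ⟨p', hp', e'⟩ := key l p hp
        show mat Q g *ᵥ (θ • (mat Q g⁻¹ *ᵥ ((l • w : W) : ι → F))) = l • (mat Q g *ᵥ (θ • (mat Q g⁻¹ *ᵥ (w : ι → F))))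
        rw [Submodule.coe_smul, ← e, inv_mulVec_cancel, ← e' θ]
        have e1 := e' 1
        rw [one_smul, one_smul] at e1
        rw [← e1, inv_mulVec_cancel]) }
  have hA : ∀ (f : F[X]) (w : W), ((aeval A (f.map (algebraMap F K)) w : W) : ι → F)
      = mat Q g *ᵥ (aeval θ f • (mat Q g⁻¹ *ᵥ (w : ι → F))) := by
    intro f
    induction f using Polynomial.induction_on' with
    | add f f' h h' =>
      intro w
      rw [Polynomial.map_add, map_add, map_add, LinearMap.add_apply, Submodule.coe_add, h, h', add_smul, mulVec_add]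
    | monomial n t =>
      intro w
      rw [Polynomial.map_monomial, aeval_monomial, aeval_monomial, Module.End.mul_apply,
        Module.algebraMap_end_apply, Submodule.coe_smul, algebraMap_smul, ← Algebra.smul_def, smul_assoc,
        mulVec_smul]
      congr 1
      induction n generalizing w with
      | zero => simp [mulVec_inv_cancel, -Matrix.mulVec_mulVec]
      | succ n ih =>
        rw [pow_succ', pow_succ', Module.End.mul_apply]
        show mat Q g *ᵥ (θ • (mat Q g⁻¹ *ᵥ (((A ^ n) w : W) : ι → F))) = _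
        rw [ih, inv_mulVec_cancel, smul_smul]
  have hA0 : aeval A ((minpoly F θ).map (algebraMap F K)) = 0 := LinearMap.ext fun w => Subtype.ext (by
    rw [hA, minpoly.aeval, zero_smul, mulVec_zero]; rfl)
  have hW0 : W ≠ ⊥ := fun e => mulVec_ne_zero g ha0 (by
    have : mat Q g *ᵥ a ∈ W := (hW _).2 ⟨a, mem_kplane.2 ⟨1, 0, by simp⟩, rfl⟩
    rwa [e, Submodule.mem_bot] at this)
  obtain ⟨μ, w, hw0, hw⟩ := c.exists_eigen hW0 A hA0
  obtain ⟨p, hp, hpw⟩ := (hW _).1 w.2
  have hpS : p ∈ S := by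
    obtain ⟨s, t, rfl⟩ := mem_kplane.1 hp
    exact S.add_mem (S.smul_mem _ haS) (S.smul_mem _ hbS)
  have hpn : ∀ n : ℕ, (A ^ n) w = μ ^ n • w := fun n => by
    induction n with
    | zero => simp
    | succ n ih => rw [pow_succ', Module.End.mul_apply, ih, map_smul, hw, smul_smul, pow_succ]
  refine c.norm_of_line hM hMΩ hle hg (u₁ := p) (u₂ := mat Q g *ᵥ p) (hS p hpS p hpS)
    (fun e => hw0 (Subtype.ext (by rw [← hpw, e, mulVec_zero]; rfl))) (hts hpS hpS) fun l => ?_
  obtain ⟨f, hf⟩ := c.exists_aeval hθ l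
  refine ⟨aeval μ f, ?_⟩
  have h1 := hA f w
  rw [hf, ← hpw, inv_mulVec_cancel] at h1
  rw [← h1, hpw]
  have h2 : aeval A (f.map (algebraMap F K)) w = aeval μ f • w := by
    induction f using Polynomial.induction_on' generalizing l with
    | add f f' h h' =>
      rw [Polynomial.map_add, map_add, map_add, LinearMap.add_apply, add_smul,
        h (l := aeval θ f) rfl (by rw [hA, ← hpw, inv_mulVec_cancel]),
        h' (l := aeval θ f') rfl (by rw [hA, ← hpw, inv_mulVec_cancel])]
    | monomial n t =>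
      rw [Polynomial.map_monomial, aeval_monomial, aeval_monomial, Module.End.mul_apply,
        Module.algebraMap_end_apply, hpn, smul_smul]
  rw [h2, Submodule.coe_smul]

/-! ### Conjugate members commuting with the field -/

omit c in
theorem map_aeval {g x y : Isom Q} (hx : Lin K x) (hy : Lin K y) (e : g * y = x * g) (f : F[X]) (z : ι → F) :
    aeval hx.endo (f.map (algebraMap F K)) (mat Q g *ᵥ z)
      = mat Q g *ᵥ (aeval hy.endo (f.map (algebraMap F K)) z) := by
  induction f using Polynomial.induction_on' with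
  | add f f' h h' => rw [Polynomial.map_add, map_add, map_add, LinearMap.add_apply, LinearMap.add_apply, mulVec_add, h, h']
  | monomial n t =>
    rw [Polynomial.map_monomial, aeval_monomial, aeval_monomial, Module.End.mul_apply, Module.End.mul_apply,
      Module.algebraMap_end_apply, Module.algebraMap_end_apply, algebraMap_smul, algebraMap_smul, mulVec_smul]
    congr 1
    induction n generalizing z with
    | zero => simp
    | succ n ih =>
      rw [pow_succ, pow_succ, Module.End.mul_apply, Module.End.mul_apply, Lin.endo_apply, Lin.endo_apply,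
        mulVec_mulVec, ← mat_mul, ← e, mat_mul, ← mulVec_mulVec, ih]

/-- The kernel of an irreducible polynomial not self-reciprocal is totally singular. -/
theorem h_ker_eq_zero {y : Isom Q} (hy : Lin K y) {lam : K} (hlam : lam ≠ 0) (hlam2 : lam * lam ≠ 1) {a b : ι → F}
    (ha : aeval hy.endo ((minpoly F lam).map (algebraMap F K)) a = 0)
    (hb : aeval hy.endo ((minpoly F lam).map (algebraMap F K)) b = 0) : c.h a b = 0 := by
  have := c.finite
  have := c.fdF
  have hint : IsIntegral F lam := IsIntegral.of_finite F lam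
  set f := minpoly F lam with hf
  let R : F[X] := ∑ i ∈ Finset.range (f.natDegree + 1), Polynomial.C (f.coeff i) * X ^ (f.natDegree - i)
  have hR : aeval lam R = lam ^ f.natDegree * aeval lam⁻¹ f := by
    rw [aeval_eq_sum_range (p := f) lam⁻¹, Finset.mul_sum, map_sum]
    refine Finset.sum_congr rfl fun i hi => ?_
    rw [map_mul, aeval_C, map_pow, aeval_X, Algebra.smul_def, inv_pow,
      pow_sub₀ _ hlam (by rw [Finset.mem_range] at hi; omega)]
    ring
  have hcop : IsCoprime f R := by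
    refine (minpoly.irreducible hint).coprime_iff_not_dvd.2 fun hd => ?_
    have h0 : aeval lam R = 0 := aeval_eq_zero_of_dvd_aeval_eq_zero hd (minpoly.aeval F lam)
    rw [hR, mul_eq_zero, or_iff_right (pow_ne_zero _ hlam)] at h0
    obtain ⟨e, he⟩ := minpoly.exists_algEquiv_of_root' (K := F) (L := K) hint.isAlgebraic h0
    exact hlam2 (c.sq_eq_one_of_inv e hlam he)
  obtain ⟨s, t, hst⟩ := hcop
  have hb' : b = aeval hy.endo (R.map (algebraMap F K)) (aeval hy.endo (t.map (algebraMap F K)) b) := by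
    have h := congrArg (fun p => aeval hy.endo (p.map (algebraMap F K)) b) hst
    simp only [Polynomial.map_add, Polynomial.map_mul, Polynomial.map_one, map_add, map_one, LinearMap.add_apply,
      Module.End.one_apply] at h
    rw [map_mul (aeval hy.endo) (s.map _), Module.End.mul_apply, hb, map_zero, zero_add,
      mul_comm (t.map _), map_mul, Module.End.mul_apply] at h
    exact h.symm
  have hpow : ∀ (i : ℕ) (x z : ι → F), c.h ((hy.endo ^ i) x) ((hy.endo ^ i) z) = c.h x z := fun i => by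
    induction i with
    | zero => simp
    | succ i ih => intro x z; rw [pow_succ', Module.End.mul_apply, Module.End.mul_apply, Lin.endo_apply,
        Lin.endo_apply, c.h_map hy, ih]
  rw [hb']
  set z := aeval hy.endo (t.map (algebraMap F K)) b
  have h1 : c.h (aeval hy.endo (f.map (algebraMap F K)) a) ((hy.endo ^ f.natDegree) z) = 0 := by
    rw [ha, map_zero, LinearMap.zero_apply]
  have hmap : f.map (algebraMap F K)
      = ∑ i ∈ Finset.range (f.natDegree + 1), Polynomial.C (algebraMap F K (f.coeff i)) * X ^ i := by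
    conv_lhs => rw [f.as_sum_range_C_mul_X_pow]
    simp only [Polynomial.map_sum, Polynomial.map_mul, Polynomial.map_C, Polynomial.map_pow, Polynomial.map_X]
  rw [← h1, hmap]
  simp only [R, Polynomial.map_sum, Polynomial.map_mul, Polynomial.map_C, Polynomial.map_pow, Polynomial.map_X,
    map_sum, LinearMap.sum_apply, map_mul, aeval_C, map_pow, aeval_X, Module.End.mul_apply,
    Module.algebraMap_end_apply, map_smul, LinearMap.smul_apply]
  refine Finset.sum_congr rfl fun i hi => ?_
  congr 1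
  conv_lhs => rw [← hpow i a]
  rw [← Module.End.mul_apply, ← pow_add, Nat.add_sub_cancel' (by rw [Finset.mem_range] at hi; omega)]

/-- **An eigenvalue other than `±1` of a linear conjugate.** -/
theorem norm_of_eigen (hM : Below K M) (hMΩ : M ≤ Cfsg.Omega F ⇑Q) (hle : ¬ Cfsg.Omega F ⇑Q ≤ M) {g x y : Isom Q}
    (hg : g ∈ M) (e : g * y = x * g) (hx : Lin K x) (hy : Lin K y) {u : ι → F} (hu0 : u ≠ 0) {lam : K}
    (hlam2 : lam * lam ≠ 1) (hu : mat Q y *ᵥ u = lam • u) : Norm K g := by
  have := c.finite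
  have hlam : lam ≠ 0 := fun e0 => mulVec_ne_zero y hu0 (by rw [hu, e0, zero_smul])
  let S := LinearMap.ker (aeval hy.endo ((minpoly F lam).map (algebraMap F K)))
  refine c.norm_of_ts hM hMΩ hle hg S ?_ (fun a ha b hb => c.h_ker_eq_zero hy hlam hlam2 ha hb) fun k z hz => ?_
  · intro hS
    refine hu0 ((Submodule.mem_bot K).1 (hS ▸ (?_ : u ∈ S)))
    show aeval hy.endo ((minpoly F lam).map (algebraMap F K)) u = 0
    have hev : Module.End.HasEigenvector hy.endo lam u :=
      ⟨Module.End.mem_eigenspace_iff.2 (by rw [Lin.endo_apply, hu]), hu0⟩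
    rw [Module.End.aeval_apply_of_hasEigenvector hev, eval_map, ← aeval_def, minpoly.aeval, zero_smul]
  · refine ⟨mat Q g⁻¹ *ᵥ (k • (mat Q g *ᵥ z)), ?_, (mulVec_inv_cancel _ _).symm⟩
    show aeval hy.endo _ _ = 0
    refine (mulVec_eq_iff g).1 ?_
    rw [← map_aeval hx hy e, mulVec_inv_cancel, map_smul, map_aeval hx hy e, show aeval hy.endo _ z = 0 from hz]
    simp

/-- A member conjugating a torus element to a member commuting with the field normalises it. -/
theorem norm_of_torus (hM : Below K M) (hMΩ : M ≤ Cfsg.Omega F ⇑Q) (hle : ¬ Cfsg.Omega F ⇑Q ≤ M) {u v : ι → F}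
    (hp : c.Pair u v) {k : K} (hk2 : k * k ≠ 1) {τ g : Isom Q} (hτ : c.IsTor u v k τ) (hg : g ∈ M)
    (hy : Lin K (g * τ * g⁻¹)) : Norm K g :=
  c.norm_of_eigen hM hMΩ hle hg (show g * τ = g * τ * g⁻¹ * g by group) hy hτ.lin hp.left_ne hk2
    (by simpa using hτ.apply_left c hp 1)

/-! ### Unipotent conjugates -/

/-- Non-trivial unipotent members have a non-zero radical vector. -/
theorem exists_inRad {p : ℕ} [Fact p.Prime] [CharP F p] {g : Isom Q} (hg : g ^ p = 1) (hg1 : g ≠ 1) :
    ∃ a, a ≠ 0 ∧ InRad g a := by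
  classical
  set n : Module.End F (ι → F) := Matrix.toLinAlgEquiv' (mat Q g) - 1 with hn
  have hne : Nontrivial (ι → F) := c.nontrivial'
  have : CharP (Module.End F (ι → F)) p := charP_of_injective_algebraMap' F p
  have hpow : ∀ i : ℕ, mat Q (g ^ i) = mat Q g ^ i := fun i => by
    induction i with
    | zero => rw [pow_zero, pow_zero, mat_one]
    | succ i ih => rw [pow_succ, pow_succ, mat_mul, ih]
  have hnp : n ^ p = 0 := by
    rw [hn, sub_pow_char_of_commute _ (Commute.one_right _), one_pow, ← map_pow, ← hpow, hg, mat_one, map_one,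
      sub_self]
  have hn1 : n ≠ 0 := fun e => hg1 (mat_ext Q (by
    rw [mat_one]; exact Matrix.toLinAlgEquiv'.injective (by rw [map_one]; exact sub_eq_zero.1 e)))
  have hex : ∃ i, n ^ i = 0 := ⟨p, hnp⟩
  set i := Nat.find hex
  have hi : n ^ i = 0 := Nat.find_spec hex
  have hi2 : 2 ≤ i := by
    by_contra hlt
    rcases (show i = 0 ∨ i = 1 by omega) with h | h <;> rw [h] at hi
    · rw [pow_zero] at hi
      exact one_ne_zero hi
    · rw [pow_one] at hi
      exact hn1 hi
  obtain ⟨z, hz⟩ : ∃ z, (n ^ (i - 1)) z ≠ 0 := by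
    by_contra! h
    exact Nat.find_min hex (show i - 1 < i by omega) (LinearMap.ext h)
  have happ : ∀ w, n w = mat Q g *ᵥ w - w := fun w => by
    rw [hn, LinearMap.sub_apply, Matrix.toLinAlgEquiv'_apply, Module.End.one_apply]
  refine ⟨_, hz, sub_eq_zero.1 ?_, (n ^ (i - 2)) z, ?_⟩
  · rw [← happ, ← Module.End.mul_apply, ← pow_succ', show i - 1 + 1 = i by omega, hi, LinearMap.zero_apply]
  · rw [← happ, ← Module.End.mul_apply, ← pow_succ', show i - 2 + 1 = i - 1 by omega]

omit c in
theorem inRad_map {x y g : Isom Q} (e : g * y = x * g) {a : ι → F} (ha : InRad y a) :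
    InRad x (mat Q g *ᵥ a) := by
  obtain ⟨h1, z, hz⟩ := ha
  refine ⟨?_, mat Q g *ᵥ z, ?_⟩
  · rw [mulVec_mulVec, ← mat_mul, ← e, mat_mul, ← mulVec_mulVec, h1]
  · rw [hz, mulVec_sub, mulVec_mulVec _ (mat Q x), ← mat_mul, ← e, mat_mul, ← mulVec_mulVec]

/-- **A member conjugating one unipotent member commuting with the field to another.** -/
theorem norm_of_unipotent (hM : Below K M) (hMΩ : M ≤ Cfsg.Omega F ⇑Q) (hle : ¬ Cfsg.Omega F ⇑Q ≤ M) {p : ℕ}
    [Fact p.Prime] [CharP F p] {g x y : Isom Q} (hg : g ∈ M) (e : g * y = x * g) (hx : Lin K x) (hy : Lin K y)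
    (hyp : y ^ p = 1) (hy1 : y ≠ 1) : Norm K g := by
  let S : Submodule K (ι → F) :=
    { carrier := {a | InRad y a}
      zero_mem' := ⟨mulVec_zero _, 0, by simp⟩
      add_mem' := fun {a b} ha hb => by
        obtain ⟨h1, z, hz⟩ := ha
        obtain ⟨h2, w, hw⟩ := hb
        exact ⟨by rw [mulVec_add, h1, h2], z + w, by rw [mulVec_add, hz, hw, add_sub_add_comm]⟩
      smul_mem' := fun k a ha => by
        obtain ⟨h1, z, hz⟩ := ha
        exact ⟨by rw [hy, h1], k • z, by rw [hy, hz, smul_sub]⟩ }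
  obtain ⟨a, ha0, ha⟩ := c.exists_inRad hyp hy1
  refine c.norm_of_ts hM hMΩ hle hg S (fun h => ha0 ((Submodule.mem_bot K).1 (h ▸ (ha : a ∈ S)))) ?_ ?_
  · intro a ha b hb
    obtain ⟨-, z, hz⟩ := ha
    rw [hz, map_sub, LinearMap.sub_apply]
    conv_lhs => arg 1; arg 2; rw [← hb.1]
    rw [c.h_map hy, sub_self]
  · intro k z hz
    have e' : g⁻¹ * x = y * g⁻¹ := by
      rw [eq_mul_inv_iff_mul_eq, mul_assoc, ← e, inv_mul_cancel_left]
    obtain ⟨h1, w, hw⟩ := inRad_map e hz
    exact ⟨_, inRad_map e' ⟨by rw [hx, h1], k • w, by rw [hx, hw, smul_sub]⟩, (mulVec_inv_cancel _ _).symm⟩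

end Ext

end CfsgLib.OrthExtGen
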