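import Cfsg.Agent.OrthMax.Basic
import Cfsg.Agent.Forms.OrthIndex
import Cfsg.Agent.ExtField.Bridge

/-!
# Orthogonal spaces over an extension of odd prime degree, seen over the ground field

`Ext Q K`: a symmetric `K`-form `h` on `F^ι`, of dimension at least three, whose trace is the polar form of
`Q`; no restriction on the Witt index. `Below` says that a subgroup contains every member of `Ω` normalising `K`.
-/

set_option autoImplicit false
set_option linter.unusedSectionVars false

namespace CfsgLib.OrthExtGen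

open Matrix Module CfsgLib.Spinor CfsgLib.OrthMax

variable {F : Type*} [Field F] {ι : Type} [Fintype ι] [DecidableEq ι] {Q : QuadraticForm F (ι → F)}
variable {K : Type*} [Field K] [Algebra F K] [Module K (ι → F)]

/-- A symmetric form over `K` with trace the polar form of `Q`, in dimension at least three. -/
structure Ext (Q : QuadraticForm F (ι → F)) (K : Type*) [Field K] [Algebra F K]
    [Module K (ι → F)] where
  h : LinearMap.BilinForm K (ι → F)
  tr : ∀ x y, QuadraticMap.polar (⇑Q) x y = Algebra.trace F K (h x y)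
  symm : ∀ x y, h x y = h y x
  r : ℕ
  prime : r.Prime
  odd : r ≠ 2
  deg : finrank F K = r
  dim : 3 ≤ finrank K (ι → F)
  two : (2 : F) ≠ 0
  nondeg : (QuadraticMap.polarBilin Q).Nondegenerate

/-- Normalising the field. -/
def Norm (K : Type*) [Field K] [Module K (ι → F)] (g : Isom Q) : Prop :=
  ∀ k : K, ∃ k' : K, ∀ x, mat Q g *ᵥ (k • x) = k' • (mat Q g *ᵥ x)

/-- Commuting with the field. -/
def Lin (K : Type*) [Field K] [Module K (ι → F)] (g : Isom Q) : Prop :=
  ∀ (k : K) (x : ι → F), mat Q g *ᵥ (k • x) = k • (mat Q g *ᵥ x)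

/-- Containing every member of `Ω` which normalises the field. -/
def Below [Fintype F] (K : Type*) [Field K] [Module K (ι → F)] (M : Subgroup (Isom Q)) : Prop :=
  ∀ g : Isom Q, g ∈ Cfsg.Omega F ⇑Q → Norm K g → g ∈ M

theorem Lin.norm {g : Isom Q} (hg : Lin K g) : Norm K g := fun k => ⟨k, hg k⟩

theorem Lin.mul {g g' : Isom Q} (hg : Lin K g) (hg' : Lin K g') : Lin K (g * g') := fun k x => by
  rw [mat_mul, ← mulVec_mulVec, hg', hg, mulVec_mulVec]

theorem Norm.mul {g g' : Isom Q} (hg : Norm K g) (hg' : Norm K g') : Norm K (g * g') := fun k => by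
  obtain ⟨k', hk'⟩ := hg' k
  obtain ⟨k'', hk''⟩ := hg k'
  exact ⟨k'', fun x => by rw [mat_mul, ← mulVec_mulVec, hk', hk'', mulVec_mulVec]⟩

theorem mulVec_inv_cancel (g : Isom Q) (x : ι → F) : mat Q g *ᵥ (mat Q g⁻¹ *ᵥ x) = x := by
  rw [mulVec_mulVec, ← mat_mul, mul_inv_cancel, mat_one, one_mulVec]

theorem inv_mulVec_cancel (g : Isom Q) (x : ι → F) : mat Q g⁻¹ *ᵥ (mat Q g *ᵥ x) = x := by
  rw [mulVec_mulVec, ← mat_mul, inv_mul_cancel, mat_one, one_mulVec]

theorem mulVec_eq_iff (g : Isom Q) {x y : ι → F} : mat Q g *ᵥ x = mat Q g *ᵥ y ↔ x = y :=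
  ⟨fun h => by rw [← inv_mulVec_cancel g x, h, inv_mulVec_cancel], fun h => by rw [h]⟩

theorem mulVec_ne_zero (g : Isom Q) {x : ι → F} (hx : x ≠ 0) : mat Q g *ᵥ x ≠ 0 := fun h =>
  hx (by rw [← inv_mulVec_cancel g x, h, mulVec_zero])

theorem isom_ext {g g' : Isom Q} (h : ∀ x, mat Q g *ᵥ x = mat Q g' *ᵥ x) : g = g' :=
  mat_ext Q (Matrix.ext_iff_mulVec.2 h)

theorem Lin.inv {g : Isom Q} (hg : Lin K g) : Lin K g⁻¹ := fun k x => by
  refine (mulVec_eq_iff g).1 ?_
  rw [hg, mulVec_inv_cancel, mulVec_inv_cancel]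

theorem Norm.inv [Finite K] [Nontrivial (ι → F)] {g : Isom Q} (hg : Norm K g) : Norm K g⁻¹ := by
  choose σ hσ using hg
  obtain ⟨x₀, hx₀⟩ := exists_ne (0 : ι → F)
  have hinj : Function.Injective σ := fun a b e => by
    have := (hσ a x₀).trans (e ▸ (hσ b x₀).symm)
    exact smul_left_injective K hx₀ ((mulVec_eq_iff g).1 this)
  intro k
  obtain ⟨k', rfl⟩ := (Finite.injective_iff_surjective.1 hinj) k
  refine ⟨k', fun x => (mulVec_eq_iff g).1 ?_⟩
  rw [hσ, mulVec_inv_cancel, mulVec_inv_cancel]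

/-- A square of an isometry lies in `Ω`. -/
theorem mul_self_mem_omega [Fintype F] (h2 : (2 : F) ≠ 0)
    (hQ : (QuadraticMap.polarBilin Q).Nondegenerate) (g : Isom Q) : g * g ∈ Cfsg.Omega F ⇑Q := by
  classical
  rw [Forms.omega_eq_ker hQ (exists_isReflProd h2 hQ) h2, MonoidHom.mem_ker, map_mul, Prod.ext_iff]
  exact ⟨Int.units_mul_self _, Int.units_mul_self _⟩

namespace Ext

variable (c : Ext Q K)
include c

theorem two' : (2 : K) ≠ 0 := by
  rw [← map_ofNat (algebraMap F K) 2]
  exact (map_ne_zero _).2 c.two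

theorem finite [Fintype F] : Finite K := by
  have : FiniteDimensional F K := FiniteDimensional.of_finrank_pos (by rw [c.deg]; exact c.prime.pos)
  exact Module.finite_of_finite F

theorem fdK : FiniteDimensional K (ι → F) := FiniteDimensional.of_finrank_pos (by have := c.dim; omega)

theorem nontrivial' : Nontrivial (ι → F) :=
  Module.nontrivial_of_finrank_pos (R := K) (by have := c.dim; omega)

theorem quad_eq (x : ι → F) : 2 * Q x = Algebra.trace F K (c.h x x) := by
  rw [← c.tr, polar_self']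

theorem quad_zero {x : ι → F} (hx : c.h x x = 0) : Q x = 0 := by
  have h := c.quad_eq x
  rw [hx, map_zero] at h
  exact (mul_eq_zero.1 h).resolve_left c.two

theorem polar_smul_comm (k : K) (x y : ι → F) :
    QuadraticMap.polar (⇑Q) (k • x) y = QuadraticMap.polar (⇑Q) x (k • y) := by
  rw [c.tr, c.tr, LinearMap.map_smul₂, (c.h x).map_smul]

/-- The trace detects the value of the form. -/
theorem h_eq_of_trace [Fintype F] {a b : K} (e : ∀ l : K, Algebra.trace F K (l * a) = Algebra.trace F K (l * b)) :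
    a = b := by
  have := c.finite
  have : FiniteDimensional F K := FiniteDimensional.of_finrank_pos (by rw [c.deg]; exact c.prime.pos)
  by_contra hne
  obtain ⟨s, hs⟩ := Algebra.trace_surjective F K 1
  have := e (s / (a - b))
  rw [← sub_eq_zero, ← map_sub, ← mul_sub, div_mul_cancel₀ _ (sub_ne_zero.mpr hne), hs] at this
  exact one_ne_zero this

/-- `K`-linear maps preserving `Q` preserve `h`. -/
theorem h_map [Fintype F] {g : Isom Q} (hg : Lin K g) (x y : ι → F) :
    c.h (mat Q g *ᵥ x) (mat Q g *ᵥ y) = c.h x y := by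
  refine c.h_eq_of_trace fun l => ?_
  have := polar_mulVec Q g (l • x) y
  rw [hg, c.tr, c.tr, LinearMap.map_smul₂, LinearMap.map_smul₂] at this
  simpa using this

theorem h_sep {x : ι → F} (hx : ∀ y, c.h x y = 0) : x = 0 :=
  c.nondeg.1 x fun y => by rw [QuadraticMap.polarBilin_apply_apply, c.tr, hx, map_zero]

theorem exists_h_ne {x : ι → F} (hx : x ≠ 0) : ∃ y, c.h x y ≠ 0 := by
  by_contra! h
  exact hx (c.h_sep h)

/-! ### Isometries over `K` -/

/-- The isometry of a `K`-linear map preserving `h`. -/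
theorem exists_isom (f : (ι → F) →ₗ[K] (ι → F)) (hf : ∀ x y, c.h (f x) (f y) = c.h x y)
    [IsScalarTower F K (ι → F)] : ∃ g : Isom Q, ∀ x, mat Q g *ᵥ x = f x := by
  have hinj : Function.Injective (f.restrictScalars F) := by
    rw [← LinearMap.ker_eq_bot, Submodule.eq_bot_iff]
    intro x hx
    refine c.h_sep fun y => ?_
    rw [← hf, show f x = 0 from hx, map_zero, LinearMap.zero_apply]
  obtain ⟨g, hg⟩ := (ExtField.glAut : GL ι F ≃* _).surjective (LinearEquiv.ofInjectiveEndo _ hinj)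
  have hgv : ∀ x, (g : Matrix ι ι F) *ᵥ x = f x := fun x => by
    rw [← ExtField.glAut_apply, hg]; rfl
  refine ⟨⟨g, fun x _ => ?_⟩, hgv⟩
  show Q ((g : Matrix ι ι F) *ᵥ x) = Q x
  refine mul_left_cancel₀ c.two ?_
  rw [c.quad_eq, c.quad_eq, hgv, hf]

/-- Half the value. -/
def q (x : ι → F) : K := c.h x x / 2

theorem two_q (x : ι → F) : 2 * c.q x = c.h x x := mul_div_cancel₀ _ c.two'

/-- The Eichler map over `K`. -/
def eK (u w : ι → F) : (ι → F) →ₗ[K] (ι → F) :=
  LinearMap.id + ((c.h u).smulRight w - (c.h w).smulRight u - (c.q w • c.h u).smulRight u)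

theorem eK_apply (u w x : ι → F) :
    c.eK u w x = x + (c.h u x • w - c.h w x • u - (c.q w * c.h u x) • u) := rfl

theorem h_eK {u w : ι → F} (hu : c.h u u = 0) (huw : c.h u w = 0) (x y : ι → F) :
    c.h (c.eK u w x) (c.eK u w y) = c.h x y := by
  have hwu : c.h w u = 0 := by rw [c.symm, huw]
  simp only [eK_apply, map_add, map_sub, map_smul, LinearMap.add_apply, LinearMap.sub_apply,
    LinearMap.smul_apply, smul_eq_mul, hu, huw, hwu, c.symm x u, c.symm x w, c.symm y u, c.symm y w]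
  linear_combination (-(c.h u x * c.h u y)) * c.two_q w

theorem eK_mul {u w w' : ι → F} (hu : c.h u u = 0) (huw : c.h u w = 0) (huw' : c.h u w' = 0) (x : ι → F) :
    c.eK u w (c.eK u w' x) = c.eK u (w + w') x := by
  have hwu : c.h w u = 0 := by rw [c.symm, huw]
  have hq : c.q (w + w') = c.q w + c.q w' + c.h w w' := by
    have h2 := c.two'
    simp only [q, map_add, LinearMap.add_apply, c.symm w' w]
    field_simp
    ring
  simp only [eK_apply, map_add, map_sub, map_smul, LinearMap.add_apply, smul_eq_mul, hu, huw', hwu, hq]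
  module

theorem eK_self {u w : ι → F} (hu : c.h u u = 0) (huw : c.h u w = 0) : c.eK u w u = u := by
  rw [eK_apply, hu, show c.h w u = 0 by rw [c.symm, huw]]
  simp

variable [Fintype F] [IsScalarTower F K (ι → F)] {M : Subgroup (Isom Q)}

/-- Squares of isometries over `K` lie in the group. -/
theorem sq_mem (hM : Below K M) {g : Isom Q} (hg : Lin K g) : g * g ∈ M :=
  hM _ (mul_self_mem_omega c.two c.nondeg g) (hg.mul hg).norm

/-- The Eichler isometries over `K` lie in the group. -/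
theorem exists_eK (hM : Below K M) {u w : ι → F} (hu : c.h u u = 0) (huw : c.h u w = 0) :
    ∃ g ∈ M, Lin K g ∧ g ∈ Cfsg.Omega F ⇑Q ∧ ∀ x, mat Q g *ᵥ x = c.eK u w x := by
  have huw2 : c.h u ((2 : K)⁻¹ • w) = 0 := by rw [map_smul, huw, smul_zero]
  obtain ⟨g, hg⟩ := c.exists_isom (c.eK u ((2 : K)⁻¹ • w)) (c.h_eK hu huw2)
  have hlin : Lin K g := fun k x => by rw [hg, hg, map_smul]
  refine ⟨g * g, c.sq_mem hM hlin, hlin.mul hlin, mul_self_mem_omega c.two c.nondeg g, fun x => ?_⟩
  rw [mat_mul, ← mulVec_mulVec, hg, hg, c.eK_mul hu huw2 huw2, ← add_smul]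
  have h2 := c.two'
  rw [show (2 : K)⁻¹ + 2⁻¹ = 1 by field_simp; norm_num, one_smul]

/-! ### Hyperbolic frames -/

/-- A hyperbolic pair over `K`. -/
def Pair (u v : ι → F) : Prop := c.h u u = 0 ∧ c.h v v = 0 ∧ c.h u v = 1

/-- Orthogonal to a pair. -/
def Rest (u v w : ι → F) : Prop := c.h u w = 0 ∧ c.h v w = 0

/-- The component outside a pair. -/
def rest (u v x : ι → F) : ι → F := x - c.h v x • u - c.h u x • v

theorem decomp (u v x : ι → F) : x = c.h v x • u + c.h u x • v + c.rest u v x := by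
  rw [rest]; abel

variable {c}

theorem Pair.left_ne {u v : ι → F} (hp : c.Pair u v) : u ≠ 0 := fun e => one_ne_zero (α := K) (by
  rw [← hp.2.2, e, map_zero, LinearMap.zero_apply])

theorem Pair.symm {u v : ι → F} (hp : c.Pair u v) : c.Pair v u := ⟨hp.2.1, hp.1, by rw [c.symm, hp.2.2]⟩

theorem Pair.vu {u v : ι → F} (hp : c.Pair u v) : c.h v u = 1 := hp.symm.2.2

theorem Pair.rest_spec {u v : ι → F} (hp : c.Pair u v) (x : ι → F) : c.Rest u v (c.rest u v x) := by
  constructor <;> simp [rest, hp.1, hp.2.1, hp.2.2, hp.vu]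

/-- The rest is not zero. -/
theorem Pair.exists_rest {u v : ι → F} (hp : c.Pair u v) : ∃ w, c.Rest u v w ∧ w ≠ 0 := by
  have := c.fdK
  by_contra! hno
  have htop : Submodule.span K ({u, v} : Set (ι → F)) = ⊤ := by
    refine Submodule.eq_top_iff'.2 fun x => ?_
    rw [c.decomp u v x, hno _ (hp.rest_spec x), add_zero]
    exact Submodule.mem_span_pair.2 ⟨_, _, rfl⟩
  classical
  have h2 := finrank_span_finset_le_card ({u, v} : Finset (ι → F)) (R := K)
  rw [Finset.coe_insert, Finset.coe_singleton, Set.finrank, htop, finrank_top] at h2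
  have := c.dim
  have h3 : ({u, v} : Finset (ι → F)).card ≤ 2 := Finset.card_le_two
  omega

variable (c)

/-- Every non-zero singular vector lies in a pair. -/
theorem exists_pair_of_singular {u : ι → F} (hu : c.h u u = 0) (hu0 : u ≠ 0) : ∃ v, c.Pair u v := by
  obtain ⟨y, hy⟩ := c.exists_h_ne hu0
  set p := (c.h u y)⁻¹ • y with hpdef
  have hp : c.h u p = 1 := by rw [hpdef, map_smul, smul_eq_mul, inv_mul_cancel₀ hy]
  clear_value p
  refine ⟨p - c.q p • u, hu, ?_, by simp [hu, hp]⟩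
  simp only [map_sub, map_smul, LinearMap.sub_apply, LinearMap.smul_apply, smul_eq_mul, hu, hp, c.symm p u]
  linear_combination -c.two_q p

/-- Singular vectors exist. -/
theorem exists_singular : ∃ u, u ≠ 0 ∧ c.h u u = 0 := by
  have := c.fdK
  have := c.finite
  let q : QuadraticForm K (ι → F) := c.h.toQuadraticMap
  have hpolar : ∀ x y, QuadraticMap.polar (⇑q) x y = 2 * c.h x y := fun x y => by
    show QuadraticMap.polar (fun z => c.h z z) x y = _
    simp only [QuadraticMap.polar, map_add, LinearMap.add_apply, c.symm y x]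
    ring
  obtain ⟨z, hz0, hz⟩ := Forms.exists_quad_isotropic c.two' q
    (fun x hx => c.h_sep fun y => by
      have := hx y
      rw [hpolar] at this
      exact (mul_eq_zero.1 this).resolve_left c.two')
    (by have := c.dim; omega)
  exact ⟨z, hz0, hz⟩

theorem exists_pair : ∃ u v, c.Pair u v := by
  obtain ⟨u, hu0, hu⟩ := c.exists_singular
  obtain ⟨v, hv⟩ := c.exists_pair_of_singular hu hu0
  exact ⟨u, v, hv⟩

/-! ### Moving singular lines -/

/-- Eichler elements move the singular vectors with given value. -/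
theorem exists_move (hM : Below K M) {u v y : ι → F} (hu : c.h u u = 0) (hv : c.h v v = 0) (hy : c.h y y = 0)
    (huv : c.h u v ≠ 0) (huy : c.h u y = c.h u v) :
    ∃ g ∈ M, Lin K g ∧ g ∈ Cfsg.Omega F ⇑Q ∧ mat Q g *ᵥ u = u ∧ mat Q g *ᵥ v = y := by
  set w := (c.h u v)⁻¹ • (y - v) with hwdef
  have huw : c.h u w = 0 := by rw [hwdef, map_smul, map_sub, huy, sub_self, smul_zero]
  obtain ⟨g, hgM, hgl, hgΩ, hg⟩ := c.exists_eK hM hu huw
  refine ⟨g, hgM, hgl, hgΩ, by rw [hg, c.eK_self hu huw], ?_⟩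
  rw [hg]
  obtain ⟨a, ha⟩ : ∃ a : K, c.eK u w v = y + a • u :=
    ⟨-(c.h w v + c.q w * c.h u v), by
      rw [eK_apply, show c.h u v • w = y - v from smul_inv_smul₀ huv _]
      module⟩
  have ha0 : a = 0 := by
    have h := c.h_eK hu huw v v
    rw [ha, hv] at h
    simp only [map_add, map_smul, LinearMap.add_apply, LinearMap.smul_apply, smul_eq_mul, hy, hu,
      c.symm y u, huy] at h
    have h' : (2 : K) * (a * c.h u v) = 0 := by linear_combination h
    exact (mul_eq_zero.1 ((mul_eq_zero.1 h').resolve_left c.two')).resolve_right huv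
  rw [ha, ha0, zero_smul, add_zero]

/-- Values on a line. -/
theorem exists_dual_perp {a b : ι → F} (hab : ∀ k : K, a ≠ k • b) : ∃ x, c.h b x = 0 ∧ c.h a x = 1 := by
  obtain ⟨x, hx, hx0⟩ : ∃ x, c.h b x = 0 ∧ c.h a x ≠ 0 := by
    by_contra! hall
    by_cases hb : ∃ y, c.h b y ≠ 0
    · obtain ⟨y, hy⟩ := hb
      refine hab (c.h a y / c.h b y) (sub_eq_zero.1 (c.h_sep fun z => ?_))
      have h1 := hall (z - (c.h b z / c.h b y) • y) (by
        rw [map_sub, map_smul, smul_eq_mul, div_mul_cancel₀ _ hy, sub_self])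
      rw [map_sub, map_smul, smul_eq_mul, sub_eq_zero] at h1
      rw [map_sub, LinearMap.sub_apply, map_smul, LinearMap.smul_apply, smul_eq_mul, h1]
      ring
    · push Not at hb
      refine hab 0 ?_
      rw [zero_smul]
      exact c.h_sep fun z => hall z (hb z)
  exact ⟨(c.h a x)⁻¹ • x, by rw [map_smul, hx, smul_zero], by rw [map_smul, smul_eq_mul, inv_mul_cancel₀ hx0]⟩

/-- Two vectors have a common orthogonal anisotropic vector when the first pairs with the second. -/
theorem exists_aniso_perp {u y : ι → F} (hu : c.h u u = 0) (hy : c.h y y = 0) (huy : c.h u y ≠ 0) :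
    ∃ w, c.h u w = 0 ∧ c.h y w = 0 ∧ c.h w w ≠ 0 := by
  by_contra! hall
  set v := (c.h u y)⁻¹ • y with hv
  have hp : c.Pair u v := ⟨hu, by simp [hv, hy], by rw [hv, map_smul, smul_eq_mul, inv_mul_cancel₀ huy]⟩
  have hR : ∀ w, c.Rest u v w → c.h w w = 0 := fun w hw => hall w hw.1 (by
    have h2 := hw.2
    rw [hv, LinearMap.map_smul₂, smul_eq_mul] at h2
    exact (mul_eq_zero.1 h2).resolve_left (inv_ne_zero huy))
  obtain ⟨w, hw, hw0⟩ := hp.exists_rest
  refine hw0 (c.h_sep fun x => ?_)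
  have hx := hp.rest_spec x
  have h2 : c.h (w + c.rest u v x) (w + c.rest u v x) = 0 :=
    hR _ ⟨by rw [map_add, hw.1, hx.1, add_zero], by rw [map_add, hw.2, hx.2, add_zero]⟩
  simp only [map_add, LinearMap.add_apply, hR w hw, hR _ hx, c.symm (c.rest u v x) w, zero_add, add_zero] at h2
  have h3 : (2 : K) * c.h w (c.rest u v x) = 0 := by linear_combination h2
  conv_lhs => rw [c.decomp u v x]
  simp only [map_add, map_smul, smul_eq_mul, c.symm w u, hw.1, c.symm w v, hw.2, mul_zero, zero_add,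
    (mul_eq_zero.1 h3).resolve_left c.two']

/-- `Ω ∩ N(K)` moves any singular line to any other. -/
theorem exists_map_line (hM : Below K M) {u u' : ι → F} (hu : c.h u u = 0) (hu0 : u ≠ 0)
    (hu' : c.h u' u' = 0) (hu'0 : u' ≠ 0) :
    ∃ g ∈ M, Lin K g ∧ g ∈ Cfsg.Omega F ⇑Q ∧ ∃ a : K, a ≠ 0 ∧ mat Q g *ᵥ u = a • u' := by
  by_cases hdep : ∃ k : K, u' = k • u
  · obtain ⟨a, rfl⟩ := hdep
    have ha : a ≠ 0 := fun e => hu'0 (by rw [e, zero_smul])
    refine ⟨1, M.one_mem, fun k x => by simp [mat_one], one_mem _, a⁻¹, inv_ne_zero ha, ?_⟩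
    rw [mat_one, one_mulVec, inv_smul_smul₀ ha]
  push Not at hdep
  obtain ⟨z, hz, hzu, hzu'⟩ : ∃ z, c.h z z = 0 ∧ c.h z u ≠ 0 ∧ c.h z u' ≠ 0 := by
    by_cases huu' : c.h u u' = 0
    · obtain ⟨x₁, h11, h12⟩ := c.exists_dual_perp (a := u') (b := u) hdep
      obtain ⟨x₂, h21, h22⟩ := c.exists_dual_perp (a := u) (b := u') (fun k hk => hdep k⁻¹ (by
        rw [hk, inv_smul_smul₀ fun e => hu0 (by rw [hk, e, zero_smul])]))
      obtain ⟨p, hp⟩ : ∃ p, p = x₁ + x₂ := ⟨_, rfl⟩
      have e1 : c.h u p = 1 := by rw [hp, map_add, h11, h22, zero_add]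
      have e2 : c.h u' p = 1 := by rw [hp, map_add, h12, h21, add_zero]
      refine ⟨p - c.q p • u, ?_, ?_, ?_⟩
      · simp only [map_sub, map_smul, LinearMap.sub_apply, LinearMap.smul_apply, smul_eq_mul, hu, e1, c.symm p u]
        linear_combination -c.two_q p
      · simp [hu, e1, c.symm p u]
      · simp [huu', e2, c.symm p u']
    · obtain ⟨w, hwu, hwu', hww⟩ := c.exists_aniso_perp hu hu' huu'
      obtain ⟨a, ha⟩ : ∃ a, a = -c.h w w / (2 * c.h u u') := ⟨_, rfl⟩
      have h2 := c.two'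
      refine ⟨u + a • u' + w, ?_, ?_, ?_⟩
      · simp only [map_add, map_smul, LinearMap.add_apply, LinearMap.smul_apply, smul_eq_mul, hu, hu', hwu, hwu',
          c.symm w u, c.symm w u', c.symm u' u, ha]
        field_simp
        ring
      · simp [hu, c.symm u' u, c.symm w u, hwu, ha, h2, huu', hww]
      · simp [hu', c.symm w u', hwu', huu']
  obtain ⟨b, hb⟩ : ∃ b, b = c.h z u / c.h z u' := ⟨_, rfl⟩
  obtain ⟨g, hgM, hgl, hgΩ, -, hgu⟩ := c.exists_move hM hz hu (y := b • u') (by simp [hu']) hzu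
    (by rw [map_smul, smul_eq_mul, hb, div_mul_cancel₀ _ hzu'])
  exact ⟨g, hgM, hgl, hgΩ, b, by rw [hb]; exact div_ne_zero hzu hzu', hgu⟩

/-- `Ω ∩ N(K)` moves any hyperbolic pair to any other, up to scalars. -/
theorem exists_map_pair (hM : Below K M) {u v u' v' : ι → F} (hp : c.Pair u v) (hp' : c.Pair u' v') :
    ∃ g ∈ M, Lin K g ∧ g ∈ Cfsg.Omega F ⇑Q ∧ ∃ a : K, a ≠ 0 ∧ mat Q g *ᵥ u = a • u' ∧
      mat Q g *ᵥ v = a⁻¹ • v' := by
  obtain ⟨g, hgM, hgl, hgΩ, a, ha, hgu⟩ := c.exists_map_line hM hp.1 hp.left_ne hp'.1 hp'.left_ne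
  set y := mat Q g *ᵥ v with hy
  have hyy : c.h y y = 0 := by rw [hy, c.h_map hgl, hp.2.1]
  have hu'y : a * c.h u' y = 1 := by
    have := c.h_map hgl u v
    rw [hgu, LinearMap.map_smul₂, hp.2.2, ← hy] at this
    simpa using this
  have hne : c.h u' y ≠ 0 := fun e => one_ne_zero (by rw [← hu'y, e, mul_zero])
  have hval : c.h u' y = a⁻¹ := eq_inv_of_mul_eq_one_right hu'y
  obtain ⟨k, hkM, hkl, hkΩ, hku, hky⟩ := c.exists_move hM hp'.1 hyy (y := a⁻¹ • v')
    (by simp [hp'.2.1]) hne (by rw [map_smul, hp'.2.2, hval, smul_eq_mul, mul_one])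
  refine ⟨k * g, M.mul_mem hkM hgM, hkl.mul hgl, mul_mem hkΩ hgΩ, a, ha, ?_, ?_⟩
  · rw [mat_mul, ← mulVec_mulVec, hgu, hkl, hku]
  · rw [mat_mul, ← mulVec_mulVec, ← hy, hky]

theorem fdF : FiniteDimensional F K := FiniteDimensional.of_finrank_pos (by rw [c.deg]; exact c.prime.pos)

theorem card_aut : Nat.card (K ≃ₐ[F] K) = c.r := by
  have := c.finite
  have := c.fdF
  rw [IsGalois.card_aut_eq_finrank, c.deg]

theorem three_le_r : 3 ≤ c.r := by
  have := c.prime.two_le
  have := c.odd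
  omega

/-- Field automorphisms of square one on an element fix it. -/
theorem fixed_of_sq (e : K ≃ₐ[F] K) {x : K} (h : e (e x) = x) : e x = x := by
  have := c.finite
  have := c.fdF
  have he := pow_card_eq_one' (x := e)
  rw [c.card_aut] at he
  have h2 : ∀ i : ℕ, (e ^ (2 * i)) x = x := fun i => by
    induction i with
    | zero => rfl
    | succ i ih =>
      rw [show 2 * (i + 1) = (2 * i) + 2 by ring, pow_add, AlgEquiv.mul_apply, pow_two, AlgEquiv.mul_apply, h, ih]
  obtain ⟨j, hj⟩ := c.prime.odd_of_ne_two c.odd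
  have h3 : (e ^ c.r) x = x := by rw [he]; rfl
  rw [hj, pow_succ', AlgEquiv.mul_apply, h2] at h3
  exact h3

/-- A field automorphism inverts only the elements of square one. -/
theorem sq_eq_one_of_inv (e : K ≃ₐ[F] K) {k : K} (hk : k ≠ 0) (h : e k = k⁻¹) : k * k = 1 := by
  have h2 := c.fixed_of_sq e (show e (e k) = k by rw [h, map_inv₀, h, inv_inv])
  rw [h] at h2
  nth_rw 1 [← h2]
  exact inv_mul_cancel₀ hk

/-- An additive map intertwining `k` with an element not conjugate to it vanishes. -/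
theorem intertwine_eq_zero {A : K →ₗ[F] K} {k k' : K} (hne : ∀ e : K ≃ₐ[F] K, e k ≠ k')
    (hA : ∀ l, A (k * l) = k' * A l) : A = 0 := by
  have := c.finite
  have := c.fdF
  have hpoly : ∀ (f : Polynomial F) (l : K), A (Polynomial.aeval k f * l) = Polynomial.aeval k' f * A l := by
    intro f
    induction f using Polynomial.induction_on' with
    | add f g hf hg => intro l; rw [map_add, map_add, add_mul, map_add, hf, hg, add_mul]
    | monomial n a =>
      have hp : ∀ (n : ℕ) (l : K), A (k ^ n * l) = k' ^ n * A l := fun n => by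
        induction n with
        | zero => intro l; simp
        | succ n ih => intro l; rw [pow_succ', mul_assoc, hA, ih, pow_succ', mul_assoc]
      intro l
      rw [Polynomial.aeval_monomial, Polynomial.aeval_monomial, ← Algebra.smul_def, ← Algebra.smul_def,
        smul_mul_assoc, map_smul, hp, smul_mul_assoc]
  have hk : IsIntegral F k := Algebra.IsIntegral.isIntegral k
  have hne' : Polynomial.aeval k' (minpoly F k) ≠ 0 := fun h0 => by
    obtain ⟨e, he'⟩ := minpoly.exists_algEquiv_of_root' (K := F) (L := K) hk.isAlgebraic h0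
    exact hne e he'
  ext l
  have h := hpoly (minpoly F k) l
  rw [minpoly.aeval, zero_mul, map_zero, eq_comm, mul_eq_zero] at h
  exact h.resolve_left hne'

/-! ### The torus -/

/-- The map scaling a pair by `k` and `k⁻¹`. -/
def torMap (u v : ι → F) (k : K) : (ι → F) →ₗ[K] (ι → F) :=
  LinearMap.id + ((k - 1) • c.h v).smulRight u + ((k⁻¹ - 1) • c.h u).smulRight v

theorem torMap_apply (u v : ι → F) (k : K) (x : ι → F) :
    c.torMap u v k x = x + ((k - 1) * c.h v x) • u + ((k⁻¹ - 1) * c.h u x) • v := rfl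

theorem h_torMap {u v : ι → F} (hp : c.Pair u v) {k : K} (hk : k ≠ 0) (x y : ι → F) :
    c.h (c.torMap u v k x) (c.torMap u v k y) = c.h x y := by
  simp only [torMap_apply, map_add, map_smul, LinearMap.add_apply, LinearMap.smul_apply, smul_eq_mul,
    hp.1, hp.2.1, hp.2.2, hp.vu, c.symm x u, c.symm x v, c.symm y u, c.symm y v]
  field_simp
  ring

/-- An isometry scaling a pair. -/
def IsTor (u v : ι → F) (k : K) (g : Isom Q) : Prop := ∀ x, mat Q g *ᵥ x = c.torMap u v k x

theorem IsTor.lin {u v : ι → F} {k : K} {g : Isom Q} (hg : c.IsTor u v k g) : Lin K g :=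
  fun l x => by rw [hg, hg, map_smul]

theorem IsTor.apply_left {u v : ι → F} (hp : c.Pair u v) {k : K} {g : Isom Q} (hg : c.IsTor u v k g) (a : K) :
    mat Q g *ᵥ (a • u) = (k * a) • u := by
  rw [hg, torMap_apply]
  simp [hp.1, hp.vu]
  module

theorem IsTor.apply_right {u v : ι → F} (hp : c.Pair u v) {k : K} {g : Isom Q} (hg : c.IsTor u v k g) (a : K) :
    mat Q g *ᵥ (a • v) = (k⁻¹ * a) • v := by
  rw [hg, torMap_apply]
  simp [hp.2.1, hp.2.2]
  module

theorem IsTor.apply_rest {u v : ι → F} {k : K} {g : Isom Q} (hg : c.IsTor u v k g) {w : ι → F}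
    (hw : c.Rest u v w) : mat Q g *ᵥ w = w := by
  rw [hg, torMap_apply, hw.1, hw.2]
  simp

theorem IsTor.inv {u v : ι → F} (hp : c.Pair u v) {k : K} (hk : k ≠ 0) {g : Isom Q}
    (hg : c.IsTor u v k g) : c.IsTor u v k⁻¹ g⁻¹ := fun x => by
  refine (mulVec_eq_iff g).1 ?_
  rw [mulVec_inv_cancel, hg]
  simp only [torMap_apply, map_add, map_smul, smul_eq_mul, hp.1, hp.2.1, hp.2.2, hp.vu, inv_inv]
  match_scalars <;> field_simp <;> ring

theorem exists_tor_isom {u v : ι → F} (hp : c.Pair u v) {k : K} (hk : k ≠ 0) :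
    ∃ g : Isom Q, c.IsTor u v k g :=
  c.exists_isom _ (c.h_torMap hp hk)

/-- Square parameters give members of the group. -/
theorem exists_tor {M : Subgroup (Isom Q)} (hM : Below K M) {u v : ι → F} (hp : c.Pair u v) {l : K}
    (hl : l ≠ 0) : ∃ g ∈ M, g ∈ Cfsg.Omega F ⇑Q ∧ c.IsTor u v (l * l) g := by
  obtain ⟨g, hg⟩ := c.exists_tor_isom hp hl
  refine ⟨g * g, c.sq_mem hM hg.lin, mul_self_mem_omega c.two c.nondeg g, fun x => ?_⟩
  rw [mat_mul, ← mulVec_mulVec, hg, hg]
  simp only [torMap_apply, map_add, map_smul, smul_eq_mul, hp.1, hp.2.1, hp.2.2, hp.vu, mul_inv]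
  match_scalars <;> field_simp <;> ring

/-! ### The radical -/

/-- Fixing everything orthogonal to the line of `u`. -/
def InZ (u : ι → F) (r : Isom Q) : Prop := ∀ x, c.h u x = 0 → mat Q r *ᵥ x = x

/-- No non-trivial member of `M` fixes the orthogonal of the line of `u`. -/
def NoZ (M : Subgroup (Isom Q)) (u : ι → F) : Prop := ∀ r ∈ M, c.InZ u r → r = 1

/-- Orthogonality to a whole `K`-line. -/
theorem h_eq_zero_of_polar {x y : ι → F} (e : ∀ k : K, QuadraticMap.polar (⇑Q) (k • x) y = 0) :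
    c.h x y = 0 :=
  c.h_eq_of_trace fun l => by rw [mul_zero, map_zero, ← e l, c.tr, LinearMap.map_smul₂, smul_eq_mul]

theorem eq_of_h {x y : ι → F} (e : ∀ z, c.h x z = c.h y z) : x = y :=
  sub_eq_zero.1 (c.h_sep fun z => by rw [map_sub, LinearMap.sub_apply, e, sub_self])

theorem eK_partner {u v w : ι → F} (hp : c.Pair u v) (hw : c.Rest u v w) (k : K) :
    c.eK u w (k • v) = k • v + k • w - (c.q w * k) • u := by
  rw [eK_apply, map_smul, map_smul, hp.2.2, show c.h w v = 0 by rw [c.symm, hw.2]]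
  simp [add_sub_assoc]

end Ext

end CfsgLib.OrthExtGen
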