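import Cfsg.Agent.OrthExtGen.Main
import Cfsg.Agent.ExtField.Bridge

/-!
# The normaliser of a self-adjoint field of odd prime degree in `Ω`

`isMaximalIn_selfAdjoint_prime`: it is maximal, the dimension over the field at least three, five for cubic fields.
-/

set_option autoImplicit false
set_option backward.isDefEq.respectTransparency false

namespace CfsgLib.OrthExtGen

open Matrix Module Cfsg.Geo CfsgLib.Spinor CfsgLib.OrthMax
open CfsgLib.ExtField (mulVecModule isField_subalgebra exists_dual_comp mem_normalizer_of_conj_mem)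

variable {F : Type*} [Field F] [Fintype F]

set_option maxHeartbeats 1000000 in
set_option synthInstance.maxHeartbeats 100000 in
/-- The normaliser of a self-adjoint field of odd prime degree is maximal in `Ω`, `q` odd. -/
theorem isMaximalIn_selfAdjoint_prime {ι : Type} [Fintype ι] [DecidableEq ι] {Q : (ι → F) → F}
    (hQ : IsNondegenerateQuadraticForm Q) (hodd : Odd (Fintype.card F)) {r : ℕ} (hr : r.Prime)
    (hr2 : r ≠ 2) (hn : 3 * r ≤ Fintype.card ι) (h3 : r = 3 → 13 ≤ Fintype.card ι)
    {K : Subalgebra F (Matrix ι ι F)} (hK : IsFieldSubalgebra r K)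
    (hsa : IsSelfAdjointFor (QuadraticMap.polar Q) K) :
    IsMaximalIn (omegaGL Q) (subalgebraNormalizer K ⊓ omegaGL Q) := by
  classical
  have h2 : (2 : F) ≠ 0 := fun h => by
    have hc : (Fintype.card F : F) = 0 := FiniteField.cast_card_eq_zero F
    obtain ⟨k, hk⟩ := hodd
    rw [hk] at hc
    push_cast at hc
    rw [h, zero_mul, zero_add] at hc
    exact one_ne_zero hc
  set q := AschbacherQuad.quadForm hQ
  have hq := AschbacherQuad.quadForm_nondegenerate hQ
  change IsMaximalIn (omegaGL ⇑q) (subalgebraNormalizer K ⊓ omegaGL ⇑q)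
  have hsa' : IsSelfAdjointFor (QuadraticMap.polar ⇑q) K := hsa
  have : Nonempty ι := Fintype.card_pos_iff.1 (by have := hr.two_le; omega)
  let _ : Field K := (isField_subalgebra hK).toField
  let _ : Module K (ι → F) := mulVecModule K
  have hsmul : ∀ (a : K) (v : ι → F), a • v = (a : Matrix ι ι F) *ᵥ v := fun _ _ => rfl
  have : IsScalarTower F K (ι → F) := ⟨fun c a v => by rw [hsmul, hsmul]; exact Matrix.smul_mulVec c _ v⟩
  have : Finite K := Subtype.finite
  have htr0 : Algebra.trace F K ≠ 0 := by
    obtain ⟨z, hz⟩ := Algebra.trace_surjective F K 1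
    exact fun h => zero_ne_one (by rw [← hz, h]; rfl)
  choose ψ hψ using fun x => exists_dual_comp (K := K) htr0 (QuadraticMap.polarBilin q x)
  have huniq : ∀ a b : K, (∀ l : K, Algebra.trace F K (l * a) = Algebra.trace F K (l * b)) → a = b := by
    intro a b h
    by_contra hne
    obtain ⟨s, hs'⟩ := Algebra.trace_surjective F K 1
    have := h (s / (a - b))
    rw [← sub_eq_zero, ← map_sub, ← mul_sub, div_mul_cancel₀ _ (sub_ne_zero.mpr hne), hs'] at this
    exact one_ne_zero this
  have hψl : ∀ (x y : ι → F) (l : K), Algebra.trace F K (l * ψ x y) = QuadraticMap.polar (⇑q) x (l • y) :=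
    fun x y l => by rw [← smul_eq_mul, ← map_smul, hψ, QuadraticMap.polarBilin_apply_apply]
  have hkl : ∀ (l : K) (x y : ι → F),
      QuadraticMap.polar (⇑q) (l • x) y = QuadraticMap.polar (⇑q) x (l • y) := fun l x y => by
    rw [hsmul, hsmul]; exact hsa' _ l.2 x y
  let h : (ι → F) →ₗ[K] (ι → F) →ₗ[K] K :=
    { toFun := ψ
      map_add' := fun a b => LinearMap.ext fun y => huniq _ _ fun l => by
        rw [hψl, QuadraticMap.polar_add_left, LinearMap.add_apply, mul_add, map_add, hψl, hψl]
      map_smul' := fun k a => LinearMap.ext fun y => huniq _ _ fun l => by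
        rw [hψl, hkl, RingHom.id_apply, LinearMap.smul_apply, smul_eq_mul, ← mul_assoc, hψl,
          smul_smul, mul_comm] }
  have hsymm : ∀ u v, h u v = h v u := fun u v => huniq _ _ fun l => by
    show Algebra.trace F K (l * ψ u v) = Algebra.trace F K (l * ψ v u)
    rw [hψl, hψl, ← hkl, QuadraticMap.polar_comm]
  have hmul : r * finrank K (ι → F) = Fintype.card ι := by
    have := Module.finrank_mul_finrank F K (ι → F)
    rwa [hK.finrank_eq, Module.finrank_pi] at this
  have hd3 : 3 ≤ finrank K (ι → F) := Nat.le_of_mul_le_mul_left (hmul ▸ (mul_comm r 3).trans_le hn) hr.pos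
  let c : Ext q K :=
    { h := h
      tr := fun u v => (hψ u v).symm
      symm := hsymm
      r := r
      prime := hr
      odd := hr2
      deg := hK.finrank_eq
      dim := hd3
      two := h2
      nondeg := hq }
  have hN : c.r = 3 → 5 ≤ finrank K (ι → F) := fun (e : r = 3) => by
    have := h3 e
    rw [e] at hmul
    omega
  have hmem : ∀ g : Isom q, (g : GL ι F) ∈ subalgebraNormalizer K ↔ Norm K g := by
    intro g
    constructor
    · intro hg k
      refine ⟨⟨_, (hg k.1).mp k.2⟩, fun v => ?_⟩
      rw [hsmul, hsmul, Matrix.mulVec_mulVec, Matrix.mulVec_mulVec]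
      congr 1
      show ((g : GL ι F) : Matrix ι ι F) * k.1 = _ * ((g : GL ι F) : Matrix ι ι F)
      rw [mul_assoc _ _ ((g : GL ι F) : Matrix ι ι F), Units.inv_mul, mul_one]
    · intro hg
      refine mem_normalizer_of_conj_mem fun k hk => ?_
      obtain ⟨b, hb⟩ := hg ⟨k, hk⟩
      have e : ((g : GL ι F) : Matrix ι ι F) * k = b.1 * ((g : GL ι F) : Matrix ι ι F) := by
        refine Matrix.ext_iff_mulVec.mpr fun v => ?_
        rw [← Matrix.mulVec_mulVec, ← Matrix.mulVec_mulVec]
        exact hb v
      rw [e, mul_assoc, Units.mul_inv, mul_one]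
      exact b.2
  refine OrthMax.isMaximalIn_omega _ ?_ fun M hM g hgM hgΩ hg => ?_
  · obtain ⟨g, hgΩ, hg⟩ := c.exists_omega_not_norm
    exact ⟨g, hgΩ, fun h' => hg ((hmem g).1 h')⟩
  · exact le_trans (c.omega_le hN (M := M ⊓ Cfsg.Omega F ⇑q)
      (fun x hx hxn => ⟨hM x hx ((hmem x).2 hxn), hx⟩) inf_le_right ⟨hgM, hgΩ⟩ fun h' => hg ((hmem g).2 h'))
      inf_le_left

set_option synthInstance.maxHeartbeats 100000 in
/-- The degree of a field of matrices divides the dimension. -/
theorem dvd_card {ι : Type} [Fintype ι] [DecidableEq ι] [Nonempty ι] {K : Subalgebra F (Matrix ι ι F)}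
    {r : ℕ} (hK : IsFieldSubalgebra r K) : r ∣ Fintype.card ι := by
  let _ : Field K := (isField_subalgebra hK).toField
  let _ : Module K (ι → F) := mulVecModule K
  have : IsScalarTower F K (ι → F) := ⟨fun c a v => Matrix.smul_mulVec c _ v⟩
  exact ⟨_, by rw [← hK.finrank_eq, ← Module.finrank_pi (R := F), Module.finrank_mul_finrank F K (ι → F)]⟩

end CfsgLib.OrthExtGen
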