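import Cfsg.Agent.OrthExtGen.Roots
import Cfsg.Agent.Forms.OrthDet

/-!
# The torus of a hyperbolic pair: centraliser and normaliser

`tor_of_commute`: isometries of the plane commuting with a generating torus element are torus elements;
`maps_of_conj`: those normalising the torus fix or swap the two lines, semilinearly. Swaps have determinant
`-1`; a semilinear element in an overgroup of the normaliser puts all root maps inside (`omega_le_of_semi`).
-/

set_option autoImplicit false
set_option linter.unusedSectionVars false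
set_option maxHeartbeats 1000000

namespace CfsgLib.OrthExtGen

open Matrix Module CfsgLib.Spinor CfsgLib.OrthMax

variable {F : Type*} [Field F] [Fintype F] {ι : Type} [Fintype ι] [DecidableEq ι]
  {Q : QuadraticForm F (ι → F)}
variable {K : Type*} [Field K] [Algebra F K] [Module K (ι → F)] [IsScalarTower F K (ι → F)]

namespace Ext

variable (c : Ext Q K)
include c

/-- An element outside the ground field generates. -/
theorem eq_top_of_mem {S : Subalgebra F K} {k : K} (hk : k ∈ S) (hkF : ∀ t : F, algebraMap F K t ≠ k) :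
    S = ⊤ := by
  have := c.fdF
  have : IsSimpleOrder (Subalgebra F K) :=
    Subalgebra.isSimpleOrder_of_finrank_prime F K (by rw [c.deg]; exact c.prime)
  refine (IsSimpleOrder.eq_bot_or_eq_top S).resolve_left fun h => ?_
  rw [h, Algebra.mem_bot] at hk
  obtain ⟨t, ht⟩ := hk
  exact hkF t ht

/-- A map intertwining a generator is semilinear. -/
theorem apply_of_intertwine {A : K →ₗ[F] K} {k : K} (e : K ≃ₐ[F] K) (hkF : ∀ t : F, algebraMap F K t ≠ k)
    (hA : ∀ l, A (k * l) = e k * A l) (l : K) : A l = e l * A 1 := by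
  let S : Subalgebra F K :=
    { carrier := {a | ∀ l, A (a * l) = e a * A l}
      mul_mem' := fun {a b} ha hb l => by rw [mul_assoc, ha, hb, map_mul, mul_assoc]
      one_mem' := fun l => by simp
      add_mem' := fun {a b} ha hb l => by rw [add_mul, map_add, ha, hb, map_add, add_mul]
      zero_mem' := fun l => by simp
      algebraMap_mem' := fun t l => by
        rw [AlgEquiv.commutes, ← Algebra.smul_def, ← Algebra.smul_def, map_smul] }
  have hS : l ∈ S := by rw [c.eq_top_of_mem (S := S) hA hkF]; exact Algebra.mem_top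
  have := hS 1
  rwa [mul_one] at this

/-! ### Members fixing the rest -/

/-- Fixing the rest of a pair. -/
def FixRest (u v : ι → F) (g : Isom Q) : Prop := ∀ w, c.Rest u v w → mat Q g *ᵥ w = w

theorem FixRest.mul {u v : ι → F} {g g' : Isom Q} (hg : c.FixRest u v g) (hg' : c.FixRest u v g') :
    c.FixRest u v (g * g') := fun w hw => by rw [mat_mul, ← mulVec_mulVec, hg' w hw, hg w hw]

theorem rest_smul {u v w : ι → F} (k : K) (hw : c.Rest u v w) : c.Rest u v (k • w) :=
  ⟨by rw [map_smul, hw.1, smul_zero], by rw [map_smul, hw.2, smul_zero]⟩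

/-- The plane is preserved. -/
theorem rest_apply_eq_zero {u v : ι → F} (hp : c.Pair u v) {g : Isom Q} (hg : c.FixRest u v g) {y : ι → F}
    (hy : c.rest u v y = 0) : c.rest u v (mat Q g *ᵥ y) = 0 := by
  have h0 : ∀ w, c.Rest u v w → c.h (mat Q g *ᵥ y) w = 0 := fun w hw => by
    refine c.h_eq_zero_of_polar fun l => ?_
    rw [c.polar_smul_comm, ← hg _ (c.rest_smul l hw), polar_mulVec, c.tr, map_smul]
    have : c.h y w = 0 := by
      conv_lhs => rw [c.decomp u v y, hy, add_zero]
      simp [hw.1, hw.2]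
    rw [this, smul_zero, map_zero]
  refine c.h_sep fun z => ?_
  set y' := mat Q g *ᵥ y
  have hz := hp.rest_spec z
  have h1 := h0 _ hz
  have hs := hp.rest_spec y'
  conv_lhs => rw [c.decomp u v z]
  rw [c.decomp u v y'] at h1
  simp only [map_add, map_smul, LinearMap.add_apply, LinearMap.smul_apply, smul_eq_mul, hz.1, hz.2, mul_zero,
    zero_add] at h1
  simp only [map_add, map_smul, smul_eq_mul, c.symm (c.rest u v y') u, c.symm (c.rest u v y') v, hs.1, hs.2,
    mul_zero, zero_add, h1]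

theorem apply_line {u v : ι → F} (hp : c.Pair u v) {g : Isom Q} (hg : c.FixRest u v g) (l : K) :
    mat Q g *ᵥ (l • u) = c.h v (mat Q g *ᵥ (l • u)) • u + c.h u (mat Q g *ᵥ (l • u)) • v := by
  have h := c.rest_apply_eq_zero hp hg (y := l • u) (by simp [rest, hp.1, hp.vu])
  conv_lhs => rw [c.decomp u v (mat Q g *ᵥ (l • u)), h, add_zero]

theorem rest_swap (u v w : ι → F) : c.Rest u v w ↔ c.Rest v u w := ⟨fun h => ⟨h.2, h.1⟩, fun h => ⟨h.2, h.1⟩⟩

theorem torMap_swap (u v : ι → F) (k : K) : c.torMap v u k⁻¹ = c.torMap u v k := by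
  refine LinearMap.ext fun x => ?_
  simp only [torMap_apply, inv_inv]
  abel

theorem IsTor.swap {u v : ι → F} {k : K} {g : Isom Q} (hg : c.IsTor u v k g) : c.IsTor v u k⁻¹ g :=
  fun x => by rw [hg, c.torMap_swap]

/-- One line under a member carrying a torus element to another. -/
theorem maps_line {u v : ι → F} (hp : c.Pair u v) {k k' : K} (hk : k ≠ 0) (hk2 : k * k ≠ 1)
    (hkF : ∀ t : F, algebraMap F K t ≠ k) {τ τ' g : Isom Q} (hτ : c.IsTor u v k τ)
    (hτ' : c.IsTor u v k' τ') (hg : c.FixRest u v g) (he : g * τ = τ' * g) :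
    (∃ (e : K ≃ₐ[F] K) (α : K), e k = k' ∧ ∀ l, mat Q g *ᵥ (l • u) = (e l * α) • u) ∨
      ∃ (e : K ≃ₐ[F] K) (β : K), e k = k'⁻¹ ∧ ∀ l, mat Q g *ᵥ (l • u) = (e l * β) • v := by
  let G : K →ₗ[F] (ι → F) := Matrix.toLin' (mat Q g) ∘ₗ
    (LinearMap.toSpanSingleton K (ι → F) u).restrictScalars F
  have hG : ∀ l : K, G l = mat Q g *ᵥ (l • u) := fun l => by simp [G]
  let A : K →ₗ[F] K := ((c.h v).restrictScalars F) ∘ₗ G
  let B : K →ₗ[F] K := ((c.h u).restrictScalars F) ∘ₗ G
  have hstep : ∀ l : K, G (k * l) = c.torMap u v k' (G l) := fun l => by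
    rw [hG, hG, ← hτ', ← hτ.apply_left c hp, mulVec_mulVec, mulVec_mulVec, ← mat_mul, ← mat_mul, he]
  have hA : ∀ l : K, A (k * l) = k' * A l := fun l => by
    show c.h v (G (k * l)) = k' * c.h v (G l)
    rw [hstep, torMap_apply]
    simp [hp.2.1, hp.vu]
    ring
  have hB : ∀ l : K, B (k * l) = k'⁻¹ * B l := fun l => by
    show c.h u (G (k * l)) = k'⁻¹ * c.h u (G l)
    rw [hstep, torMap_apply]
    simp [hp.1, hp.2.2]
    ring
  have hdec : ∀ l : K, mat Q g *ᵥ (l • u) = A l • u + B l • v := fun l => c.apply_line hp hg l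
  by_cases hA0 : A = 0
  · right
    obtain ⟨e, he⟩ : ∃ e : K ≃ₐ[F] K, e k = k'⁻¹ := by
      by_contra! hne
      have h0 := hdec 1
      rw [c.intertwine_eq_zero hne hB, hA0, LinearMap.zero_apply, zero_smul, zero_smul, add_zero, one_smul] at h0
      exact mulVec_ne_zero g hp.left_ne h0
    refine ⟨e, B 1, he, fun l => ?_⟩
    rw [hdec, hA0, LinearMap.zero_apply, zero_smul, zero_add,
      c.apply_of_intertwine e hkF (fun l => by rw [hB, he]) l]
  · left
    obtain ⟨e, he⟩ : ∃ e : K ≃ₐ[F] K, e k = k' := by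
      by_contra! hne
      exact hA0 (c.intertwine_eq_zero hne hA)
    have hB0 : B = 0 := c.intertwine_eq_zero (fun e' he' => hk2 ?_) hB
    · refine ⟨e, A 1, he, fun l => ?_⟩
      rw [hdec, hB0, LinearMap.zero_apply, zero_smul, add_zero,
        c.apply_of_intertwine e hkF (fun l => by rw [hA, he]) l]
    · have h1 : (e'.trans e.symm) k = k⁻¹ := by
        rw [AlgEquiv.trans_apply, he', ← he, map_inv₀, AlgEquiv.symm_apply_apply]
      exact c.sq_eq_one_of_inv _ hk h1

/-- Members commuting with a generating torus element. -/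
theorem tor_of_commute {u v : ι → F} (hp : c.Pair u v) {k : K} (hk : k ≠ 0) (hk2 : k * k ≠ 1)
    (hkF : ∀ t : F, algebraMap F K t ≠ k) {τ g : Isom Q} (hτ : c.IsTor u v k τ) (hg : c.FixRest u v g)
    (he : g * τ = τ * g) : ∃ γ : K, γ ≠ 0 ∧ c.IsTor u v γ g := by
  have hfix : ∀ e : K ≃ₐ[F] K, e k = k → ∀ l, e l = l := fun e hek l => by
    have := c.apply_of_intertwine (A := (e : K ≃ₐ[F] K).toLinearMap) AlgEquiv.refl hkF (fun l => by
      simp [hek]) l
    simpa using this
  have hinv : ∀ e : K ≃ₐ[F] K, e k ≠ k⁻¹ := fun e h => hk2 (c.sq_eq_one_of_inv e hk h)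
  obtain ⟨e, α, hek, hu⟩ | ⟨e, -, hek, -⟩ := c.maps_line hp hk hk2 hkF hτ hτ hg he
  swap; · exact absurd hek (hinv e)
  have hk' : ∀ t : F, algebraMap F K t ≠ k⁻¹ := fun t h => hkF t⁻¹ (by rw [map_inv₀, h, inv_inv])
  obtain ⟨e', γ, hek', hv⟩ | ⟨e', -, hek', -⟩ := c.maps_line hp.symm (inv_ne_zero hk)
    (fun h => hk2 (inv_eq_one.1 (by rw [_root_.mul_inv, h]))) hk' hτ.swap hτ.swap
    (fun w hw => hg w ((c.rest_swap u v w).2 hw)) he
  swap; · exact absurd (by rw [inv_inv, map_inv₀, inv_eq_iff_eq_inv] at hek'; exact hek') (hinv e')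
  rw [map_inv₀, _root_.inv_inj] at hek'
  simp only [hfix e hek] at hu
  simp only [hfix e' hek'] at hv
  have hprod : α * γ = 1 := c.h_eq_of_trace fun l => by
    have h := polar_mulVec Q g (l • u) v
    rw [hu, show mat Q g *ᵥ v = γ • v by simpa using hv 1, c.tr, c.tr] at h
    simp only [map_smul, LinearMap.smul_apply, hp.2.2, smul_eq_mul, mul_one] at h
    rw [mul_one, ← h]
    congr 1
    ring
  refine ⟨α, left_ne_zero_of_mul_eq_one hprod, fun x => ?_⟩
  conv_lhs => rw [c.decomp u v x, mulVec_add, mulVec_add, hu, hv, hg _ (hp.rest_spec x)]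
  rw [torMap_apply, rest, eq_inv_of_mul_eq_one_right hprod]
  module

/-! ### Determinants -/

theorem det_eq_one {g : Isom Q} (hg : g ∈ Cfsg.Omega F ⇑Q) : (mat Q g).det = 1 :=
  (Forms.mem_special_iff g).1 (Forms.omega_le_special hg)

theorem det_of_eq {g : Isom Q} {f : (ι → F) →ₗ[K] (ι → F)} (hf : ∀ x, mat Q g *ᵥ x = f x) :
    (mat Q g).det = Algebra.norm F f.det := by
  rw [← LinearMap.det_toLin', ← LinearMap.det_restrictScalars]
  congr 1
  refine LinearMap.ext fun x => ?_
  simpa using hf x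

/-- The semilinear map of a pair. -/
def semiMap (u v : ι → F) (e : K ≃ₐ[F] K) (x : ι → F) : ι → F :=
  x + (e (c.h v x) - c.h v x) • u + (e (c.h u x) - c.h u x) • v

/-- Scaling the lines of a pair semilinearly. -/
def IsSemi (u v : ι → F) (e : K ≃ₐ[F] K) (g : Isom Q) : Prop := ∀ x, mat Q g *ᵥ x = c.semiMap u v e x

theorem h_semiMap_left {u v : ι → F} (hp : c.Pair u v) (e : K ≃ₐ[F] K) (x : ι → F) :
    c.h u (c.semiMap u v e x) = e (c.h u x) := by
  simp [semiMap, hp.1, hp.2.2]

theorem semiMap_semiMap {u v : ι → F} (hp : c.Pair u v) (e e' : K ≃ₐ[F] K) (x : ι → F) :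
    c.semiMap u v e (c.semiMap u v e' x) = c.semiMap u v (e * e') x := by
  simp only [semiMap, map_add, map_smul, smul_eq_mul, hp.1, hp.2.1, hp.2.2, hp.vu, AlgEquiv.mul_apply,
    mul_zero, mul_one, add_zero, add_sub_cancel]
  module

theorem exists_semi {u v : ι → F} (hp : c.Pair u v) (e : K ≃ₐ[F] K) : ∃ g : Isom Q, c.IsSemi u v e g := by
  have := c.fdF
  let f : (ι → F) →ₗ[F] (ι → F) := LinearMap.id
    + (LinearMap.toSpanSingleton K (ι → F) u).restrictScalars F ∘ₗ
      ((e.toLinearMap - LinearMap.id) ∘ₗ (c.h v).restrictScalars F)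
    + (LinearMap.toSpanSingleton K (ι → F) v).restrictScalars F ∘ₗ
      ((e.toLinearMap - LinearMap.id) ∘ₗ (c.h u).restrictScalars F)
  have hf : ∀ x, f x = c.semiMap u v e x := fun x => by simp [f, semiMap]
  have hinj : Function.Injective f := fun x y h => by
    rw [hf, hf] at h
    have := congrArg (c.semiMap u v e⁻¹) h
    rw [c.semiMap_semiMap hp, c.semiMap_semiMap hp, inv_mul_cancel] at this
    simpa [semiMap] using this
  obtain ⟨g, hg⟩ := (ExtField.glAut : GL ι F ≃* _).surjective (LinearEquiv.ofInjectiveEndo f hinj)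
  have hgv : ∀ x, (g : Matrix ι ι F) *ᵥ x = f x := fun x => by rw [← ExtField.glAut_apply, hg]; rfl
  refine ⟨⟨g, fun x _ => ?_⟩, fun x => (hgv x).trans (hf x)⟩
  show Q ((g : Matrix ι ι F) *ᵥ x) = Q x
  rw [hgv, hf]
  refine mul_left_cancel₀ c.two ?_
  rw [c.quad_eq, c.quad_eq]
  have h1 : c.h (c.semiMap u v e x) (c.semiMap u v e x)
      = c.h x x + (2 : K) * e (c.h u x * c.h v x) - (2 : K) * (c.h u x * c.h v x) := by
    simp only [semiMap, map_add, map_smul, LinearMap.add_apply, LinearMap.smul_apply, smul_eq_mul, hp.1, hp.2.1,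
      hp.2.2, hp.vu, c.symm x u, c.symm x v, map_mul]
    ring
  rw [h1, map_sub, map_add, ← map_ofNat (algebraMap F K) 2, ← Algebra.smul_def, ← Algebra.smul_def, map_smul,
    map_smul, Algebra.trace_eq_of_algEquiv]
  ring

/-- Semilinear scalings have determinant one. -/
theorem det_semi {u v : ι → F} (hp : c.Pair u v) {e : K ≃ₐ[F] K} {g : Isom Q} (hg : c.IsSemi u v e g) :
    (mat Q g).det = 1 := by
  have := c.finite
  have := c.fdF
  have hpow : ∀ i : ℕ, c.IsSemi u v (e ^ i) (g ^ i) := fun i => by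
    induction i with
    | zero => intro x; rw [pow_zero, pow_zero, mat_one, one_mulVec]; simp [semiMap]
    | succ i ih => intro x; rw [pow_succ, pow_succ, mat_mul, ← mulVec_mulVec, ih, hg, c.semiMap_semiMap hp]
  have h1 : g ^ c.r = 1 := isom_ext fun x => by
    have he := pow_card_eq_one' (x := e)
    rw [c.card_aut] at he
    rw [hpow c.r x, he, mat_one, one_mulVec]
    simp [semiMap]
  rcases Forms.det_mat_eq c.nondeg g with h | h
  · exact h
  · exfalso
    have h2 : ∀ i : ℕ, (mat Q (g ^ i)).det = (mat Q g).det ^ i := fun i => by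
      induction i with
      | zero => simp [mat_one]
      | succ i ih => rw [pow_succ, mat_mul, Matrix.det_mul, ih, pow_succ]
    have h3 := h2 c.r
    rw [h1, mat_one, Matrix.det_one, h, (c.prime.odd_of_ne_two c.odd).neg_one_pow] at h3
    exact c.two (by linear_combination h3)

theorem det_tor {u v : ι → F} (hp : c.Pair u v) {k : K} (hk : k ≠ 0) {g : Isom Q} (hg : c.IsTor u v k g) :
    (mat Q g).det = 1 := by
  classical
  have := c.fdK
  rw [c.det_of_eq (f := c.torMap u v k) hg]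
  suffices (c.torMap u v k).det = 1 by rw [this, map_one]
  have h : c.torMap u v k = LinearMap.transvection ((k - 1) • c.h v) u ∘ₗ
      LinearMap.transvection ((k⁻¹ - 1) • c.h u) v := by
    refine LinearMap.ext fun x => ?_
    simp only [torMap_apply, LinearMap.comp_apply, LinearMap.transvection.apply, LinearMap.smul_apply, map_add,
      map_smul, hp.2.1, smul_eq_mul, mul_zero, add_zero, zero_smul, add_assoc]
  rw [h, LinearMap.det_comp, LinearMap.transvection.det, LinearMap.transvection.det]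
  simp [hp.2.2, hp.vu, hk]

/-- A member swapping the lines of a pair semilinearly has determinant `-1`. -/
theorem not_swap {u v : ι → F} (hp : c.Pair u v) {g : Isom Q} (hgΩ : g ∈ Cfsg.Omega F ⇑Q)
    (hg : c.FixRest u v g) {e e' : K ≃ₐ[F] K} {α β : K} (hu : ∀ l, mat Q g *ᵥ (l • u) = (e l * α) • v)
    (hv : ∀ l, mat Q g *ᵥ (l • v) = (e' l * β) • u) : False := by
  classical
  have := c.fdK
  have := c.finite
  have := c.fdF
  have hα : α ≠ 0 := fun h => mulVec_ne_zero g hp.left_ne (by simpa [h] using hu 1)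
  have hval : ∀ l m : K, Algebra.trace F K (e l * α * (e' m * β)) = Algebra.trace F K (l * m) := fun l m => by
    have := polar_mulVec Q g (l • u) (m • v)
    rw [hu, hv, c.tr, c.tr] at this
    simpa [hp.2.2, hp.vu, mul_comm, mul_left_comm, mul_assoc] using this
  have hab : α * β = 1 := c.h_eq_of_trace fun l => by
    have := hval (e.symm l) 1
    rw [AlgEquiv.apply_symm_apply, map_one, one_mul, mul_one, ← Algebra.trace_eq_of_algEquiv e (e.symm l),
      AlgEquiv.apply_symm_apply] at this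
    rw [mul_one, ← mul_assoc]
    exact this
  have hee : e' = e := AlgEquiv.ext fun m => c.h_eq_of_trace fun l => by
    have := hval (e.symm l) m
    rw [AlgEquiv.apply_symm_apply, show l * α * (e' m * β) = (α * β) * (l * e' m) by ring, hab, one_mul,
      ← Algebra.trace_eq_of_algEquiv e (e.symm l * m), map_mul e, AlgEquiv.apply_symm_apply] at this
    exact this
  subst hee
  obtain ⟨se, hse⟩ := c.exists_semi hp e'
  obtain ⟨t, ht⟩ := c.exists_tor_isom hp hα
  let φ : Module.Dual K (ι → F) := c.h (u - v)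
  let S : (ι → F) →ₗ[K] (ι → F) := LinearMap.transvection φ (u - v)
  have hS : ∀ x, S x = x + (c.h u x - c.h v x) • (u - v) := fun x => by
    simp [S, φ, LinearMap.transvection.apply]
  obtain ⟨sw, hsw⟩ := c.exists_isom S fun x y => by
    rw [hS, hS]
    simp only [map_add, map_sub, map_smul, LinearMap.add_apply, LinearMap.sub_apply, LinearMap.smul_apply,
      smul_eq_mul, hp.1, hp.2.1, hp.2.2, hp.vu, c.symm x u, c.symm x v, c.symm y u, c.symm y v]
    ring
  have hdsw : (mat Q sw).det = -1 := by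
    rw [c.det_of_eq hsw, LinearMap.transvection.det]
    have h2 : (1 : K) + φ (u - v) = algebraMap F K (-1) := by
      simp [φ, hp.1, hp.2.1, hp.2.2, hp.vu]
    rw [h2, Algebra.norm_algebraMap, c.deg, (c.prime.odd_of_ne_two c.odd).neg_one_pow]
  have hβ : β = α⁻¹ := eq_inv_of_mul_eq_one_right hab
  have heq : g = sw * (t * se) := isom_ext fun x => by
    rw [mat_mul, mat_mul, ← mulVec_mulVec, ← mulVec_mulVec, hse, ht, hsw]
    conv_lhs => rw [c.decomp u v x, mulVec_add, mulVec_add, hu, hv, hg _ (hp.rest_spec x), hβ]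
    rw [hS, torMap_apply, rest]
    simp only [semiMap, map_add, map_smul, smul_eq_mul, hp.1, hp.2.1, hp.2.2, hp.vu]
    module
  have h := c.det_eq_one hgΩ
  rw [heq, mat_mul, mat_mul, Matrix.det_mul, Matrix.det_mul, hdsw, c.det_tor hp hα ht, c.det_semi hp hse] at h
  exact c.two (by linear_combination -h)

/-- A member scaling the lines of a pair semilinearly, not linearly, puts `Ω` inside. -/
theorem omega_le_of_semi {M : Subgroup (Isom Q)} (hM : Below K M) {u v : ι → F} (hp : c.Pair u v) {g : Isom Q}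
    (hgM : g ∈ M) (hg : c.FixRest u v g) {e : K ≃ₐ[F] K} (he : e ≠ 1) {α : K}
    (hu : ∀ l, mat Q g *ᵥ (l • u) = (e l * α) • u) : Cfsg.Omega F ⇑Q ≤ M := by
  have := c.finite
  have := c.fdF
  obtain ⟨w, hw, hw'⟩ : ∃ w, c.Rest u v w ∧ c.h w w ≠ 0 := by
    obtain ⟨w, h1, h2, h3⟩ := c.exists_aniso_perp hp.1 hp.2.1 (by rw [hp.2.2]; exact one_ne_zero)
    exact ⟨w, ⟨h1, h2⟩, h3⟩
  have hpow : ∀ i : ℕ, c.FixRest u v (g ^ i) ∧ ∃ α : K, α ≠ 0 ∧
      ∀ l, mat Q (g ^ i) *ᵥ (l • u) = ((e ^ i) l * α) • u := by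
    intro i
    induction i with
    | zero => exact ⟨fun w _ => by rw [pow_zero, mat_one, one_mulVec], 1, one_ne_zero, fun l => by
        rw [pow_zero, pow_zero, mat_one, one_mulVec]; simp⟩
    | succ i ih =>
      obtain ⟨hf, β, hβ0, hβ⟩ := ih
      have hα : α ≠ 0 := fun h => mulVec_ne_zero g hp.left_ne (by simpa [h] using hu 1)
      refine ⟨by rw [pow_succ']; exact hg.mul c hf, e β * α, mul_ne_zero ((map_ne_zero e).2 hβ0) hα, fun l => ?_⟩
      rw [pow_succ', pow_succ', mat_mul, ← mulVec_mulVec, hβ, hu, map_mul, AlgEquiv.mul_apply, mul_assoc]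
  refine c.omega_le_of_skews hM hp.1 hp.left_ne (σ := e⁻¹) (fun h => he (inv_eq_one.1 h)) fun i a r hr => ?_
  obtain ⟨hf, β, hβ0, hβ⟩ := hpow i
  set G := g ^ i with hG
  set σ := e ^ i with hσ
  have hGi : ∀ x, c.h u (mat Q G⁻¹ *ᵥ x) = σ.symm (c.h u x * β) := fun x => c.h_eq_of_trace fun l => by
    have h := polar_mulVec Q G (l • u) (mat Q G⁻¹ *ᵥ x)
    rw [mulVec_inv_cancel, hβ, c.tr, c.tr, LinearMap.map_smul₂, LinearMap.map_smul₂, smul_eq_mul, smul_eq_mul] at h
    rw [← h, ← Algebra.trace_eq_of_algEquiv σ (l * σ.symm (c.h u x * β)), map_mul σ, AlgEquiv.apply_symm_apply]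
    congr 1
    ring
  have hGr : ∀ x, c.h w (mat Q G⁻¹ *ᵥ x) = c.h w x := fun x => c.h_eq_of_trace fun l => by
    have h := polar_mulVec Q G (l • w) (mat Q G⁻¹ *ᵥ x)
    rw [mulVec_inv_cancel, hf _ (c.rest_smul l hw), c.tr, c.tr, LinearMap.map_smul₂, LinearMap.map_smul₂,
      smul_eq_mul, smul_eq_mul] at h
    exact h.symm
  obtain ⟨E, hEM, -, -, hE⟩ := c.exists_eK hM hp.1 hw.1
  have hφ : ∀ x, mat Q (G * E * G⁻¹) *ᵥ x = x + σ.symm (c.h u x * β) • w - (σ (c.h w x) * β) • u
      - (σ (c.q w) * (c.h u x * β) * β) • u := fun x => by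
    rw [mat_mul, mat_mul, ← mulVec_mulVec, ← mulVec_mulVec, hE, eK_apply, mulVec_add, mulVec_inv_cancel,
      mulVec_sub, mulVec_sub, hβ, hβ, hGi, hGr, hf _ (c.rest_smul _ hw)]
    simp only [map_mul, AlgEquiv.apply_symm_apply]
    abel
  have hσβ : σ.symm β ≠ 0 := (map_ne_zero σ.symm).2 hβ0
  obtain ⟨m, hm⟩ : ∃ m : K, m * c.h w w = a / σ.symm β := ⟨a / σ.symm β / c.h w w, div_mul_cancel₀ _ hw'⟩
  obtain ⟨E', hE'M, -, -, hE'⟩ := c.exists_eK hM hp.1 (show c.h u (m • w) = 0 by rw [map_smul, hw.1, smul_zero])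
  have hcomm : r * (G * E * G⁻¹ * E') = E' * (G * E * G⁻¹) ∨ r * (E' * (G * E * G⁻¹)) = G * E * G⁻¹ * E' := by
    have hwu : c.h w u = 0 := by rw [c.symm, hw.1]
    have hσi : (e⁻¹ ^ i : K ≃ₐ[F] K) = σ.symm := by rw [inv_pow, hσ]; rfl
    right
    refine isom_ext fun x => ?_
    rw [mat_mul Q r, mat_mul Q E', mat_mul Q _ E', ← mulVec_mulVec, ← mulVec_mulVec, ← mulVec_mulVec, hφ, hE', hr, hφ,
      hE', hσi]
    simp only [skewMap_apply, eK_apply, map_add, map_sub, map_smul, LinearMap.map_smul₂, LinearMap.smul_apply, smul_eq_mul, hp.1,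
      hw.1, hwu, mul_zero, add_zero, sub_zero, map_mul, AlgEquiv.symm_symm, AlgEquiv.apply_symm_apply,
      AlgEquiv.symm_apply_apply, c.symm w w]
    rw [show a = m * c.h w w * σ.symm β by rw [hm, div_mul_cancel₀ _ hσβ]]
    simp only [map_mul, AlgEquiv.apply_symm_apply]
    module
  have hφM : G * E * G⁻¹ ∈ M := M.mul_mem (M.mul_mem (M.pow_mem hgM i) hEM) (M.inv_mem (M.pow_mem hgM i))
  rcases hcomm with h | h
  · rw [eq_mul_inv_of_mul_eq h]
    exact M.mul_mem (M.mul_mem hE'M hφM) (M.inv_mem (M.mul_mem hφM hE'M))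
  · rw [eq_mul_inv_of_mul_eq h]
    exact M.mul_mem (M.mul_mem hφM hE'M) (M.inv_mem (M.mul_mem hE'M hφM))

end Ext

end CfsgLib.OrthExtGen
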